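import Cfsg.Agent.Lib.ReeS3.Local
import Cfsg.Agent.Lib.BSW.FourCent

/-!
# The case where the four-group automorphism centralises the torus

An element `σ` centralising `ι A` and permuting `t`, `ι i`, `t ι i` cyclically forces an `S₃`
section.
-/

set_option autoImplicit false
set_option linter.style.haveILetI false

namespace Cfsg.Agent.ReeS3

open Subgroup

universe u v

namespace Setup

variable {G : Type u} [Group G] {L : Type v} [Group L] (S : Setup G L) {q m : ℕ} (D : Data L q m)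

/-- Centralising the torus. -/
def CentA (x : G) : Prop := ∀ a ∈ D.A, Commute x (S.ι a)

/-- One of the three involutions. -/
def IsE (e : G) : Prop := e = S.t ∨ e = S.ι D.i ∨ e = S.t * S.ι D.i

/-- The hypotheses on the rotating element. -/
structure Rot (σ : G) : Prop where
  r1 : σ * S.t * σ⁻¹ = S.ι D.i
  r2 : σ * S.ι D.i * σ⁻¹ = S.t * S.ι D.i
  cent : S.CentA D σ

section

variable {S D}

theorem centA_mul {x y : G} (hx : S.CentA D x) (hy : S.CentA D y) : S.CentA D (x * y) :=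
  fun a ha => (hx a ha).mul_left (hy a ha)

theorem centA_inv {x : G} (hx : S.CentA D x) : S.CentA D x⁻¹ := fun a ha => (hx a ha).inv_left

theorem centA_pow {x : G} (hx : S.CentA D x) (n : ℕ) : S.CentA D (x ^ n) :=
  fun a ha => (hx a ha).pow_left n

theorem centA_t : S.CentA D S.t := fun a _ => (S.commute_ι a).symm

theorem centA_ιi : S.CentA D (S.ι D.i) := fun a ha => ((D.mem_A a).1 ha).1.symm.map S.ι

theorem centA_isE {e : G} (he : S.IsE D e) : S.CentA D e := by
  rcases he with rfl | rfl | rfl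
  exacts [centA_t, centA_ιi, centA_mul centA_t centA_ιi]

theorem centA_of_one_or {e : G} (he : e = 1 ∨ S.IsE D e) : S.CentA D e := by
  rcases he with rfl | he
  exacts [fun a _ => Commute.one_left _, centA_isE he]

theorem isE_sq {e : G} (he : S.IsE D e) : e * e = 1 := by
  have hi : S.ι D.i * S.ι D.i = 1 := by rw [← map_mul, ← pow_two, ← D.orderOf_i, pow_orderOf_eq_one, map_one]
  rcases he with rfl | rfl | rfl
  · exact S.t_mul_self
  · exact hi
  · rw [show S.t * S.ι D.i * (S.t * S.ι D.i) = S.t * (S.ι D.i * S.t) * S.ι D.i by group, (S.commute_ι _).eq,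
      show S.t * (S.t * S.ι D.i) * S.ι D.i = (S.t * S.t) * (S.ι D.i * S.ι D.i) by group, S.t_mul_self, hi,
      one_mul]

theorem isE_ne_one {e : G} (he : S.IsE D e) : e ≠ 1 := by
  have hi : D.i ≠ 1 := fun h => by have := D.orderOf_i; rw [h, orderOf_one] at this; omega
  rcases he with rfl | rfl | rfl
  · exact fun h => by have := S.orderOf_t; rw [h, orderOf_one] at this; omega
  · exact fun h => hi (S.ι_injective (h.trans (map_one S.ι).symm))
  · exact S.mul_ne_one _

theorem ιA_eq_one {a : L} (ha : a ∈ D.A) (h : a * a = 1) : a = 1 := by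
  obtain ⟨r, hr⟩ := D.hm_odd
  have hm := ((D.mem_A a).1 ha).2
  rwa [hr, pow_succ, pow_mul, pow_two, h, one_pow, one_mul] at hm

/-- An involution of the shape `e · ι a` has `a = 1`. -/
theorem eq_one_of_invol {e : G} (he : e = 1 ∨ S.IsE D e) {a : L} (ha : a ∈ D.A)
    (h : e * S.ι a * (e * S.ι a) = 1) : a = 1 := by
  refine ιA_eq_one ha (S.ι_injective ?_)
  have he2 : e * e = 1 := by
    rcases he with rfl | he
    exacts [one_mul 1, isE_sq he]
  rw [map_mul, map_one]
  calc S.ι a * S.ι a = (e * e) * (S.ι a * S.ι a) := by rw [he2, one_mul]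
    _ = e * (e * S.ι a) * S.ι a := by group
    _ = e * (S.ι a * e) * S.ι a := by rw [(centA_of_one_or he a ha).eq]
    _ = 1 := by rw [← h]; group

/-- The centraliser of `t` and the torus. -/
theorem exists_shape {x : G} (hx : Commute x S.t) (hA : S.CentA D x) :
    ∃ e : G, (e = 1 ∨ S.IsE D e) ∧ ∃ a ∈ D.A, x = e * S.ι a := by
  have hne : D.A ≠ ⊥ := fun h => by
    have h1 := D.card_A
    rw [h, Subgroup.card_bot] at h1
    have := D.hm; have := D.hq; omega
  obtain ⟨⟨a0, ha0⟩, ha1⟩ := Subgroup.ne_bot_iff_exists_ne_one.1 hne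
  obtain ⟨l, hl, hxl⟩ := S.exists_lift_comm hx (hA a0 ha0)
  have hi2 : D.i * D.i = 1 := by rw [← pow_two, ← D.orderOf_i, pow_orderOf_eq_one]
  rcases D.cent_A a0 ha0 (fun e => ha1 (Subtype.ext e)) l hl with h | h
  · rcases hxl with rfl | rfl
    · exact ⟨1, Or.inl rfl, l, h, (one_mul _).symm⟩
    · exact ⟨S.t, Or.inr (Or.inl rfl), l, h, rfl⟩
  · have e : S.ι l = S.ι D.i * S.ι (D.i * l) := by rw [← map_mul, ← mul_assoc, hi2, one_mul]
    rcases hxl with rfl | rfl
    · exact ⟨S.ι D.i, Or.inr (Or.inr (Or.inl rfl)), _, h, e⟩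
    · exact ⟨S.t * S.ι D.i, Or.inr (Or.inr (Or.inr rfl)), _, h, by rw [e, mul_assoc]⟩

variable {σ : G} (R : S.Rot D σ)
include R

theorem rot3 : σ * (S.t * S.ι D.i) * σ⁻¹ = S.t := by
  rw [show σ * (S.t * S.ι D.i) * σ⁻¹ = (σ * S.t * σ⁻¹) * (σ * S.ι D.i * σ⁻¹) by group, R.r1, R.r2,
    ← mul_assoc, (S.commute_ι _).eq, mul_assoc, ← map_mul, ← pow_two, ← D.orderOf_i, pow_orderOf_eq_one,
    map_one, mul_one]

theorem rot_isE {e : G} (he : S.IsE D e) : S.IsE D (σ * e * σ⁻¹) := by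
  rcases he with rfl | rfl | rfl
  exacts [Or.inr (Or.inl R.r1), Or.inr (Or.inr R.r2), Or.inl (rot3 R)]

theorem rot_isE_inv {e : G} (he : S.IsE D e) : S.IsE D (σ⁻¹ * e * σ) := by
  rcases he with rfl | rfl | rfl
  · exact Or.inr (Or.inr (by nth_rewrite 1 [← rot3 R]; group))
  · exact Or.inl (by rw [← R.r1]; group)
  · exact Or.inr (Or.inl (by rw [← R.r2]; group))

theorem rot_fix {e : G} (he : S.IsE D e) : σ * e * σ⁻¹ ≠ e := by
  have h1 : S.t ≠ S.ι D.i := fun h => S.ι_ne D.i h.symm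
  have h2 : S.ι D.i ≠ S.t * S.ι D.i := fun h => isE_ne_one (D := D) (Or.inl rfl : S.IsE D S.t) (by simpa using h.symm)
  have h3 : S.t * S.ι D.i ≠ S.t := fun h =>
    isE_ne_one (D := D) (Or.inr (Or.inl rfl) : S.IsE D (S.ι D.i)) (by simpa using h)
  rcases he with rfl | rfl | rfl
  · rw [R.r1]; exact h1.symm
  · rw [R.r2]; exact h2.symm
  · rw [rot3 R]; exact h3.symm

theorem rot_pow_isE {e : G} (he : S.IsE D e) : ∀ k : ℕ, S.IsE D (σ ^ k * e * (σ ^ k)⁻¹) := by
  intro k
  induction k with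
  | zero => simpa using he
  | succ j ih =>
    have h : σ ^ (j + 1) * e * (σ ^ (j + 1))⁻¹ = σ * (σ ^ j * e * (σ ^ j)⁻¹) * σ⁻¹ := by
      rw [pow_succ']; group
    rw [h]
    exact rot_isE R ih

theorem exists_rot_to {e : G} (he : S.IsE D e) : ∃ k : ℕ, k < 3 ∧ σ ^ k * S.t * (σ ^ k)⁻¹ = e := by
  rcases he with rfl | rfl | rfl
  · exact ⟨0, by norm_num, by simp⟩
  · exact ⟨1, by norm_num, by rw [pow_one, R.r1]⟩
  · exact ⟨2, by norm_num, by
      rw [pow_two, show σ * σ * S.t * (σ * σ)⁻¹ = σ * (σ * S.t * σ⁻¹) * σ⁻¹ by group, R.r1, R.r2]⟩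

theorem rot_pow_cube : ∀ j : ℕ, σ ^ (3 * j) * S.t * (σ ^ (3 * j))⁻¹ = S.t ∧
    σ ^ (3 * j) * S.ι D.i * (σ ^ (3 * j))⁻¹ = S.ι D.i := by
  intro j
  induction j with
  | zero => simp
  | succ j ih =>
    have e : ∀ x : G, σ ^ (3 * (j + 1)) * x * (σ ^ (3 * (j + 1)))⁻¹ =
        σ * (σ * (σ * (σ ^ (3 * j) * x * (σ ^ (3 * j))⁻¹) * σ⁻¹) * σ⁻¹) * σ⁻¹ := by
      intro x
      rw [show 3 * (j + 1) = 1 + 1 + 1 + 3 * j by ring, pow_add, pow_add, pow_add, pow_one]
      group
    rw [e, e, ih.1, ih.2, R.r1, R.r2, rot3 R, R.r1]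
    exact ⟨rfl, rfl⟩

variable [Finite G]

/-- We may take the rotating element of order three. -/
theorem exists_rot_three : ∃ τ : G, S.Rot D τ ∧ τ ^ 3 = 1 := by
  set n := orderOf σ
  set k := n.factorization 3
  set n' := n / 3 ^ k with hn'
  have h3 : ¬ 3 ∣ n' := Nat.not_dvd_ordCompl Nat.prime_three (orderOf_pos σ).ne'
  obtain ⟨j, hj⟩ : ∃ j, n' * n' = 3 * j + 1 := by
    refine ⟨n' * n' / 3, ?_⟩
    have : n' * n' % 3 = 1 := by
      rw [Nat.mul_mod]
      rcases (by omega : n' % 3 = 1 ∨ n' % 3 = 2) with h | h <;> rw [h]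
    omega
  set τ := σ ^ (n' * n') with hτ
  have hτe : ∀ x : G, τ * x * τ⁻¹ = σ ^ (3 * j) * (σ * x * σ⁻¹) * (σ ^ (3 * j))⁻¹ := by
    intro x
    rw [hτ, hj, pow_succ]
    group
  have hR : S.Rot D τ := by
    refine ⟨?_, ?_, centA_pow R.cent _⟩
    · rw [hτe, R.r1, (rot_pow_cube R j).2]
    · rw [hτe, R.r2, show σ ^ (3 * j) * (S.t * S.ι D.i) * (σ ^ (3 * j))⁻¹ =
        (σ ^ (3 * j) * S.t * (σ ^ (3 * j))⁻¹) * (σ ^ (3 * j) * S.ι D.i * (σ ^ (3 * j))⁻¹) by group,
        (rot_pow_cube R j).1, (rot_pow_cube R j).2]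
  refine ⟨τ, hR, ?_⟩
  have hpk : τ ^ (3 ^ k) = 1 := by
    rw [hτ, ← pow_mul, mul_assoc, mul_comm n' (3 ^ k), hn', Nat.ordProj_mul_ordCompl_eq_self, mul_comm,
      pow_mul, pow_orderOf_eq_one, one_pow]
  obtain ⟨hc1, hc2⟩ := rot_pow_cube hR 1
  obtain ⟨e, he, a, ha, hea⟩ := exists_shape (S := S) (D := D)
    (show Commute (τ ^ 3) S.t from mul_inv_eq_iff_eq_mul.1 hc1) (centA_pow hR.cent 3)
  have hodd : Odd (3 ^ k) := Odd.pow (show Odd 3 by decide)
  have h1 : e * S.ι (a ^ (3 ^ k)) = 1 := by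
    have h : (τ ^ 3) ^ (3 ^ k) = (e * S.ι a) ^ (3 ^ k) := by rw [hea]
    rw [← pow_mul, mul_comm, pow_mul, hpk, one_pow, (centA_of_one_or he a ha).mul_pow, ← map_pow] at h
    obtain ⟨r, hr⟩ := hodd
    have he2 : e * e = 1 := by
      rcases he with rfl | he
      exacts [one_mul 1, isE_sq he]
    rw [hr, pow_succ e, pow_mul, pow_two, he2, one_pow, one_mul] at h
    rw [hr]
    exact h.symm
  have ha3 : a ^ (3 ^ k) = 1 := eq_one_of_invol he (pow_mem ha _) (by rw [h1, one_mul])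
  have he1 : e = 1 := by rwa [ha3, map_one, mul_one] at h1
  have hm3 : Nat.Coprime (3 ^ k) m :=
    Nat.Coprime.pow_left k ((Nat.prime_three.coprime_iff_not_dvd).2 (not_three_dvd_m D))
  have ha1 : a = 1 := orderOf_eq_one_iff.1 (Nat.eq_one_of_dvd_coprimes hm3 (orderOf_dvd_of_pow_eq_one ha3)
    (orderOf_dvd_of_pow_eq_one ((D.mem_A a).1 ha).2))
  rw [hea, he1, ha1, map_one, one_mul]

end

variable [Finite G]

/-- The torus inside its centraliser. -/
theorem conj_t_isE (hfree : ¬ Cfsg.Involves (Equiv.Perm (Fin 3)) G) {σ : G} (R : S.Rot D σ)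
    (h3 : σ ^ 3 = 1) {x : G} (hx : S.CentA D x) : S.IsE D (x * S.t * x⁻¹) := by
  set X := centralizer ((D.A.map S.ι : Subgroup G) : Set G) with hX
  have memX : ∀ y : G, S.CentA D y → y ∈ X := fun y hy =>
    mem_centralizer_iff.2 (by rintro _ ⟨a, ha, rfl⟩; exact (hy a ha).eq.symm)
  have centX : ∀ y : X, S.CentA D y := fun y a ha => (mem_centralizer_iff.1 y.2 _ ⟨a, ha, rfl⟩).symm
  haveI : ((D.A.map S.ι).subgroupOf X).Normal := ⟨fun a ha y => by
    obtain ⟨a', ha', e⟩ := ha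
    refine ⟨a', ha', ?_⟩
    have e' : S.ι a' = (a : G) := e
    show S.ι a' = (y : G) * (a : G) * (y : G)⁻¹
    rw [← e', (centX y a' ha').eq, mul_inv_cancel_right]⟩
  set π := QuotientGroup.mk' ((D.A.map S.ι).subgroupOf X)
  have hπ : ∀ y z : X, π y = π z ↔ ∃ a ∈ D.A, (z : G) = y * S.ι a := by
    intro y z
    rw [QuotientGroup.mk'_eq_mk']
    constructor
    · rintro ⟨w, ⟨a, ha, e⟩, rfl⟩
      exact ⟨a, ha, by rw [e]; rfl⟩
    · rintro ⟨a, ha, e⟩
      refine ⟨y⁻¹ * z, ⟨a, ha, ?_⟩, by rw [← mul_assoc, mul_inv_cancel, one_mul]⟩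
      show S.ι a = (y : G)⁻¹ * z
      rw [e, ← mul_assoc, inv_mul_cancel, one_mul]
  let T : X := ⟨S.t, memX _ centA_t⟩
  let I : X := ⟨S.ι D.i, memX _ centA_ιi⟩
  let s : X := ⟨σ, memX _ R.cent⟩
  have hTI : Commute T I := Subtype.ext (S.commute_ι D.i).symm.eq
  have hlift : ∀ e : X, (e : G) = 1 ∨ S.IsE D e → e = 1 ∨ e = T ∨ e = I ∨ e = T * I := by
    rintro e (h | h | h | h)
    exacts [Or.inl (Subtype.ext h), Or.inr (Or.inl (Subtype.ext h)), Or.inr (Or.inr (Or.inl (Subtype.ext h))),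
      Or.inr (Or.inr (Or.inr (Subtype.ext h)))]
  have hcentT : ∀ y : X, Commute (π y) (π T) ↔ π y = 1 ∨ π y = π T ∨ π y = π I ∨ π y = π T * π I := by
    intro y
    constructor
    · intro h
      obtain ⟨a, ha, e⟩ := (hπ T (y * T * y⁻¹)).1 (by
        rw [map_mul, map_mul, map_inv, h.eq, mul_inv_cancel_right])
      have e' : (y : G) * S.t * (y : G)⁻¹ = S.t * S.ι a := e
      have ha1 : a = 1 := eq_one_of_invol (S := S) (D := D) (e := S.t) (Or.inr (Or.inl rfl)) ha (by
        rw [← e', show (y : G) * S.t * (y : G)⁻¹ * ((y : G) * S.t * (y : G)⁻¹) =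
          (y : G) * (S.t * S.t) * (y : G)⁻¹ by group, S.t_mul_self, mul_one, mul_inv_cancel])
      rw [ha1, map_one, mul_one] at e'
      obtain ⟨u, hu, b, hb, hy⟩ := exists_shape (S := S) (D := D)
        (show Commute (y : G) S.t from mul_inv_eq_iff_eq_mul.1 e') (centX y)
      let U : X := ⟨u, memX _ (centA_of_one_or hu)⟩
      have hyU : π U = π y := (hπ U y).2 ⟨b, hb, hy⟩
      rw [← hyU]
      rcases hlift U hu with h | h | h | h <;> rw [h] <;> simp
    · rintro (h | h | h | h) <;> rw [h]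
      · exact Commute.one_left _
      · exact (hTI.symm.map π)
      · exact (Commute.refl (π T)).mul_left (hTI.symm.map π)
  set Y := X ⧸ (D.A.map S.ι).subgroupOf X
  have hne1 : ∀ e : X, S.IsE D (e : G) → π e ≠ 1 := by
    intro e he h
    obtain ⟨a, ha, ea⟩ := (hπ e 1).1 (by rw [h, map_one])
    have ea' : (1 : G) = (e : G) * S.ι a := ea
    have ha1 := eq_one_of_invol (Or.inr he) ha (by rw [← ea', one_mul])
    rw [ha1, map_one, mul_one] at ea'
    exact isE_ne_one he ea'.symm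
  have hT1 : π T ≠ 1 := hne1 T (Or.inl rfl)
  have hI1 : π I ≠ 1 := hne1 I (Or.inr (Or.inl rfl))
  have hTI1 : π T * π I ≠ 1 := by rw [← map_mul]; exact hne1 (T * I) (Or.inr (Or.inr rfl))
  have hTT : π T * π T = 1 := by rw [← map_mul, ← map_one π]; exact congrArg π (Subtype.ext S.t_mul_self)
  have hII : π I * π I = 1 := by
    rw [← map_mul, ← map_one π]
    exact congrArg π (Subtype.ext (isE_sq (S := S) (D := D) (Or.inr (Or.inl rfl))))
  have hne : π T ≠ π I := fun h => hTI1 (by rw [← h, hTT])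
  have hne' : π T * π I ≠ π T := fun h => hI1 (by simpa using h)
  have hne'' : π T * π I ≠ π I := fun h => hT1 (by simpa using h)
  have hr1 : π s * π T * (π s)⁻¹ = π I := by
    rw [← map_inv, ← map_mul, ← map_mul]; exact congrArg π (Subtype.ext R.r1)
  have hr2 : π s * π I * (π s)⁻¹ = π T * π I := by
    rw [← map_inv, ← map_mul, ← map_mul, ← map_mul]; exact congrArg π (Subtype.ext R.r2)
  have hr3 : π s * (π T * π I) * (π s)⁻¹ = π T := by
    rw [← map_mul π T I, ← map_inv, ← map_mul, ← map_mul]; exact congrArg π (Subtype.ext (rot3 R))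
  have memC : ∀ w : Y, w ∈ centralizer ({π T} : Set Y) ↔
      w = 1 ∨ w = π T ∨ w = π I ∨ w = π T * π I := by
    intro w
    obtain ⟨y, rfl⟩ := QuotientGroup.mk'_surjective _ w
    exact mem_centralizer_singleton_iff.trans (hcentT y)
  have hsq : ∀ w ∈ centralizer ({π T} : Set Y), w * w = 1 := by
    intro w hw
    rcases (memC w).1 hw with rfl | rfl | rfl | rfl
    · exact one_mul 1
    · exact hTT
    · exact hII
    · rw [show π T * π I * (π T * π I) = π T * (π I * π T) * π I by group, ← (hTI.map π).eq,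
        show π T * (π T * π I) * π I = (π T * π T) * (π I * π I) by group, hTT, hII, one_mul]
  have hfour : Nat.card (centralizer ({π T} : Set Y)) = 4 := by
    classical
    have hset : ((centralizer ({π T} : Set Y) : Subgroup Y) : Set Y) =
        ((({1, π T, π I, π T * π I} : Finset Y)) : Set Y) := by
      ext w
      simp only [SetLike.mem_coe, memC w, Finset.mem_insert, Finset.mem_singleton]
    rw [← SetLike.coe_sort_coe, Nat.card_coe_set_eq, hset, Set.ncard_coe_finset,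
      Finset.card_insert_of_notMem (by simp [hT1.symm, hI1.symm, hTI1.symm]),
      Finset.card_insert_of_notMem (by simp [hne, hne'.symm]),
      Finset.card_insert_of_notMem (by simp [hne''.symm]), Finset.card_singleton]
  let F : BSW.FourCent Y :=
    { x := π T
      hx := orderOf_eq_prime (by rw [pow_two, hTT]) hT1
      card_four := hfour
      sq := hsq }
  haveI : Fact (Nat.Prime 2) := ⟨Nat.prime_two⟩
  have hnc : ¬ Cfsg.HasNormalPComplement 2 Y := by
    rintro ⟨P, N, hN, hc⟩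
    haveI := hN
    have h2 : ¬ 2 ∣ Nat.card N := by rw [← hc.index_eq_card]; exact P.not_dvd_index
    have hsN : π s ∈ N := by
      rw [← QuotientGroup.eq_one_iff]
      obtain ⟨k, hk⟩ := IsPGroup.iff_card.1 P.2
      have h1 : ((π s : Y ⧸ N)) ^ (2 ^ k) = 1 := by
        have h := pow_card_eq_one' (x := ((π s : Y) : Y ⧸ N))
        rwa [← Subgroup.index_eq_card, hc.symm.index_eq_card, hk] at h
      have h1' : ((π s : Y ⧸ N)) ^ 3 = 1 := by
        rw [← QuotientGroup.mk_pow, ← map_pow, show s ^ 3 = 1 from Subtype.ext h3, map_one,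
          QuotientGroup.mk_one]
      exact orderOf_eq_one_iff.1 (Nat.eq_one_of_dvd_coprimes
        (Nat.Coprime.pow_right k (by norm_num : Nat.Coprime 3 2))
        (orderOf_dvd_of_pow_eq_one h1') (orderOf_dvd_of_pow_eq_one h1))
    have hmem : π T * π I ∈ N := by
      have h := mul_mem hsN (hN.conj_mem _ (inv_mem hsN) (π T))
      rw [show π s * (π T * (π s)⁻¹ * (π T)⁻¹) = (π s * π T * (π s)⁻¹) * (π T)⁻¹ by group, hr1,
        inv_eq_of_mul_eq_one_right hTT, ← (hTI.map π).eq] at h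
      exact h
    refine h2 ?_
    have ho : orderOf (π T * π I) = 2 :=
      orderOf_eq_prime (by rw [pow_two]; exact hsq _ ((memC _).2 (Or.inr (Or.inr (Or.inr rfl))))) hTI1
    have := orderOf_dvd_natCard (⟨π T * π I, hmem⟩ : N)
    rwa [Subgroup.orderOf_mk, ho] at this
  suffices key : ∀ w : Y, w * π T * w⁻¹ ∈ centralizer ({π T} : Set Y) by
    let x' : X := ⟨x, memX x hx⟩
    have hk := (memC _).1 (key (π x'))
    rw [← map_inv, ← map_mul, ← map_mul] at hk
    have hinv : x * S.t * x⁻¹ * (x * S.t * x⁻¹) = 1 := by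
      rw [show x * S.t * x⁻¹ * (x * S.t * x⁻¹) = x * (S.t * S.t) * x⁻¹ by group, S.t_mul_self, mul_one,
        mul_inv_cancel]
    have fin : ∀ e : X, ((e : G) = 1 ∨ S.IsE D e) → π (x' * T * x'⁻¹) = π e → S.IsE D (x * S.t * x⁻¹) := by
      intro e he h
      obtain ⟨a, ha, ea⟩ := (hπ e _).1 h.symm
      have ea' : x * S.t * x⁻¹ = (e : G) * S.ι a := ea
      rw [ea'] at hinv
      rw [ea', eq_one_of_invol he ha hinv, map_one, mul_one]
      rcases he with he | he
      · exfalso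
        rw [eq_one_of_invol (Or.inl he) ha hinv, map_one, mul_one, he] at ea'
        exact isE_ne_one (S := S) (D := D) (Or.inl rfl) (conj_eq_one_iff.1 ea')
      · exact he
    rcases hk with h | h | h | h
    · exact fin 1 (Or.inl rfl) (h.trans (map_one π).symm)
    · exact fin T (Or.inr (Or.inl rfl)) h
    · exact fin I (Or.inr (Or.inr (Or.inl rfl))) h
    · exact fin (T * I) (Or.inr (Or.inr (Or.inr rfl))) (h.trans (map_mul π T I).symm)
  by_cases hEx : ∀ E : Subgroup Y, E.Normal → Cfsg.IsElementaryAbelian 2 E →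
      Nat.card ↥E ≠ 2 ∧ Nat.card ↥E ≠ 4
  · obtain ⟨e⟩ := F.iso_alternating hnc hEx
    exfalso
    let y0 : alternatingGroup (Fin 5) :=
      ⟨Equiv.swap 0 1 * Equiv.swap 1 2, Equiv.Perm.mem_alternatingGroup.2 (by decide)⟩
    let w0 : alternatingGroup (Fin 5) :=
      ⟨Equiv.swap 1 2 * Equiv.swap 3 4, Equiv.Perm.mem_alternatingGroup.2 (by decide)⟩
    have h1 : y0 ^ 3 = 1 ∧ y0 ≠ 1 ∧ w0 * y0 * w0⁻¹ = y0⁻¹ := by decide
    refine hfree (PComplement.involves_of_subgroup (PComplement.involves_of_quotient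
      (SquareBound.involves_three_of_inverted (y := e.symm y0) (w := e.symm w0) ?_ ?_ ?_)))
    · rw [← map_pow, h1.1, map_one]
    · exact fun h => h1.2.1 (e.symm.injective (h.trans (map_one _).symm))
    · rw [← map_inv, ← map_mul, ← map_mul, h1.2.2, map_inv]
  · push Not at hEx
    obtain ⟨E, hEn, hEe, hE⟩ := hEx
    have hcases : Nat.card E = 2 ∨ Nat.card E = 4 :=
      (em (Nat.card E = 2)).imp id fun h => hE h
    have hEc : ∀ a ∈ E, ∀ b ∈ E, a * b = b * a := fun a ha b hb =>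
      congrArg Subtype.val (hEe.1.is_comm.comm ⟨a, ha⟩ ⟨b, hb⟩)
    have hE2 : ∀ a ∈ E, a * a = 1 := fun a ha => by rw [← pow_two]; exact hEe.2 a ha
    obtain ⟨e, heE, he1, heC⟩ : ∃ e ∈ E, e ≠ 1 ∧ e ∈ centralizer ({π T} : Set Y) := by
      have hbot : E ≠ ⊥ := fun h => by rw [h, Subgroup.card_bot] at hcases; omega
      obtain ⟨⟨z, hz⟩, hz1⟩ := Subgroup.ne_bot_iff_exists_ne_one.1 hbot
      by_cases hw : π T * z * (π T)⁻¹ * z = 1
      · refine ⟨z, hz, fun h => hz1 (Subtype.ext h), mem_centralizer_singleton_iff.2 ?_⟩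
        rw [mul_eq_one_iff_eq_inv, inv_eq_of_mul_eq_one_right (hE2 z hz)] at hw
        exact (mul_inv_eq_iff_eq_mul.1 hw).symm
      · refine ⟨_, mul_mem (hEn.conj_mem z hz _) hz, hw, mem_centralizer_singleton_iff.2 ?_⟩
        refine (mul_inv_eq_iff_eq_mul.1 ?_).symm
        rw [show π T * (π T * z * (π T)⁻¹ * z) * (π T)⁻¹ =
          (π T * π T) * z * (π T * π T)⁻¹ * (π T * z * (π T)⁻¹) by group, hTT, one_mul, inv_one, mul_one]
        exact hEc _ hz _ (hEn.conj_mem z hz _)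
    have hall : π T ∈ E ∧ π I ∈ E ∧ π T * π I ∈ E := by
      rcases ((memC e).1 heC).resolve_left he1 with rfl | rfl | rfl
      · have h2 : π I ∈ E := hr1 ▸ hEn.conj_mem _ heE _
        exact ⟨heE, h2, mul_mem heE h2⟩
      · have h2 : π T * π I ∈ E := hr2 ▸ hEn.conj_mem _ heE _
        exact ⟨(Subgroup.mul_mem_cancel_right E heE).1 h2, heE, h2⟩
      · have h2 : π T ∈ E := hr3 ▸ hEn.conj_mem _ heE _
        exact ⟨h2, (Subgroup.mul_mem_cancel_left E h2).1 heE, heE⟩
    have hle : centralizer ({π T} : Set Y) ≤ E := by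
      intro w hw
      rcases (memC w).1 hw with rfl | rfl | rfl | rfl
      exacts [one_mem _, hall.1, hall.2.1, hall.2.2]
    have heq : centralizer ({π T} : Set Y) = E :=
      Subgroup.eq_of_le_of_card_ge hle (by rw [hfour]; omega)
    intro w
    rw [heq]
    exact hEn.conj_mem _ hall.1 w

theorem isE_of_invol (hfree : ¬ Cfsg.Involves (Equiv.Perm (Fin 3)) G) {σ : G} (R : S.Rot D σ)
    (h3 : σ ^ 3 = 1) {u : G} (hu : u * u = 1) (hu1 : u ≠ 1) (hA : S.CentA D u) : S.IsE D u := by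
  have key : ∀ e : G, S.IsE D e → S.IsE D (u * e * u⁻¹) := by
    intro e he
    obtain ⟨k, -, hk⟩ := exists_rot_to R he
    rw [← hk, show u * (σ ^ k * S.t * (σ ^ k)⁻¹) * u⁻¹ = (u * σ ^ k) * S.t * (u * σ ^ k)⁻¹ by group]
    exact S.conj_t_isE D hfree R h3 (centA_mul hA (centA_pow R.cent k))
  have huinv : u⁻¹ = u := inv_eq_of_mul_eq_one_right hu
  have back : ∀ x y : G, u * x * u⁻¹ = y → u * y * u⁻¹ = x := fun x y h => by
    rw [← h, show u * (u * x * u⁻¹) * u⁻¹ = (u * u) * x * (u * u)⁻¹ by group, hu]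
    simp
  obtain ⟨e, he, hfix⟩ : ∃ e, S.IsE D e ∧ u * e * u⁻¹ = e := by
    rcases key S.t (Or.inl rfl) with h | h | h
    · exact ⟨_, Or.inl rfl, h⟩
    · refine ⟨_, Or.inr (Or.inr rfl), ?_⟩
      rw [show u * (S.t * S.ι D.i) * u⁻¹ = (u * S.t * u⁻¹) * (u * S.ι D.i * u⁻¹) by group, h, back _ _ h,
        (S.commute_ι _).eq]
    · refine ⟨_, Or.inr (Or.inl rfl), ?_⟩
      have h' := back _ _ h
      rw [show u * (S.t * S.ι D.i) * u⁻¹ = (u * S.t * u⁻¹) * (u * S.ι D.i * u⁻¹) by group, h,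
        mul_assoc] at h'
      have h'' := mul_left_cancel (h'.trans (mul_one S.t).symm)
      rw [← eq_inv_iff_mul_eq_one] at h''
      refine inv_injective (h''.symm.trans ?_)
      rw [← map_inv, inv_eq_of_mul_eq_one_right (show D.i * D.i = 1 by
        rw [← pow_two, ← D.orderOf_i, pow_orderOf_eq_one])]
  obtain ⟨k, -, rfl⟩ := exists_rot_to R he
  set p := σ ^ k with hp
  set u' := p⁻¹ * u * p with hu'
  have hc : Commute u' S.t := by
    refine mul_inv_eq_iff_eq_mul.1 ?_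
    rw [hu', show p⁻¹ * u * p * S.t * (p⁻¹ * u * p)⁻¹ = p⁻¹ * (u * (p * S.t * p⁻¹) * u⁻¹) * p by group,
      hfix]
    group
  obtain ⟨e, he, a, ha, hea⟩ := exists_shape (S := S) (D := D) hc
    (centA_mul (centA_mul (centA_inv (centA_pow R.cent k)) hA) (centA_pow R.cent k))
  have hu'2 : u' * u' = 1 := by
    rw [hu', show p⁻¹ * u * p * (p⁻¹ * u * p) = p⁻¹ * (u * u) * p by group, hu, mul_one, inv_mul_cancel]
  have ha1 := eq_one_of_invol he ha (hea ▸ hu'2)
  rw [ha1, map_one, mul_one] at hea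
  have hue : u = p * e * p⁻¹ := by rw [← hea, hu']; group
  rcases he with rfl | he
  · exact absurd (by rw [hue, mul_one, mul_inv_cancel]) hu1
  · rw [hue, hp]
    exact rot_pow_isE R he k

end Setup

end Cfsg.Agent.ReeS3
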