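import Cfsg.Agent.Lib.ReeS3.CentralCase

/-!
# An `S₃` section from a rotating element that centralises the torus
-/

set_option autoImplicit false
set_option linter.style.haveILetI false

namespace Cfsg.Agent.ReeS3

open Subgroup

universe u v

namespace Setup

variable {G : Type u} [Group G] {L : Type v} [Group L] [Finite G] (S : Setup G L) {q m : ℕ} (D : Data L q m)

/-- An element outside the torus part of the centraliser of `i`. -/
theorem exists_flip [Finite L] : ∃ j : L, Commute j D.i ∧ j ∉ D.A ∧ D.i * j ∉ D.A := by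
  classical
  haveI := Fintype.ofFinite L
  have h := D.card_flip_part
  have : 0 < m := D.hm_odd.pos
  haveI : Nonempty {x : L // Commute x D.i ∧ ¬ (x ∈ D.A ∨ D.i * x ∈ D.A)} :=
    (Nat.card_pos_iff.1 (by omega)).1
  obtain ⟨j, hj, hj'⟩ := Classical.arbitrary {x : L // Commute x D.i ∧ ¬ (x ∈ D.A ∨ D.i * x ∈ D.A)}
  push Not at hj'
  exact ⟨j, hj, hj'.1, hj'.2⟩

/-- The final contradiction in the central case. -/
theorem false_of_rot [Finite L] (hfree : ¬ Cfsg.Involves (Equiv.Perm (Fin 3)) G) {σ0 : G}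
    (R0 : S.Rot D σ0) : False := by
  classical
  obtain ⟨σ, R, hσ3⟩ := exists_rot_three R0
  have hσ1 : σ ≠ 1 := fun h => by
    have := R.r1
    rw [h, one_mul, inv_one, mul_one] at this
    exact S.ι_ne D.i this.symm
  have hσo : orderOf σ = 3 := orderOf_eq_prime hσ3 hσ1
  obtain ⟨j, hji, hjA, hjA'⟩ := exists_flip D
  obtain ⟨hj2, hjinv⟩ := D.outside j hji hjA hjA'
  set J := S.ι j with hJdef
  have hJJ : J * J = 1 := by rw [hJdef, ← map_mul, hj2, map_one]
  have hJinv : J⁻¹ = J := inv_eq_of_mul_eq_one_right hJJ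
  have hJt : Commute J S.t := S.commute_ι j
  have hJi : Commute J (S.ι D.i) := hji.map S.ι
  have hJconj : ∀ x : G, Commute J x → J * x * J⁻¹ = x := fun x h => by rw [h.eq, mul_inv_cancel_right]
  have hJa : ∀ a ∈ D.A, J * S.ι a * J⁻¹ = S.ι a⁻¹ := fun a ha => by
    rw [hJdef, ← map_inv, ← map_mul, ← map_mul, hjinv a ha]
  have hJcent : S.CentA D (J * σ * J⁻¹) := by
    intro a ha
    have h := (Commute.conj_iff J).2 (R.cent a⁻¹ (inv_mem ha))
    rwa [hJa _ (inv_mem ha), inv_inv] at h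
  set w := σ⁻¹ * (J * σ * J⁻¹) with hw
  have hwt : Commute w S.t := by
    refine mul_inv_eq_iff_eq_mul.1 ?_
    have hJt' : J⁻¹ * S.t * J = S.t := by rw [mul_assoc, ← hJt.eq, inv_mul_cancel_left]
    rw [hw, show σ⁻¹ * (J * σ * J⁻¹) * S.t * (σ⁻¹ * (J * σ * J⁻¹))⁻¹ =
      σ⁻¹ * (J * (σ * (J⁻¹ * S.t * J) * σ⁻¹) * J⁻¹) * σ by group, hJt', R.r1, hJconj _ hJi, ← R.r1]
    group
  obtain ⟨e, he, a, ha, hea⟩ := exists_shape (S := S) (D := D) hwt (centA_mul (centA_inv R.cent) hJcent)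
  have hJσ : J * σ * J⁻¹ = σ * (e * S.ι a) := by rw [← hea, hw]; group
  have hec : Commute (σ * e) (S.ι a) := (R.cent a ha).mul_left (centA_of_one_or he a ha)
  have hσe : (σ * e) ^ 3 = 1 := by
    have h : (σ * e) ^ 3 = (σ * e * σ⁻¹) * (σ * (σ * e * σ⁻¹) * σ⁻¹) * σ ^ 3 * e := by
      simp only [pow_succ, pow_zero, one_mul]; group
    rw [h, hσ3, mul_one]
    have hi : S.ι D.i * S.ι D.i = 1 := isE_sq (S := S) (D := D) (Or.inr (Or.inl rfl))
    rcases he with rfl | rfl | rfl | rfl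
    · simp
    · rw [R.r1, R.r2, show S.ι D.i * (S.t * S.ι D.i) * S.t = S.ι D.i * S.t * (S.ι D.i * S.t) by group,
        (S.commute_ι D.i).eq, isE_sq (S := S) (D := D) (Or.inr (Or.inr rfl))]
    · rw [R.r2, rot3 R, mul_assoc S.t (S.ι D.i) S.t, (S.commute_ι D.i).eq, ← mul_assoc, S.t_mul_self,
        one_mul, hi]
    · rw [rot3 R, R.r1, show S.t * S.ι D.i * (S.t * S.ι D.i) = S.t * S.ι D.i * (S.t * S.ι D.i) from rfl,
        isE_sq (S := S) (D := D) (Or.inr (Or.inr rfl))]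
  have ha3 : a ^ 3 = 1 := by
    have h : (J * σ * J⁻¹) ^ 3 = 1 := by rw [conj_pow, hσ3, mul_one, mul_inv_cancel]
    rw [hJσ, ← mul_assoc, hec.mul_pow, hσe, one_mul, ← map_pow] at h
    exact S.ι_injective (h.trans (map_one S.ι).symm)
  have ha1 : a = 1 := orderOf_eq_one_iff.1 (Nat.eq_one_of_dvd_coprimes
    ((Nat.prime_three.coprime_iff_not_dvd).2 (not_three_dvd_m D))
    (orderOf_dvd_of_pow_eq_one ha3) (orderOf_dvd_of_pow_eq_one ((D.mem_A a).1 ha).2))
  rw [ha1, map_one, mul_one] at hJσ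
  have hne : ∀ x : G, (x = 1 ∨ S.IsE D x) → x ≠ J := by
    intro x hx h
    have hji2 : ∀ k : L, J = S.ι k → j = k := fun k hk => S.ι_injective (hJdef.symm.trans hk)
    rcases hx with rfl | rfl | rfl | rfl
    · exact hjA ((hji2 1 (h.symm.trans (map_one S.ι).symm)) ▸ one_mem _)
    · exact S.ι_ne j (hJdef.symm.trans h.symm)
    · rw [hji2 D.i h.symm, ← pow_two, ← D.orderOf_i, pow_orderOf_eq_one] at hjA'
      exact hjA' (one_mem _)
    · exact S.ι_ne (j * D.i⁻¹) (by rw [map_mul, map_inv, ← hJdef, ← h, mul_inv_cancel_right])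
  obtain ⟨e', he', hee'⟩ : ∃ e' : G, (e' = 1 ∨ S.IsE D e') ∧ σ⁻¹ * e' * σ * e * e' = 1 := by
    have hi : S.ι D.i * S.ι D.i = 1 := isE_sq (S := S) (D := D) (Or.inr (Or.inl rfl))
    have c1 : σ⁻¹ * S.ι D.i * σ = S.t := by rw [← R.r1]; group
    have c2 : σ⁻¹ * (S.t * S.ι D.i) * σ = S.ι D.i := by rw [← R.r2]; group
    have c3 : σ⁻¹ * S.t * σ = S.t * S.ι D.i := by nth_rewrite 1 [← rot3 R]; group
    rcases he with rfl | rfl | rfl | rfl
    · exact ⟨1, Or.inl rfl, by group⟩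
    · exact ⟨S.t * S.ι D.i, Or.inr (Or.inr (Or.inr rfl)), by
        rw [c2, ← mul_assoc, mul_assoc (S.ι D.i) S.t S.t, S.t_mul_self, mul_one, hi]⟩
    · exact ⟨S.t, Or.inr (Or.inl rfl), by
        rw [c3, mul_assoc S.t (S.ι D.i), hi, mul_one, S.t_mul_self]⟩
    · exact ⟨S.ι D.i, Or.inr (Or.inr (Or.inl rfl)), by
        rw [c1, ← mul_assoc, S.t_mul_self, one_mul, hi]⟩
  set u := e' * J with hu
  have he'2 : e' * e' = 1 := by
    rcases he' with rfl | h
    exacts [one_mul 1, isE_sq h]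
  have he'J : Commute e' J := by
    rcases he' with rfl | rfl | rfl | rfl
    exacts [Commute.one_left _, hJt.symm, hJi.symm, hJt.symm.mul_left hJi.symm]
  have huσ : u * σ * u⁻¹ = σ := by
    have hinv : e'⁻¹ = e' := inv_eq_of_mul_eq_one_right he'2
    rw [hu, show e' * J * σ * (e' * J)⁻¹ = e' * (J * σ * J⁻¹) * e'⁻¹ by group, hJσ, hinv,
      show e' * (σ * e) * e' = σ * (σ⁻¹ * e' * σ * e * e') by group, hee', mul_one]
  have huu : u * u = 1 := by
    rw [hu, show e' * J * (e' * J) = e' * (J * e') * J by group, ← he'J.eq,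
      show e' * (e' * J) * J = (e' * e') * (J * J) by group, he'2, hJJ, one_mul]
  have hu1 : u ≠ 1 := fun h => hne e' he'
    (by rw [← hJinv]; exact eq_inv_of_mul_eq_one_left h)
  have hua : ∀ a ∈ D.A, u * S.ι a * u⁻¹ = S.ι a⁻¹ := by
    intro a ha
    rw [hu, show e' * J * S.ι a * (e' * J)⁻¹ = e' * (J * S.ι a * J⁻¹) * e'⁻¹ by group, hJa a ha,
      (centA_of_one_or he' a⁻¹ (inv_mem ha)).eq, mul_inv_cancel_right]
  obtain ⟨g0, hg0⟩ := S.conj_invol u S.t (orderOf_eq_prime (by rw [pow_two, huu]) hu1) S.orderOf_t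
  obtain ⟨y0, hy0, hy03⟩ := S.exists_lift_odd (x := g0 * σ * g0⁻¹) (N := 3) (by
      rw [← hg0]; exact (Commute.conj_iff g0).2 (mul_inv_eq_iff_eq_mul.1 huσ).symm)
    (by decide) (by rw [conj_pow, hσ3, mul_one, mul_inv_cancel])
  obtain ⟨h, hh⟩ := D.exists_conj_Q y0 hy03
  set r0 := h * y0 * h⁻¹ with hr0
  set g := S.ι h * g0 with hg
  have hgu : g * u * g⁻¹ = S.t := by
    rw [hg, show S.ι h * g0 * u * (S.ι h * g0)⁻¹ = S.ι h * (g0 * u * g0⁻¹) * (S.ι h)⁻¹ by group, hg0,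
      (S.commute_ι h).eq, mul_inv_cancel_right]
  have hgσ : g * σ * g⁻¹ = S.ι r0 := by
    rw [hg, show S.ι h * g0 * σ * (S.ι h * g0)⁻¹ = S.ι h * (g0 * σ * g0⁻¹) * (S.ι h)⁻¹ by group, hy0, hr0]
    simp only [map_mul, map_inv]
  have hr1 : r0 ≠ 1 := fun e => hσ1 (conj_eq_one_iff.1 (hgσ.trans (by rw [e, map_one])))
  -- the centraliser of `ι r0`
  set K := centralizer ({S.ι r0} : Set G) with hK
  have memK : ∀ x : G, x ∈ K ↔ Commute x (S.ι r0) := fun x => mem_centralizer_singleton_iff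
  have htK : S.t ∈ K := (memK _).2 (S.commute_ι r0).symm
  have hQK : D.Q.map S.ι ≤ K := by
    rintro _ ⟨r, hr, rfl⟩
    exact (memK _).2 ((show Commute r r0 from D.Q_comm r hr r0 hh).map S.ι)
  let C := S.smallCent D K htK hQK hh hr1 (fun x hx => (memK x).1 hx)
  have hfreeK : ¬ Cfsg.Involves (Equiv.Perm (Fin 3)) K := fun h => hfree (PComplement.involves_of_subgroup h)
  obtain ⟨M, N, hN3, hMN, hMc, hMt, hMQ, hMmem⟩ := C.exists_complement hfreeK
    ((S.isPGroup_Qmap D).of_equiv (subgroupOfEquivOfLe hQK).symm)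
  have hAK : ∀ a ∈ D.A, g * S.ι a * g⁻¹ ∈ K := fun a ha =>
    (memK _).2 (hgσ ▸ (Commute.conj_iff g).2 (R.cent a ha).symm)
  have hAM : ∀ a (ha : a ∈ D.A), (⟨_, hAK a ha⟩ : K) ∈ M := fun a ha =>
    hMmem _ m D.hm_odd (not_three_dvd_m D) (Subtype.ext (by
      show (g * S.ι a * g⁻¹) ^ m = 1
      rw [conj_pow, ← map_pow, ((D.mem_A a).1 ha).2, map_one, mul_one, mul_inv_cancel]))
  have hMA : ∀ z ∈ M, ∃ a ∈ D.A, ((z : K) : G) = g * S.ι a * g⁻¹ := by
    intro z hz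
    set z0 := g⁻¹ * (z : G) * g with hz0
    have hzσ : Commute z0 σ := by
      have h := (Commute.conj_iff g⁻¹).2 ((memK _).1 z.2)
      rw [← hgσ] at h
      simpa [hz0, mul_assoc] using h
    have hzA : S.CentA D z0 := by
      intro a ha
      have h := (Commute.conj_iff g⁻¹).2
        (show Commute (z : G) (g * S.ι a * g⁻¹) from congrArg Subtype.val (hMc z hz _ (hAM a ha)))
      simpa [hz0, mul_assoc] using h
    obtain ⟨k, hk3, hk⟩ := exists_rot_to R (S.conj_t_isE D hfree R hσ3 hzA)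
    set v := (σ ^ k)⁻¹ * z0 with hv
    have hvt : Commute v S.t := by
      refine mul_inv_eq_iff_eq_mul.1 ?_
      rw [hv, show (σ ^ k)⁻¹ * z0 * S.t * ((σ ^ k)⁻¹ * z0)⁻¹ = (σ ^ k)⁻¹ * (z0 * S.t * z0⁻¹) * σ ^ k by
        group, ← hk]
      group
    obtain ⟨e1, he1, b, hb, hvb⟩ := exists_shape (S := S) (D := D) hvt
      (centA_mul (centA_inv (centA_pow R.cent k)) hzA)
    have hvσ : Commute σ v := ((Commute.refl σ).pow_right k).inv_right.mul_right hzσ.symm
    have he1' : e1 = 1 := by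
      refine he1.resolve_right fun h => rot_fix R h ?_
      rw [hvb] at hvσ
      have h2 : Commute σ e1 := by
        have := hvσ.mul_right (R.cent b hb).inv_right
        simpa using this
      rw [h2.eq, mul_inv_cancel_right]
    rw [he1', one_mul] at hvb
    have hz0' : z0 = σ ^ k * S.ι b := by rw [← hvb, hv]; group
    have hz0N : z0 ^ N = 1 := by
      have h : (z : G) ^ N = 1 := congrArg Subtype.val (hMN z hz)
      rw [hz0, show g⁻¹ * (z : G) * g = g⁻¹ * (z : G) * g⁻¹⁻¹ by rw [inv_inv], conj_pow, h, mul_one,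
        mul_inv_cancel]
    have hk0 : k = 0 := by
      have h : σ ^ (k * N * m) = 1 := by
        have h2 : z0 ^ (N * m) = 1 := by rw [pow_mul, hz0N, one_pow]
        rw [hz0', ((R.cent b hb).pow_left k).mul_pow, ← map_pow, mul_comm N m, pow_mul b,
          ((D.mem_A b).1 hb).2, one_pow, map_one, mul_one, ← pow_mul, mul_comm m N, ← mul_assoc] at h2
        exact h2
      have h3 := orderOf_dvd_of_pow_eq_one h
      rw [hσo] at h3
      rcases (Nat.prime_three.dvd_mul.1 h3) with h4 | h4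
      · rcases (Nat.prime_three.dvd_mul.1 h4) with h5 | h5
        · omega
        · exact absurd h5 hN3
      · exact absurd h4 (not_three_dvd_m D)
    refine ⟨b, hb, ?_⟩
    rw [hk0, pow_zero, one_mul] at hz0'
    rw [← hz0', hz0]
    group
  -- the action of `Q` on the three involutions
  have hnorm : ∀ r ∈ D.Q, ∀ a ∈ D.A, ∃ b ∈ D.A,
      (g⁻¹ * S.ι r * g) * S.ι a * (g⁻¹ * S.ι r * g)⁻¹ = S.ι b := by
    intro r hr a ha
    obtain ⟨b, hb, hb'⟩ := hMA _ (hMQ ⟨S.ι r, hQK ⟨r, hr, rfl⟩⟩ ⟨r, hr, rfl⟩ _ (hAM a ha))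
    refine ⟨b, hb, ?_⟩
    have hb'' : S.ι r * (g * S.ι a * g⁻¹) * (S.ι r)⁻¹ = g * S.ι b * g⁻¹ := hb'
    rw [show (g⁻¹ * S.ι r * g) * S.ι a * (g⁻¹ * S.ι r * g)⁻¹ =
      g⁻¹ * (S.ι r * (g * S.ι a * g⁻¹) * (S.ι r)⁻¹) * g by group, hb'']
    group
  set ρ : D.Q → G := fun r => g⁻¹ * S.ι r * g with hρ
  have himg : ∀ r : D.Q, ∀ e : G, S.IsE D e → S.IsE D (ρ r * e * (ρ r)⁻¹) := by
    intro r e he
    refine S.isE_of_invol D hfree R hσ3 ?_ (fun h => isE_ne_one he (conj_eq_one_iff.1 h)) fun a ha => ?_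
    · rw [show ρ r * e * (ρ r)⁻¹ * (ρ r * e * (ρ r)⁻¹) = ρ r * (e * e) * (ρ r)⁻¹ by group, isE_sq he,
        mul_one, mul_inv_cancel]
    · obtain ⟨b, hb, hb'⟩ := hnorm (r : L)⁻¹ (inv_mem r.2) a ha
      have h := (Commute.conj_iff (ρ r)).2 (centA_isE he b hb)
      rw [← hb', map_inv] at h
      simpa [hρ, mul_assoc] using h
  have hone : ∀ r : D.Q, ρ r * S.t * (ρ r)⁻¹ = S.t → r = 1 := by
    intro r hr
    have hqp : (ρ r) ^ q = 1 := by
      simp only [hρ]
      rw [show g⁻¹ * S.ι r * g = g⁻¹ * S.ι r * g⁻¹⁻¹ by rw [inv_inv], conj_pow, ← map_pow,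
        show (r : L) ^ q = 1 from by
          have := congrArg Subtype.val (pow_card_eq_one' (x := r))
          rw [D.card_Q] at this
          exact this, map_one, mul_one, mul_inv_cancel]
    have hqodd : Odd q := by
      obtain ⟨c, hc⟩ := D.three_pow
      rw [hc]; exact Odd.pow (show Odd 3 by decide)
    set x := ρ r with hx
    have hxi : x * S.ι D.i * x⁻¹ = S.ι D.i := by
      rcases himg r _ (Or.inr (Or.inl rfl)) with h | h | h
      · exact absurd (mul_left_cancel (mul_right_cancel (h.trans hr.symm))) (S.ι_ne D.i)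
      · exact h
      · have h2 : (x * x) * S.ι D.i * (x * x)⁻¹ = S.ι D.i := by
          rw [show (x * x) * S.ι D.i * (x * x)⁻¹ = x * (x * S.ι D.i * x⁻¹) * x⁻¹ by group, h,
            show x * (S.t * S.ι D.i) * x⁻¹ = (x * S.t * x⁻¹) * (x * S.ι D.i * x⁻¹) by group, hr, h,
            ← mul_assoc, S.t_mul_self, one_mul]
        have hcm : Commute (x * x) (S.ι D.i) := mul_inv_eq_iff_eq_mul.1 h2
        obtain ⟨c, hc⟩ := hqodd
        have hxe : x = (x * x) ^ (c + 1) := by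
          rw [← pow_two, ← pow_mul, show 2 * (c + 1) = q + 1 by omega, pow_succ, hqp, one_mul]
        have := hcm.pow_left (c + 1)
        rw [← hxe] at this
        rw [this.eq, mul_inv_cancel_right]
    obtain ⟨l, hl, hlq⟩ := S.exists_lift_odd (mul_inv_eq_iff_eq_mul.1 hr : Commute x S.t) hqodd hqp
    have hli : Commute l D.i := S.comm_iff.1 (hl ▸ (mul_inv_eq_iff_eq_mul.1 hxi : Commute x (S.ι D.i)))
    have hl1 : l = 1 := by
      have h4 : orderOf l ∣ 4 * m := by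
        rw [← D.card_cent_i]
        simpa using orderOf_dvd_natCard
          (⟨l, mem_centralizer_singleton_iff.2 hli.eq⟩ : centralizer ({D.i} : Set L))
      refine orderOf_eq_one_iff.1 (Nat.eq_one_of_dvd_coprimes ?_ (orderOf_dvd_of_pow_eq_one hlq) h4)
      haveI := Fintype.ofFinite L
      exact Nat.Coprime.mul_right ((Nat.coprime_two_right.2 hqodd).pow_right 2) D.coprime_q_m
    rw [hl1, map_one] at hl
    refine Subtype.ext (S.ι_injective ?_)
    have h5 : g * x * g⁻¹ = S.ι r := by simp only [hx, hρ]; group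
    rw [← h5, hl]
    simp
  let E3 : Finset G := {S.t, S.ι D.i, S.t * S.ι D.i}
  let Φ : D.Q → E3 := fun r => ⟨ρ r * S.t * (ρ r)⁻¹, by
    have h : S.IsE D (ρ r * S.t * (ρ r)⁻¹) := himg r S.t (Or.inl rfl)
    simp only [E3, Finset.mem_insert, Finset.mem_singleton]
    exact h⟩
  have hinj : Function.Injective Φ := by
    intro r s e
    have e' : ρ r * S.t * (ρ r)⁻¹ = ρ s * S.t * (ρ s)⁻¹ := congrArg Subtype.val e
    refine inv_mul_eq_one.1 (hone (r⁻¹ * s) ?_)
    simp only [hρ, Subgroup.coe_mul, Subgroup.coe_inv, map_mul, map_inv] at e' ⊢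
    rw [show g⁻¹ * ((S.ι r)⁻¹ * S.ι s) * g * S.t * (g⁻¹ * ((S.ι r)⁻¹ * S.ι s) * g)⁻¹ =
      g⁻¹ * (S.ι r)⁻¹ * g * (g⁻¹ * S.ι s * g * S.t * (g⁻¹ * S.ι s * g)⁻¹) * (g⁻¹ * S.ι r * g) by group,
      ← e']
    group
  have hle := Nat.card_le_card_of_injective Φ hinj
  rw [D.card_Q, Nat.card_eq_finsetCard] at hle
  have : E3.card ≤ 3 := Finset.card_le_three
  have := D.hq
  omega

end Setup

end Cfsg.Agent.ReeS3
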