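import Mathlib

/-!
# Three orthogonal integer vectors of norm four

Three pairwise orthogonal vectors of norm four, congruent modulo two and orthogonal to a positive
degree vector, live on four points of equal degree; together with the identity for pairs of
involutions this forces `q²` to divide the number of involutions.
-/

set_option autoImplicit false

namespace Cfsg.Agent.ReeS3

open Matrix

theorem four_orthogonal_rows (M : Matrix (Fin 4) (Fin 4) ℚ)
    (h : ∀ k l, ∑ j, M k j * M l j = if k = l then 4 else 0) (x : Fin 4 → ℚ) (j : Fin 4) :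
    4 * x j = ∑ k, M k j * ∑ i, M k i * x i := by
  have h1 : ((1 / 4 : ℚ) • M) * Mᵀ = 1 := by
    ext k l
    rw [Matrix.smul_mul, Matrix.smul_apply, Matrix.mul_apply]
    simp only [Matrix.transpose_apply, h k l, Matrix.one_apply, smul_eq_mul]
    split_ifs <;> norm_num
  have h2 : Mᵀ * ((1 / 4 : ℚ) • M) = 1 := mul_eq_one_comm.1 h1
  have h3 : ∀ i, ∑ k, M k j * M k i = if j = i then 4 else 0 := by
    intro i
    have := congrFun (congrFun h2 j) i
    rw [Matrix.mul_smul, Matrix.smul_apply, Matrix.mul_apply] at this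
    simp only [Matrix.transpose_apply, Matrix.one_apply, smul_eq_mul] at this
    split_ifs at this ⊢ <;> linarith
  simp only [Finset.mul_sum]
  rw [Finset.sum_comm]
  simp only [← mul_assoc, ← Finset.sum_mul, h3]
  simp

/-- The numerical contradiction. -/
theorem false_of_vectors {ι : Type*} [Fintype ι] (V : Fin 3 → ι → ℤ) (d : ι → ℕ) (b : ι → ℤ)
    (q I : ℕ) (hq : 2 ≤ q) (hI : 0 < I) (hcop : Nat.Coprime I q) (hd : ∀ j, 0 < d j)
    (horth : ∀ k l, ∑ j, V k j * V l j = if k = l then 4 else 0)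
    (hdeg : ∀ k, ∑ j, V k j * d j = 0) (hpar : ∀ k l j, 2 ∣ V k j - V l j)
    (hb : ∀ k, ∑ j, V k j * b j = 4 * ((q : ℤ) - 1))
    (hnorm : ∑ j, b j ^ 2 ≤ (q : ℤ) * ((q : ℤ) ^ 2 - 1))
    (hid : (I : ℚ) ^ 2 * ∑ j, (V 0 j : ℚ) * (b j : ℚ) ^ 2 / (d j : ℚ) =
      4 * (I : ℚ) * (2 * (q : ℚ) ^ 2 * ((q : ℚ) - 1))) : False := by
  classical
  -- the entries
  have hsq : ∀ k, ∑ j, V k j * V k j = 4 := fun k => by rw [horth, if_pos rfl]
  have hent : ∀ k j, V k j = 0 ∨ V k j = 1 ∨ V k j = -1 := by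
    intro k j
    by_contra hc
    push Not at hc
    have h4 : 4 ≤ V k j * V k j := by
      rcases le_or_gt 2 (V k j) with h | h
      · nlinarith
      · have : V k j ≤ -2 := by omega
        nlinarith
    have hrest : ∀ i, i ≠ j → V k i = 0 := by
      intro i hi
      have h := hsq k
      rw [← Finset.add_sum_erase _ _ (Finset.mem_univ j)] at h
      have hz : ∑ x ∈ Finset.univ.erase j, V k x * V k x = 0 :=
        le_antisymm (by linarith) (Finset.sum_nonneg fun x _ => mul_self_nonneg _)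
      exact mul_self_eq_zero.1 ((Finset.sum_eq_zero_iff_of_nonneg fun x _ => mul_self_nonneg _).1 hz i
        (Finset.mem_erase.2 ⟨hi, Finset.mem_univ i⟩))
    have h := hdeg k
    rw [Finset.sum_eq_single j (fun i _ hi => by rw [hrest i hi, zero_mul]) (by simp)] at h
    rcases mul_eq_zero.1 h with h | h
    · exact hc.1 h
    · exact (hd j).ne' (by exact_mod_cast h)
  set S := Finset.univ.filter fun j => V 0 j ≠ 0 with hS
  have hsupp : ∀ k j, j ∉ S → V k j = 0 := by
    intro k j hj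
    have h0 : V 0 j = 0 := by simpa [hS] using hj
    have h2 := hpar k 0 j
    rw [h0, sub_zero] at h2
    rcases hent k j with h | h | h
    · exact h
    all_goals rw [h] at h2; omega
  have hone : ∀ k j, j ∈ S → V k j * V k j = 1 := by
    intro k j hj
    have h0 : V 0 j ≠ 0 := (Finset.mem_filter.1 hj).2
    have h2 := hpar k 0 j
    rcases hent k j with h | h | h
    · rw [h] at h2
      rcases hent 0 j with h' | h' | h'
      · exact absurd h' h0
      all_goals rw [h'] at h2; omega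
    all_goals rw [h]; norm_num
  have hcard : S.card = 4 := by
    have h := hsq 0
    rw [← Finset.sum_subset (Finset.subset_univ S) (fun j _ hj => by rw [hsupp 0 j hj, mul_zero]),
      Finset.sum_congr rfl fun j hj => hone 0 j hj] at h
    simp at h
    exact_mod_cast h
  let e : Fin 4 ≃ S := (finCongr hcard.symm).trans S.equivFin.symm
  have hsum : ∀ f : ι → ℤ, (∀ j ∉ S, f j = 0) → ∑ j, f j = ∑ i : Fin 4, f (e i) := by
    intro f hf
    rw [← Finset.sum_subset (Finset.subset_univ S) (fun j _ hj => hf j hj), ← Finset.sum_coe_sort,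
      ← e.sum_comp]
  -- restricted to the four points
  let a : Fin 3 → Fin 4 → ℚ := fun k i => (V k (e i) : ℚ)
  let v : Fin 4 → ℚ := fun i => a 0 i * a 1 i * a 2 i
  have ha1 : ∀ k i, a k i * a k i = 1 := fun k i => by
    have := congrArg (Int.cast (R := ℚ)) (hone k (e i) (e i).2)
    push_cast at this
    exact this
  have hort : ∀ k l, ∑ i, a k i * a l i = if k = l then (4 : ℚ) else 0 := by
    intro k l
    have h := horth k l
    rw [hsum _ fun j hj => by rw [hsupp k j hj, zero_mul]] at h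
    have h' := congrArg (Int.cast (R := ℚ)) h
    push_cast at h'
    exact h'
  let M : Matrix (Fin 4) (Fin 4) ℚ := ![a 0, a 1, a 2, v]
  have hM : ∀ k l, ∑ i, M k i * M l i = if k = l then (4 : ℚ) else 0 := by
    have h01 : ∑ i, a 0 i * a 1 i = 0 := by rw [hort]; rfl
    have h02 : ∑ i, a 0 i * a 2 i = 0 := by rw [hort]; rfl
    have h12 : ∑ i, a 1 i * a 2 i = 0 := by rw [hort]; rfl
    have hv0 : ∑ i, a 0 i * v i = 0 := by
      rw [← h12]; exact Finset.sum_congr rfl fun i _ => by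
        simp only [v]; linear_combination (a 1 i * a 2 i) * ha1 0 i
    have hv1 : ∑ i, a 1 i * v i = 0 := by
      rw [← h02]; exact Finset.sum_congr rfl fun i _ => by
        simp only [v]; linear_combination (a 0 i * a 2 i) * ha1 1 i
    have hv2 : ∑ i, a 2 i * v i = 0 := by
      rw [← h01]; exact Finset.sum_congr rfl fun i _ => by
        simp only [v]; linear_combination (a 0 i * a 1 i) * ha1 2 i
    have hvv : ∑ i, v i * v i = 4 := by
      rw [Finset.sum_congr rfl fun i _ => (show v i * v i = 1 by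
        simp only [v]
        linear_combination (a 1 i * a 1 i * (a 2 i * a 2 i)) * ha1 0 i +
          (a 2 i * a 2 i) * ha1 1 i + ha1 2 i)]
      simp
    intro k l
    fin_cases k <;> fin_cases l <;> simp [M] <;>
      first
        | exact hvv
        | exact (hort _ _).trans (by simp)
        | exact hv0
        | exact hv1
        | exact hv2
        | (rw [Finset.sum_congr rfl fun i _ => mul_comm _ _]; first | exact hv0 | exact hv1 | exact hv2)
  have hexp : ∀ (x : Fin 4 → ℚ) (j : Fin 4), 4 * x j = a 0 j * (∑ i, a 0 i * x i) +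
      a 1 j * (∑ i, a 1 i * x i) + a 2 j * (∑ i, a 2 i * x i) + v j * (∑ i, v i * x i) := by
    intro x j
    rw [four_orthogonal_rows M hM x j, Fin.sum_univ_four]
    simp [M]
  -- degrees
  let f : Fin 4 → ℚ := fun i => (d (e i) : ℚ)
  have hf0 : ∀ k, ∑ i, a k i * f i = 0 := by
    intro k
    have h := hdeg k
    rw [hsum _ fun j hj => by rw [hsupp k j hj, zero_mul]] at h
    have h' := congrArg (Int.cast (R := ℚ)) h
    push_cast at h'
    exact h'
  set W := ∑ i, v i * f i with hW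
  have hf : ∀ j, 4 * f j = v j * W := fun j => by
    rw [hexp f j, hf0, hf0, hf0]; ring
  have hfpos : ∀ j, 0 < f j := fun j => Nat.cast_pos.2 (hd _)
  have hvv1 : ∀ j, v j * v j = 1 := fun j => by
    simp only [v]
    linear_combination (a 1 j * a 1 j * (a 2 j * a 2 j)) * ha1 0 j +
      (a 2 j * a 2 j) * ha1 1 j + ha1 2 j
  have hvconst : ∀ j, v j = v 0 := by
    intro j
    rcases mul_self_eq_one_iff.1 (hvv1 j) with h | h <;>
      rcases mul_self_eq_one_iff.1 (hvv1 0) with h' | h' <;> rw [h, h'] <;>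
      nlinarith [hf j, hf 0, hfpos j, hfpos 0]
  set δ := v 0 with hδ
  have hfconst : ∀ j, f j = f 0 := fun j => by
    have h1 := hf j; have h2 := hf 0
    rw [hvconst j] at h1
    linarith
  -- values at the involution
  let y : Fin 4 → ℚ := fun i => (b (e i) : ℚ)
  have hy0 : ∀ k, ∑ i, a k i * y i = 4 * ((q : ℚ) - 1) := by
    intro k
    have h := hb k
    rw [hsum _ fun j hj => by rw [hsupp k j hj, zero_mul]] at h
    have h' := congrArg (Int.cast (R := ℚ)) h
    push_cast at h'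
    exact h'
  set c : ℚ := (q : ℚ) - 1 with hc
  let s : Fin 4 → ℚ := fun i => a 0 i + a 1 i + a 2 i
  set γ : ℤ := b (e 0) - ((q : ℤ) - 1) * (V 0 (e 0) + V 1 (e 0) + V 2 (e 0)) with hγ
  have hγ' : (γ : ℚ) = y 0 - c * s 0 := by
    simp only [hγ, y, s, a, hc]; push_cast; ring
  have hy : ∀ j, y j = c * s j + (γ : ℚ) := by
    intro j
    have h1 := hexp y j
    have h2 := hexp y 0
    rw [hy0, hy0, hy0, hvconst j] at h1
    rw [hy0, hy0, hy0] at h2
    rw [hγ']
    simp only [s]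
    linear_combination (1 / 4 : ℚ) * h1 - (1 / 4 : ℚ) * h2
  have hs2 : ∀ i, a 0 i * (s i * s i) = 3 * a 0 i + 2 * a 1 i + 2 * a 2 i + 2 * δ := by
    intro i
    rw [← hvconst i]
    simp only [s, v]
    linear_combination (a 0 i + 2 * a 1 i + 2 * a 2 i) * ha1 0 i + a 0 i * ha1 1 i + a 0 i * ha1 2 i
  have hsa : ∀ k, ∑ i, a k i = 0 := fun k => by
    have h := hf0 k
    simp only [hfconst] at h
    rw [← Finset.sum_mul] at h
    exact (mul_eq_zero.1 h).resolve_right (hfpos 0).ne'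
  have h00 : ∑ i, a 0 i * s i = 4 := by
    simp only [s, mul_add, Finset.sum_add_distrib, hort]
    simp
  have hmain : ∑ i, a 0 i * (y i) ^ 2 = 8 * δ * c ^ 2 + 8 * c * (γ : ℚ) := by
    rw [Finset.sum_congr rfl fun i _ => (show a 0 i * y i ^ 2 =
      c ^ 2 * (3 * a 0 i + 2 * a 1 i + 2 * a 2 i + 2 * δ) + 2 * c * (γ : ℚ) * (a 0 i * s i) +
        (γ : ℚ) ^ 2 * a 0 i by rw [hy i, ← hs2]; ring)]
    simp only [Finset.sum_add_distrib, ← Finset.mul_sum, hsa, h00, Finset.sum_const, Finset.card_univ,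
      Fintype.card_fin, nsmul_eq_mul]
    push_cast
    ring
  have hID : (I : ℚ) ^ 2 * ((8 * δ * c ^ 2 + 8 * c * (γ : ℚ)) / f 0) =
      4 * (I : ℚ) * (2 * (q : ℚ) ^ 2 * c) := by
    rw [← hmain, Finset.sum_div, ← hid]
    congr 1
    rw [← Finset.sum_subset (Finset.subset_univ S) (fun j _ hj => by simp [hsupp 0 j hj]),
      ← Finset.sum_coe_sort S (fun j => (V 0 j : ℚ) * (b j : ℚ) ^ 2 / (d j : ℚ)), ← e.sum_comp]
    refine Finset.sum_congr rfl fun i _ => ?_
    show _ = a 0 i * y i ^ 2 / f i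
    rw [hfconst i]
  obtain ⟨δ', hδ', hδ1⟩ : ∃ z : ℤ, (z : ℚ) = δ ∧ (z = 1 ∨ z = -1) := by
    rcases mul_self_eq_one_iff.1 (hvv1 0) with h | h
    · exact ⟨1, by simp [hδ, h], Or.inl rfl⟩
    · exact ⟨-1, by simp [hδ, h], Or.inr rfl⟩
  have hc0 : c ≠ 0 := by
    have : (2 : ℚ) ≤ q := by exact_mod_cast hq
    rw [hc]; linarith
  have hI0 : (I : ℚ) ≠ 0 := Nat.cast_ne_zero.2 hI.ne'
  have key : (I : ℤ) * (δ' * ((q : ℤ) - 1) + γ) = (q : ℤ) ^ 2 * (d (e 0) : ℤ) := by
    have hf00 : f 0 ≠ 0 := (hfpos 0).ne'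
    rw [mul_div_assoc', div_eq_iff hf00] at hID
    have h2 : (I : ℚ) * (δ * c + γ) = (q : ℚ) ^ 2 * f 0 := by
      refine mul_left_cancel₀ (mul_ne_zero (mul_ne_zero (by norm_num : (8 : ℚ) ≠ 0) hI0) hc0) ?_
      linear_combination hID
    rw [← hδ', hc] at h2
    simp only [f] at h2
    exact_mod_cast h2
  have hpos : 0 < (q : ℤ) ^ 2 * (d (e 0) : ℤ) := by
    have := hd (e 0)
    positivity
  set x : ℤ := δ' * ((q : ℤ) - 1) + γ with hx
  have hdvd : (q : ℤ) ^ 2 ∣ x := by
    refine IsCoprime.dvd_of_dvd_mul_left ?_ ⟨_, key⟩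
    exact (Nat.isCoprime_iff_coprime.2 (Nat.Coprime.pow_left 2 hcop.symm))
  have hxne : x ≠ 0 := fun h0 => by rw [h0, mul_zero] at key; exact hpos.ne key
  have hxge : (q : ℤ) ^ 2 ≤ |x| := Int.le_of_dvd (abs_pos.2 hxne) ((dvd_abs _ _).2 hdvd)
  -- the bound
  have hbound : 4 * γ ^ 2 ≤ (q : ℤ) * ((q : ℤ) ^ 2 - 1) := by
    refine le_trans ?_ hnorm
    refine le_trans ?_ (Finset.sum_le_univ_sum_of_nonneg (s := S) fun j => sq_nonneg (b j))
    rw [← Finset.sum_coe_sort, ← e.sum_comp]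
    have hs_sum : ∑ i, s i = 0 := by simp only [s, Finset.sum_add_distrib, hsa]; simp
    have h : (4 * (γ : ℚ) ^ 2) ≤ ∑ i, y i ^ 2 := by
      rw [Finset.sum_congr rfl fun i _ => (show y i ^ 2 =
        c ^ 2 * s i ^ 2 + (2 * c * (γ : ℚ)) * s i + (γ : ℚ) ^ 2 by rw [hy i]; ring)]
      simp only [Finset.sum_add_distrib, ← Finset.mul_sum, hs_sum, Finset.sum_const, Finset.card_univ,
        Fintype.card_fin, nsmul_eq_mul]
      have : 0 ≤ c ^ 2 * ∑ i, s i ^ 2 :=
        mul_nonneg (sq_nonneg _) (Finset.sum_nonneg fun i _ => sq_nonneg _)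
      push_cast
      linarith
    simp only [y] at h
    exact_mod_cast h
  have hq' : (2 : ℤ) ≤ q := by exact_mod_cast hq
  have hγge : (q : ℤ) ^ 2 - (q : ℤ) + 1 ≤ |γ| := by
    have h1 : |x| ≤ |δ' * ((q : ℤ) - 1)| + |γ| := abs_add_le _ _
    have h2 : |δ' * ((q : ℤ) - 1)| = (q : ℤ) - 1 := by
      rw [abs_mul, abs_of_nonneg (by linarith : (0 : ℤ) ≤ (q : ℤ) - 1)]
      rcases hδ1 with h | h <;> subst h <;> simp
    linarith
  have h4 : ((q : ℤ) ^ 2 - q + 1) ^ 2 ≤ γ ^ 2 := by
    rw [← sq_abs γ]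
    exact pow_le_pow_left₀ (by nlinarith) hγge 2
  nlinarith [mul_nonneg (mul_nonneg (by linarith : (0 : ℤ) ≤ q) (by linarith : (0 : ℤ) ≤ q))
    (by linarith : (0 : ℤ) ≤ (q : ℤ) - 2)]

end Cfsg.Agent.ReeS3
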