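import Cfsg.Agent.Lib.ReeS3.CharL
import Cfsg.Agent.Lib.ReeS3.Combinatorics
import Cfsg.Agent.Lib.Exceptional.ClassPairs

/-!
# The character-theoretic step for groups of Ree type

If `C(t) = ⟨t⟩ × L` with `L` as in `Data`, all involutions are conjugate and three characters of the
torus `A` differ by conjugation in `G`, then `q` and the index of `C(t)` are not coprime.
-/

set_option autoImplicit false
set_option linter.style.haveILetI false

namespace Cfsg.Agent.ReeS3

open Cfsg
open scoped ComplexConjugate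

universe u v

/-- An involution centraliser of the shape `⟨t⟩ × L`. -/
structure Setup (G : Type u) [Group G] (L : Type v) [Group L] where
  t : G
  orderOf_t : orderOf t = 2
  ι : L →* G
  ι_injective : Function.Injective ι
  ι_ne : ∀ l : L, ι l ≠ t
  commute_ι : ∀ l : L, Commute (ι l) t
  decomp : ∀ x : G, Commute x t → ∃ l : L, x = ι l ∨ x = t * ι l
  conj_invol : ∀ x y : G, orderOf x = 2 → orderOf y = 2 → ∃ g : G, g * x * g⁻¹ = y

namespace Setup

open scoped Classical

variable {G : Type u} [Group G] {L : Type v} [Group L] (S : Setup G L)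

theorem t_mul_self : S.t * S.t = 1 := by
  rw [← pow_two, ← S.orderOf_t, pow_orderOf_eq_one]

/-- The centraliser of `t`. -/
abbrev C : Subgroup G := Subgroup.centralizer ({S.t} : Set G)

theorem mem_C {x : G} : x ∈ S.C ↔ Commute x S.t := Subgroup.mem_centralizer_singleton_iff

/-- The element `t^b ι l` of the centraliser. -/
noncomputable def emb (p : Bool × L) : S.C :=
  ⟨(if p.1 then S.t else 1) * S.ι p.2, S.mem_C.2 (Commute.mul_left (by split_ifs <;> simp) (S.commute_ι p.2))⟩

theorem emb_bijective : Function.Bijective S.emb := by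
  refine ⟨?_, fun x => ?_⟩
  · rintro ⟨b, l⟩ ⟨b', l'⟩ h
    have h' := congrArg Subtype.val h
    simp only [emb] at h'
    have hno : ∀ a c : L, S.t * S.ι a ≠ S.ι c := fun a c e =>
      S.ι_ne (c * a⁻¹) (by rw [map_mul, map_inv, ← e, mul_inv_cancel_right])
    cases b <;> cases b' <;> simp only [Bool.false_eq_true, if_true, if_false, one_mul] at h'
    · rw [S.ι_injective h']
    · exact absurd h'.symm (hno _ _)
    · exact absurd h' (hno _ _)
    · rw [S.ι_injective (mul_left_cancel h')]
  · obtain ⟨l, hl | hl⟩ := S.decomp x (S.mem_C.1 x.2)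
    · exact ⟨(false, l), Subtype.ext (by simp [emb, hl])⟩
    · exact ⟨(true, l), Subtype.ext (by simp [emb, hl])⟩

/-- The centraliser as a product. -/
noncomputable def equivC : Bool × L ≃ S.C := Equiv.ofBijective S.emb S.emb_bijective

theorem equivC_mul (p p' : Bool × L) :
    S.equivC p * S.equivC p' = S.equivC (xor p.1 p'.1, p.2 * p'.2) := by
  apply Subtype.ext
  show ((S.emb p : S.C) : G) * (S.emb p' : G) = (S.emb (xor p.1 p'.1, p.2 * p'.2) : G)
  obtain ⟨b, l⟩ := p
  obtain ⟨b', l'⟩ := p'
  simp only [emb, map_mul]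
  have hc := (S.commute_ι l).eq
  cases b <;> cases b' <;> simp [mul_assoc]
  · rw [← mul_assoc (S.ι l), hc, mul_assoc]
  · rw [← mul_assoc (S.ι l), hc, mul_assoc, ← mul_assoc S.t, S.t_mul_self, one_mul]

/-- The projection to `L`. -/
noncomputable def pr : S.C →* L :=
  MonoidHom.mk' (fun x => (S.equivC.symm x).2) fun x y => by
    obtain ⟨p, rfl⟩ := S.equivC.surjective x
    obtain ⟨p', rfl⟩ := S.equivC.surjective y
    rw [S.equivC_mul]; simp

/-- The linear character with kernel `ι L`. -/
noncomputable def sgn : S.C →* ℂˣ :=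
  MonoidHom.mk' (fun x => if (S.equivC.symm x).1 then (-1 : ℂˣ) else 1) fun x y => by
    obtain ⟨p, rfl⟩ := S.equivC.surjective x
    obtain ⟨p', rfl⟩ := S.equivC.surjective y
    rw [S.equivC_mul]
    simp only [Equiv.symm_apply_apply]
    cases p.1 <;> cases p'.1 <;> simp

@[simp] theorem pr_equivC (p : Bool × L) : S.pr (S.equivC p) = p.2 := by simp [pr]

@[simp] theorem sgn_equivC (p : Bool × L) : S.sgn (S.equivC p) = if p.1 then (-1 : ℂˣ) else 1 := by
  simp [sgn]

theorem equivC_val (p : Bool × L) : ((S.equivC p : S.C) : G) = (if p.1 then S.t else 1) * S.ι p.2 := rfl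

/-- `(1 - sgn) ⊗ f`. -/
noncomputable def tw (f : L → ℂ) : S.C → ℂ := fun x => f (S.pr x) - ((S.sgn x : ℂˣ) : ℂ) * f (S.pr x)

theorem tw_equivC (f : L → ℂ) (p : Bool × L) :
    S.tw f (S.equivC p) = if p.1 then 2 * f p.2 else 0 := by
  simp only [tw, pr_equivC, sgn_equivC]
  split_ifs <;> push_cast <;> ring

theorem tw_gen [Fintype G] {f : L → ℂ} (hf : IsGeneralizedCharacter L f) : IsGeneralizedCharacter S.C (S.tw f) :=
  Char.IsGeneralizedCharacter.sub (Char.IsGeneralizedCharacter.comp hf S.pr)
    (Char.IsGeneralizedCharacter.mul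
      (Char.IsCharacter.isGeneralized (Data.isCharacter_units S.sgn))
      (Char.IsGeneralizedCharacter.comp hf S.pr))

theorem card_C [Finite G] : Nat.card S.C = 2 * Nat.card L := by
  rw [← Nat.card_congr S.equivC, Nat.card_prod]
  simp

variable [Fintype G] [Fintype L]

theorem sum_C (F : S.C → ℂ) : ∑ x, F x = ∑ l, F (S.equivC (true, l)) + ∑ l, F (S.equivC (false, l)) := by
  rw [← S.equivC.sum_comp, Fintype.sum_prod_type, Fintype.sum_bool]

/-- The supporting set: products of `t` and elements of odd order. -/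
def supp (N : ℕ) : Set G := {x | x ^ N = S.t}

omit [Fintype G] [Fintype L] in
theorem tw_eq_zero_of_notMem {N : ℕ} (hN : Odd N) {f : L → ℂ} (hf : ∀ l, f l ≠ 0 → l ^ N = 1) {x : S.C}
    (hx : (x : G) ∉ S.supp N) : S.tw f x = 0 := by
  obtain ⟨⟨b, l⟩, rfl⟩ := S.equivC.surjective x
  rw [S.tw_equivC]
  cases b
  · simp
  · by_contra h
    refine hx ?_
    simp only [if_true] at h
    have hl := hf l (fun e => h (by rw [e, mul_zero]))
    show ((S.equivC (true, l) : S.C) : G) ^ N = S.t
    rw [S.equivC_val]
    simp only [if_true]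
    rw [(S.commute_ι l).symm.mul_pow, ← map_pow, hl, map_one, mul_one]
    obtain ⟨r, rfl⟩ := hN
    rw [pow_succ, pow_mul, pow_two, S.t_mul_self, one_pow, one_mul]

omit [Fintype G] [Fintype L] in
theorem supp_ti {N : ℕ} : ∀ g : G, ∀ s ∈ S.supp N, g⁻¹ * s * g ∈ S.supp N → g ∈ S.C := by
  intro g s hs h
  have h1 : (g⁻¹ * s * g⁻¹⁻¹) ^ N = S.t := by rw [inv_inv]; exact h
  rw [conj_pow, show s ^ N = S.t from hs, inv_inv, mul_assoc, inv_mul_eq_iff_eq_mul] at h1
  exact S.mem_C.2 h1.symm

theorem card_invols : (Exceptional.invols G).card * Nat.card S.C = Nat.card G := by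
  rw [← PSL2.card_isConj_mul_centralizer S.t]
  congr 1
  rw [Nat.card_eq_fintype_card, Fintype.card_subtype]
  refine congrArg Finset.card (Finset.ext fun x => ?_)
  simp only [Exceptional.mem_invols, Finset.mem_filter, Finset.mem_univ, true_and]
  constructor
  · rintro ⟨h1, h2⟩
    exact isConj_iff.2 (S.conj_invol _ _ S.orderOf_t (orderOf_eq_prime (by rw [pow_two, h1]) h2))
  · intro h
    obtain ⟨g, rfl⟩ := isConj_iff.1 h
    refine ⟨?_, fun e => ?_⟩
    · rw [show g * S.t * g⁻¹ * (g * S.t * g⁻¹) = g * (S.t * S.t) * g⁻¹ by group, S.t_mul_self]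
      group
    · have := S.orderOf_t
      rw [conj_eq_one_iff.1 e, orderOf_one] at this
      omega

/-- Pairs of involutions with product in the support lie in the centraliser of `t`. -/
theorem pairInv_indFun_tw {N : ℕ} (hN : Odd N) {f : L → ℂ} (hf : ∀ l, f l ≠ 0 → l ^ N = 1) :
    Exceptional.pairInv (indFun S.C (S.tw f)) =
      ((Exceptional.invols G).card : ℂ) * Exceptional.pairInv (S.tw f) := by
  set α := S.tw f with hα
  have h1 : ∀ x : G, ∑ u ∈ Exceptional.invols G, ∑ v ∈ Exceptional.invols G,
      extendByZero S.C α (x⁻¹ * (u * v) * x) =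
      ∑ u ∈ Exceptional.invols G, ∑ v ∈ Exceptional.invols G, extendByZero S.C α (u * v) := by
    intro x
    rw [← Exceptional.sum_invols_conj x⁻¹ fun u => ∑ v ∈ Exceptional.invols G, extendByZero S.C α (u * v)]
    refine Finset.sum_congr rfl fun u _ => ?_
    rw [← Exceptional.sum_invols_conj x⁻¹ fun v => extendByZero S.C α (x⁻¹ * u * x⁻¹⁻¹ * v)]
    refine Finset.sum_congr rfl fun v _ => ?_
    congr 1
    group
  have h2 : ∑ u ∈ Exceptional.invols G, ∑ v ∈ Exceptional.invols G, extendByZero S.C α (u * v) =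
      Exceptional.pairInv α := by
    have hmap : (Exceptional.invols G).filter (fun g => g ∈ S.C) =
        (Exceptional.invols S.C).map (Function.Embedding.subtype _) := by
      ext g
      simp only [Finset.mem_filter, Exceptional.mem_invols, Finset.mem_map, Function.Embedding.subtype_apply]
      constructor
      · rintro ⟨⟨h, h'⟩, hg⟩
        exact ⟨⟨g, hg⟩, ⟨Subtype.ext h, fun e => h' (congrArg Subtype.val e)⟩, rfl⟩
      · rintro ⟨a, ⟨h, h'⟩, rfl⟩
        exact ⟨⟨congrArg Subtype.val h, fun e => h' (Subtype.ext e)⟩, a.2⟩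
    have hz : ∀ u v : G, u * u = 1 → v * v = 1 → extendByZero S.C α (u * v) ≠ 0 → u ∈ S.C ∧ v ∈ S.C := by
      intro u v hu hv hne
      have hm : u * v ∈ S.C := by
        by_contra hm
        exact hne (Char.extendByZero_of_notMem _ _ hm)
      have hs : u * v ∈ S.supp N := by
        by_contra hs
        rw [Char.extendByZero_of_mem _ _ hm] at hne
        exact hne (S.tw_eq_zero_of_notMem hN hf hs)
      have hu' : u ∈ S.C := by
        have hui : u⁻¹ = u := inv_eq_of_mul_eq_one_right hu
        have hvi : v⁻¹ = v := inv_eq_of_mul_eq_one_right hv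
        have e : u * (u * v) * u⁻¹ = (u * v)⁻¹ := by
          rw [mul_inv_rev, hui, hvi, ← mul_assoc, hu, one_mul]
        have e2 := congrArg (· ^ N) e
        simp only [conj_pow, inv_pow] at e2
        rw [show (u * v) ^ N = S.t from hs, inv_eq_of_mul_eq_one_right S.t_mul_self,
          mul_inv_eq_iff_eq_mul] at e2
        exact S.mem_C.2 e2
      exact ⟨hu', (S.C.mul_mem_cancel_left hu').1 hm⟩
    rw [Exceptional.pairInv, ← Finset.sum_filter_of_ne (p := fun g => g ∈ S.C) (fun u hu h => by
      obtain ⟨v, hv, hne⟩ := Finset.exists_ne_zero_of_sum_ne_zero h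
      exact (hz u v (Exceptional.mem_invols.1 hu).1 (Exceptional.mem_invols.1 hv).1 hne).1), hmap,
      Finset.sum_map]
    refine Finset.sum_congr rfl fun a ha => ?_
    simp only [Function.Embedding.subtype_apply]
    rw [← Finset.sum_filter_of_ne (p := fun g => g ∈ S.C) (fun v hv hne =>
      (hz _ v (congrArg Subtype.val (Exceptional.mem_invols.1 ha).1) (Exceptional.mem_invols.1 hv).1 hne).2),
      hmap, Finset.sum_map]
    exact Finset.sum_congr rfl fun b _ => Char.extendByZero_coe S.C α (a * b)
  have hI := congrArg (Nat.cast (R := ℂ)) S.card_invols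
  push_cast at hI
  calc Exceptional.pairInv (indFun S.C α)
      = (Nat.card S.C : ℂ)⁻¹ * ∑ x : G, ∑ u ∈ Exceptional.invols G, ∑ v ∈ Exceptional.invols G,
          extendByZero S.C α (x⁻¹ * (u * v) * x) := by
        simp only [Exceptional.pairInv, indFun, ← Finset.mul_sum]
        rw [Finset.sum_comm (s := (Finset.univ : Finset G))]
        exact congrArg _ (Finset.sum_congr rfl fun u _ => Finset.sum_comm)
    _ = _ := by
      rw [Finset.sum_congr rfl fun x _ => h1 x, Finset.sum_const, Finset.card_univ, nsmul_eq_mul,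
        ← Nat.card_eq_fintype_card, h2, ← mul_assoc, ← hI]
      have hC : (Nat.card S.C : ℂ) ≠ 0 := Nat.cast_ne_zero.2 Nat.card_pos.ne'
      field_simp

theorem pairInv_tw {f : L → ℂ} (hf1 : ∀ l : L, l ≠ 1 → l * l = 1 → f l = 0) :
    Exceptional.pairInv (S.tw f) = 4 * Exceptional.pairInv f := by
  set P := (Finset.univ : Finset (Bool × L)).filter (fun p => p.2 * p.2 = 1 ∧ (p.1 = true ∨ p.2 ≠ 1)) with hP
  have hmap : Exceptional.invols S.C = P.map S.equivC.toEmbedding := by
    ext x
    obtain ⟨⟨b, l⟩, rfl⟩ := S.equivC.surjective x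
    have hone : (1 : S.C) = S.equivC (false, 1) := Subtype.ext (by simp [S.equivC_val])
    rw [Exceptional.mem_invols, S.equivC_mul, hone, ne_eq, S.equivC.apply_eq_iff_eq,
      S.equivC.apply_eq_iff_eq, Finset.mem_map_equiv, Equiv.symm_apply_apply, hP]
    simp only [Finset.mem_filter, Finset.mem_univ, true_and, Prod.mk.injEq, Bool.xor_self]
    cases b <;> simp
  set P' := (Finset.univ : Finset Bool) ×ˢ Exceptional.invols L with hP'
  have hsub : P' ⊆ P := by
    intro p hp
    simp only [hP', Finset.mem_product, Exceptional.mem_invols] at hp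
    simp [hP, hp.2.1, hp.2.2]
  have hz : ∀ p ∈ P, ∀ p' ∈ P, p ∉ P' ∨ p' ∉ P' → S.tw f (S.equivC (xor p.1 p'.1, p.2 * p'.2)) = 0 := by
    rintro ⟨b, l⟩ hp ⟨b', l'⟩ hp' h
    simp only [hP, Finset.mem_filter, Finset.mem_univ, true_and] at hp hp'
    simp only [hP', Finset.mem_product, Finset.mem_univ, true_and, Exceptional.mem_invols, not_and,
      ne_eq, not_not, hp.1, hp'.1, forall_const] at h
    rw [S.tw_equivC]
    split_ifs with hb
    · rcases h with h | h
      · subst h
        rcases eq_or_ne l' 1 with h' | h'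
        · subst h'
          have e1 : b = true := hp.2.resolve_right (fun e => e rfl)
          have e2 : b' = true := hp'.2.resolve_right (fun e => e rfl)
          subst e1; subst e2
          simp at hb
        · rw [one_mul, hf1 l' h' hp'.1, mul_zero]
      · subst h
        rcases eq_or_ne l 1 with h' | h'
        · subst h'
          have e1 : b = true := hp.2.resolve_right (fun e => e rfl)
          have e2 : b' = true := hp'.2.resolve_right (fun e => e rfl)
          subst e1; subst e2
          simp at hb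
        · rw [mul_one, hf1 l h' hp.1, mul_zero]
    · rfl
  rw [Exceptional.pairInv, hmap, Finset.sum_map]
  simp only [Finset.sum_map, Equiv.coe_toEmbedding, S.equivC_mul]
  rw [← Finset.sum_subset hsub fun p hp hp' => Finset.sum_eq_zero fun p' hp'' => hz p hp p' hp'' (Or.inl hp'),
    Finset.sum_congr rfl fun p hp => (Finset.sum_subset hsub fun p' hp'' hp' =>
      hz p (hsub hp) p' hp'' (Or.inr hp')).symm]
  simp only [hP', Finset.sum_product, Fintype.sum_bool, S.tw_equivC, Bool.xor_self, Bool.false_eq_true,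
    Bool.xor_false, Bool.false_xor, if_true, if_false, Finset.sum_add_distrib, Finset.sum_const_zero,
    add_zero, zero_add, ← Finset.mul_sum, Exceptional.pairInv]
  ring

theorem classInner_tw {f f' : L → ℂ} :
    classInner (S.tw f) (S.tw f') = 2 * classInner f f' := by
  simp only [classInner, S.card_C, S.sum_C, S.tw_equivC, Bool.false_eq_true, if_true, if_false,
    zero_mul, Finset.sum_const_zero, add_zero, map_mul, map_ofNat]
  rw [Finset.sum_congr rfl fun l _ => (show 2 * f l * (2 * conj (f' l)) = 4 * (f l * conj (f' l)) by ring),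
    ← Finset.mul_sum]
  push_cast
  rw [mul_inv]
  ring

theorem classInner_tw_res {f : L → ℂ} (χ : S.C → ℂ) :
    classInner (S.tw f) χ =
      2 * classInner (fun x => f (S.pr x)) χ - classInner f (fun l => χ (S.equivC (false, l))) := by
  simp only [classInner, S.card_C, S.sum_C, S.tw_equivC, S.pr_equivC, Bool.false_eq_true, if_true,
    if_false, zero_mul, Finset.sum_const_zero, add_zero, mul_assoc, ← Finset.mul_sum]
  push_cast
  rw [mul_inv]
  ring

/-- The main numerical consequence. -/
theorem false_of_twist {q m : ℕ} (D : Data L q m) (μ : Fin 3 → (D.A →* ℂˣ)) (hμ : ∀ k, μ k ≠ 1)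
    (hortho : ∀ k l, classInner (D.phi (μ k)) (D.phi (μ l)) = if k = l then 2 else 0)
    (htwist : ∀ χ : G → ℂ, IsClassFunction G χ → ∀ k,
      ∑ a : D.A, ((μ k a : ℂˣ) : ℂ) * conj (χ (S.ι a)) = ∑ a : D.A, ((μ 0 a : ℂˣ) : ℂ) * conj (χ (S.ι a)))
    (hcop : Nat.Coprime S.C.index q) : False := by
  set N := q * m with hNdef
  have hN : Odd N := D.odd_q.mul D.hm_odd
  have hsup : ∀ k, ∀ l : L, D.phi (μ k) l ≠ 0 → l ^ N = 1 := fun k l => D.phi_support (μ k)
  set H : Fin 3 → G → ℂ := fun k => indFun S.C (S.tw (D.phi (μ k))) with hH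
  have hHgen : ∀ k, IsGeneralizedCharacter G (H k) := fun k =>
    Char.isGeneralizedCharacter_indFun _ (S.tw_gen (D.phi_gen _))
  choose V hV hVinner using fun k => Char.IsGeneralizedCharacter.exists_decomp (hHgen k)
  have htC : S.t ∈ S.C := S.mem_C.2 (Commute.refl _)
  have htt : (⟨S.t, htC⟩ : S.C) = S.equivC (true, 1) := Subtype.ext (by simp [S.equivC_val])
  have ht_supp : S.t ∈ S.supp N := by
    show S.t ^ N = S.t
    obtain ⟨r, hr⟩ := hN
    rw [hr, pow_succ, pow_mul, pow_two, S.t_mul_self, one_pow, one_mul]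
  have hzero : ∀ k (x : S.C), (x : G) ∉ S.supp N → S.tw (D.phi (μ k)) x = 0 :=
    fun k x => S.tw_eq_zero_of_notMem hN (hsup k)
  have hcl : ∀ k, IsClassFunction S.C (S.tw (D.phi (μ k))) := fun k =>
    Char.IsGeneralizedCharacter.isClassFunction (S.tw_gen (D.phi_gen _))
  -- orthogonality
  have horth : ∀ k l, ∑ χ, V k χ * V l χ = if k = l then (4 : ℤ) else 0 := by
    intro k l
    have h1 : classInner (H k) (H l) = if k = l then (4 : ℂ) else 0 := by
      rw [CharInt.classInner_indFun_ti S.supp_ti (hzero k) (hcl l) (hzero l), S.classInner_tw, hortho]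
      split_ifs <;> norm_num
    have h2 : classInner (H k) (H l) = ((∑ χ, V k χ * V l χ : ℤ) : ℂ) := by
      conv_lhs => arg 1; rw [hV k]
      rw [Char.classInner_sum_left]
      push_cast
      refine Finset.sum_congr rfl fun χ _ => ?_
      rw [Char.classInner_smul_left, ← Char.conj_classInner (H l) χ.1, hVinner, map_intCast]
    rw [h2] at h1
    split_ifs at h1 ⊢ <;> exact_mod_cast h1
  -- degrees
  have hdeg : ∀ k, ∑ χ : IrrCharacter G, V k χ * (Char.degree χ : ℤ) = 0 := by
    intro k
    have h1 : H k 1 = 0 := by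
      rw [hH]
      simp only [Char.indFun_apply_one]
      rw [show (1 : S.C) = S.equivC (false, 1) from Subtype.ext (by simp [S.equivC_val]), S.tw_equivC]
      simp
    have h2 := congrFun (hV k) 1
    rw [h1] at h2
    simp only [Finset.sum_apply, Pi.smul_apply, smul_eq_mul, Char.apply_one_eq_degree] at h2
    exact_mod_cast h2.symm
  -- values at the involution
  choose b hb using fun χ : IrrCharacter G =>
    Exceptional.exists_int_apply_invol (Char.irr_isCharacter χ) S.t_mul_self
  have hbval : ∀ k, ∑ χ, V k χ * b χ = 4 * ((q : ℤ) - 1) := by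
    intro k
    have h1 : H k S.t = 4 * ((q : ℂ) - 1) := by
      have h := CharInt.indFun_eq_of_ti (t := (⟨S.t, htC⟩ : S.C)) S.supp_ti (hcl k) (hzero k) ht_supp
      rw [htt, S.tw_equivC, D.phi_one] at h
      show indFun S.C (S.tw (D.phi (μ k))) S.t = _
      simp only [equivC_val] at h
      simp only [if_true, map_one, mul_one] at h
      rw [h]; ring
    have h2 := congrFun (hV k) S.t
    rw [h1] at h2
    simp only [Finset.sum_apply, Pi.smul_apply, smul_eq_mul, hb] at h2
    have h3 : ((∑ χ, V k χ * b χ : ℤ) : ℂ) = ((4 * ((q : ℤ) - 1) : ℤ) : ℂ) := by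
      push_cast; exact h2.symm
    exact_mod_cast h3
  have hnorm : ∑ χ, b χ ^ 2 ≤ (q : ℤ) * ((q : ℤ) ^ 2 - 1) := by
    have h := Char.sum_irr_mul_conj S.t S.t
    rw [if_pos (IsConj.refl _)] at h
    simp only [hb, map_intCast] at h
    have h2 : (∑ χ, b χ ^ 2) = ((2 * Nat.card L : ℕ) : ℤ) := by
      rw [← S.card_C]
      have : ((∑ χ, b χ ^ 2 : ℤ) : ℂ) = ((Nat.card S.C : ℤ) : ℂ) := by
        push_cast; simp only [pow_two]; exact h
      exact_mod_cast this
    rw [h2, D.card_L]
    push_cast [Nat.one_le_pow 2 q (by have := D.hq; omega)]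
    rfl
  -- congruence modulo two
  have hpar : ∀ k l χ, 2 ∣ V k χ - V l χ := by
    intro k l χ
    have hclχ : IsClassFunction G χ.1 := Char.IsCharacter.isClassFunction (Char.irr_isCharacter χ)
    set χC : S.C → ℂ := fun x => χ.1 (x : G) with hχC
    have hresgen : IsGeneralizedCharacter S.C χC :=
      Char.IsGeneralizedCharacter.restrict (Char.irr_isGeneralized χ) S.C
    have hp : ∀ j, ∃ z : ℤ, classInner (fun x => D.phi (μ j) (S.pr x)) χC = z := fun j =>
      Char.IsGeneralizedCharacter.exists_int_classInner (Char.IsGeneralizedCharacter.comp (D.phi_gen _) S.pr) hresgen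
    choose p hp using hp
    have hr : ∀ j, classInner (D.phi (μ j)) (fun l => χC (S.equivC (false, l))) =
        classInner (D.phi (μ 0)) (fun l => χC (S.equivC (false, l))) := by
      intro j
      have hfun : (fun l => χC (S.equivC (false, l))) = fun l => χ.1 (S.ι l) := by
        funext l
        simp [hχC, S.equivC_val]
      have hclL : IsClassFunction L (fun l => χ.1 (S.ι l)) := by
        intro g h
        simp only [map_mul, map_inv]
        exact hclχ _ _
      rw [hfun]
      simp only [Data.phi, Char.classInner_sub_left]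
      rw [Char.classInner_indFun _ _ hclL, Char.classInner_indFun _ _ hclL]
      simp only [classInner]
      rw [htwist χ.1 hclχ j]
    have hval : ∀ j, (V j χ : ℂ) =
        2 * (p j : ℂ) - classInner (D.phi (μ 0)) (fun l => χC (S.equivC (false, l))) := by
      intro j
      rw [← hVinner j χ, hH]
      simp only
      rw [Char.classInner_indFun _ _ hclχ, S.classInner_tw_res, ← hr j, ← hp j]

    refine ⟨p k - p l, ?_⟩
    have : ((V k χ - V l χ : ℤ) : ℂ) = ((2 * (p k - p l) : ℤ) : ℂ) := by
      push_cast; rw [hval k, hval l]; ring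
    exact_mod_cast this
  -- the identity
  set I := (Exceptional.invols G).card with hI
  have hIindex : I = S.C.index := by
    have h1 := S.card_invols
    rw [← S.C.index_mul_card] at h1
    exact Nat.eq_of_mul_eq_mul_right Nat.card_pos h1
  have hIpos : 0 < I := hIindex ▸ Nat.pos_of_ne_zero Subgroup.index_ne_zero_of_finite
  have hid : (I : ℚ) ^ 2 * ∑ χ, (V 0 χ : ℚ) * (b χ : ℚ) ^ 2 / (Char.degree χ : ℚ) =
      4 * (I : ℚ) * (2 * (q : ℚ) ^ 2 * ((q : ℚ) - 1)) := by
    have hsum : ∀ χ : IrrCharacter G, Exceptional.sumInv χ.1 = (I : ℂ) * (b χ : ℂ) := by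
      intro χ
      rw [Exceptional.sumInv, Finset.sum_congr rfl fun u hu => ?_, Finset.sum_const, nsmul_eq_mul]
      obtain ⟨g, rfl⟩ := S.conj_invol S.t u S.orderOf_t (orderOf_eq_prime
        (by rw [pow_two, (Exceptional.mem_invols.1 hu).1]) (Exceptional.mem_invols.1 hu).2)
      rw [Char.IsCharacter.isClassFunction (Char.irr_isCharacter χ) S.t g, hb]
    have hpairG : Exceptional.pairInv (H 0) = 4 * (I : ℂ) * (2 * (q : ℂ) ^ 2 * ((q : ℂ) - 1)) := by
      rw [hH]
      simp only
      rw [S.pairInv_indFun_tw hN (hsup 0), S.pairInv_tw, D.phi_pair _ (hμ 0)]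
      · ring
      · intro l hl hll
        by_contra hne
        refine hl ?_
        have h := D.phi_support (μ 0) hne
        obtain ⟨r, hr⟩ := hN
        rwa [← hNdef, hr, pow_succ, pow_mul, pow_two, hll, one_pow, one_mul] at h
    rw [hV 0, Exceptional.pairInv_sum_smul] at hpairG
    have hterm : ∀ χ : IrrCharacter G, Exceptional.pairInv χ.1 =
        (I : ℂ) ^ 2 * (b χ : ℂ) ^ 2 / (Char.degree χ : ℂ) := by
      intro χ
      have h := Exceptional.apply_one_mul_pairInv χ.2
      rw [hsum, Char.apply_one_eq_degree] at h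
      rw [eq_div_iff (Nat.cast_ne_zero.2 (Char.degree_pos χ).ne')]
      linear_combination h
    simp only [hterm] at hpairG
    apply (algebraMap ℚ ℂ).injective
    simp only [eq_ratCast]
    push_cast
    rw [← hpairG, Finset.mul_sum]
    exact Finset.sum_congr rfl fun χ _ => by ring
  exact false_of_vectors V (fun χ => Char.degree χ) b q I (by have := D.hq; omega) hIpos
    (hIindex ▸ hcop) (fun χ => Char.degree_pos χ) horth hdeg hpar hbval hnorm hid

end Setup

end Cfsg.Agent.ReeS3
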