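import Cfsg.Agent.Lib.ReeS3.Data
import Cfsg.Agent.Lib.CharInt.TI
import Cfsg.Agent.Lib.Char.Generalized
import Cfsg.Agent.Lib.Char.Linear
import Cfsg.Agent.Lib.Exceptional.InvolPairs
import Cfsg.Agent.Lib.PSL2.Klein

/-!
# Projective virtual characters of `PSL₂(3^odd)` attached to the non-split torus

For a linear character `μ` of the torus `A`, `Φ μ = 2 (Ind_Q λ + Ind_Q λ⁻¹) - Ind_A μ` vanishes on
elements of even order, has norm two, and its sum over products of two involutions is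
`2 q² (q - 1)`.
-/

set_option autoImplicit false
set_option linter.style.haveILetI false

namespace Cfsg.Agent.ReeS3

open Cfsg
open scoped ComplexConjugate

universe u

namespace Data

open scoped Classical

variable {L : Type u} [Group L] [Fintype L] {q m : ℕ} (D : Data L q m)
include D

theorem m_pos : 0 < m := D.hm_odd.pos

theorem two_le_m : 2 ≤ m := by have := D.hm; have := D.hq; omega

theorem coprime_q_m : Nat.Coprime q m := by
  have h1 := D.hm
  have hdq : q.gcd m ∣ q := Nat.gcd_dvd_left q m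
  have hd : q.gcd m ∣ q + 1 := h1 ▸ (Nat.gcd_dvd_right q m).mul_left 4
  exact Nat.eq_one_of_dvd_one ((Nat.dvd_add_right hdq).1 hd)

theorem odd_q : Odd q := by
  obtain ⟨k, hk⟩ := D.three_pow
  rw [hk]; exact Odd.pow (by decide)

theorem i_mul_self : D.i * D.i = 1 := by
  rw [← pow_two, ← D.orderOf_i, pow_orderOf_eq_one]

theorem i_ne_one : D.i ≠ 1 := fun h => by
  have := D.orderOf_i
  rw [h, orderOf_one] at this
  omega

theorem eq_one_of_sq {x : L} (hx : x * x = 1) (hxm : x ^ m = 1) : x = 1 := by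
  obtain ⟨r, hr⟩ := D.hm_odd
  rwa [hr, pow_succ, pow_mul, pow_two, hx, one_pow, one_mul] at hxm

/-- A nonidentity element of `A` conjugated into `A` by `g` forces `g` to centralise `i`. -/
theorem commute_of_conj_mem {a g : L} (ha : a ∈ D.A) (ha1 : a ≠ 1) (hg : g * a * g⁻¹ ∈ D.A) :
    Commute g D.i := by
  have hc : Commute (g * D.i * g⁻¹) (g * a * g⁻¹) :=
    Commute.conj_iff g |>.2 ((D.mem_A a).1 ha).1.symm
  have hne : g * a * g⁻¹ ≠ 1 := fun h => ha1 (conj_eq_one_iff.1 h)
  have hsq : (g * D.i * g⁻¹) * (g * D.i * g⁻¹) = 1 := by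
    rw [show (g * D.i * g⁻¹) * (g * D.i * g⁻¹) = g * (D.i * D.i) * g⁻¹ by group, D.i_mul_self]
    group
  have hodd : ∀ x : L, x * x = 1 → x ^ m = 1 → x = 1 := by
    intro x hx hxm
    obtain ⟨r, hr⟩ := D.hm_odd
    rwa [hr, pow_succ, pow_mul, pow_two, hx, one_pow, one_mul] at hxm
  rcases D.cent_A _ hg hne _ hc with h | h
  · exact absurd (conj_eq_one_iff.1 (hodd _ hsq ((D.mem_A _).1 h).2)) D.i_ne_one
  · obtain ⟨h1, h2⟩ := (D.mem_A _).1 h
    have hcomm : Commute D.i (g * D.i * g⁻¹) := by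
      have e := h1.eq
      rw [mul_assoc] at e
      exact (mul_left_cancel e).symm
    have hx : D.i * (g * D.i * g⁻¹) * (D.i * (g * D.i * g⁻¹)) = 1 := by
      rw [show D.i * (g * D.i * g⁻¹) * (D.i * (g * D.i * g⁻¹)) =
        D.i * ((g * D.i * g⁻¹) * D.i) * (g * D.i * g⁻¹) by group, ← hcomm.eq]
      rw [show D.i * (D.i * (g * D.i * g⁻¹)) * (g * D.i * g⁻¹) =
        (D.i * D.i) * ((g * D.i * g⁻¹) * (g * D.i * g⁻¹)) by group, D.i_mul_self, hsq, one_mul]
    have := hodd _ hx h2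
    rw [mul_eq_one_iff_eq_inv', inv_eq_of_mul_eq_one_right D.i_mul_self] at this
    exact mul_inv_eq_iff_eq_mul.1 this

/-- The centraliser of `i` consists of `A ∪ i A` and involutions inverting `A`, half each. -/
theorem card_fix_part :
    Nat.card {x : L // Commute x D.i ∧ (x ∈ D.A ∨ D.i * x ∈ D.A)} = 2 * m := by
  classical
  refine Eq.trans ?_ ((congrArg₂ (· + ·) D.card_A D.card_A).trans (two_mul m).symm)
  rw [← Nat.card_sum]
  refine (Nat.card_congr (Equiv.ofBijective (Sum.elim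
    (fun a : D.A => (⟨a, ((D.mem_A a).1 a.2).1, Or.inl a.2⟩ :
      {x : L // Commute x D.i ∧ (x ∈ D.A ∨ D.i * x ∈ D.A)}))
    (fun a : D.A => ⟨D.i * a, (Commute.refl _).mul_left ((D.mem_A a).1 a.2).1,
      Or.inr (by rw [← mul_assoc, D.i_mul_self, one_mul]; exact a.2)⟩)) ⟨?_, ?_⟩)).symm
  · have hno : ∀ a b : D.A, (a : L) ≠ D.i * b := by
      intro a b h
      have hi : D.i ∈ D.A := (Subgroup.mul_mem_cancel_right D.A b.2).1 (h ▸ a.2)
      exact D.i_ne_one (D.eq_one_of_sq D.i_mul_self ((D.mem_A _).1 hi).2)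
    rintro (a | a) (b | b) h <;> have h' := congrArg Subtype.val h <;>
      simp only [Sum.elim_inl, Sum.elim_inr] at h'
    · exact congrArg Sum.inl (Subtype.ext h')
    · exact absurd h' (hno a b)
    · exact absurd h'.symm (hno b a)
    · exact congrArg Sum.inr (Subtype.ext (mul_left_cancel h'))
  · rintro ⟨x, hc, hx | hx⟩
    · exact ⟨Sum.inl ⟨x, hx⟩, rfl⟩
    · exact ⟨Sum.inr ⟨_, hx⟩, Subtype.ext (by simp only [Sum.elim_inr]; rw [← mul_assoc, D.i_mul_self, one_mul])⟩

theorem card_flip_part :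
    Nat.card {x : L // Commute x D.i ∧ ¬ (x ∈ D.A ∨ D.i * x ∈ D.A)} = 2 * m := by
  classical
  have h1 := D.card_fix_part
  have h2 := D.card_cent_i
  rw [Nat.card_eq_fintype_card, Fintype.card_subtype] at h1
  rw [show Nat.card ↥(Subgroup.centralizer ({D.i} : Set L)) = Nat.card {x : L // Commute x D.i} from
    Nat.card_congr (Equiv.subtypeEquivRight fun x => Subgroup.mem_centralizer_singleton_iff),
    Nat.card_eq_fintype_card, Fintype.card_subtype] at h2
  rw [Nat.card_eq_fintype_card, Fintype.card_subtype]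
  have h3 := Finset.card_filter_add_card_filter_not (s := Finset.univ.filter fun x : L => Commute x D.i)
    (fun x => x ∈ D.A ∨ D.i * x ∈ D.A)
  rw [Finset.filter_filter, Finset.filter_filter] at h3
  omega

/-- The involutions. -/
theorem card_invols : 4 * m * (Exceptional.invols L).card = Nat.card L := by
  classical
  have hcl := PSL2.card_isConj_mul_centralizer D.i
  rw [D.card_cent_i] at hcl
  rw [mul_comm, ← hcl]
  congr 1
  rw [Nat.card_eq_fintype_card, Fintype.card_subtype]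
  refine congrArg Finset.card (Finset.ext fun x => ?_)
  simp only [Exceptional.mem_invols, Finset.mem_filter, Finset.mem_univ, true_and]
  constructor
  · rintro ⟨h1, h2⟩
    exact isConj_iff.2 (D.conj_invol _ _ D.orderOf_i (orderOf_eq_prime (by rw [pow_two, h1]) h2))
  · intro h
    obtain ⟨g, rfl⟩ := isConj_iff.1 h
    refine ⟨?_, fun e => D.i_ne_one (conj_eq_one_iff.1 e)⟩
    rw [show g * D.i * g⁻¹ * (g * D.i * g⁻¹) = g * (D.i * D.i) * g⁻¹ by group, D.i_mul_self]
    group

omit [Fintype L] in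
theorem exists_lam [Finite L] : ∃ lam : D.Q →* ℂˣ, lam ≠ 1 := by
  letI : CommGroup D.Q := { mul_comm := fun a b => Subtype.ext (D.Q_comm a a.2 b b.2) }
  obtain ⟨a, ha⟩ : ∃ a : D.Q, a ≠ 1 := by
    haveI : Nontrivial D.Q := Finite.one_lt_card_iff_nontrivial.1 (by
      rw [D.card_Q]; have := D.hq; omega)
    exact exists_ne 1
  obtain ⟨φ, hφ⟩ := CommGroup.exists_apply_ne_one_of_hasEnoughRootsOfUnity D.Q ℂ ha
  exact ⟨φ, fun h => hφ (by rw [h]; rfl)⟩

/-- A fixed nontrivial linear character of `Q`. -/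
noncomputable def lam : D.Q →* ℂˣ := Classical.choose D.exists_lam

/-- `Ind_Q λ + Ind_Q λ⁻¹`. -/
noncomputable def gam : L → ℂ :=
  indFun D.Q (fun r => ((D.lam r : ℂˣ) : ℂ)) + indFun D.Q (fun r => ((D.lam r⁻¹ : ℂˣ) : ℂ))

/-- The projective virtual character attached to `μ`. -/
noncomputable def phi (μ : D.A →* ℂˣ) : L → ℂ :=
  (2 : ℂ) • D.gam - indFun D.A (fun a => ((μ a : ℂˣ) : ℂ))

omit D [Fintype L] in
theorem isCharacter_units {H : Type*} [Group H] (f : H →* ℂˣ) :
    IsCharacter H (fun h => ((f h : ℂˣ) : ℂ)) :=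
  Char.irr_isCharacter (Char.linIrr ((Units.coeHom ℂ).comp f))

theorem isCharacter_lam_inv : IsCharacter D.Q (fun r => ((D.lam r⁻¹ : ℂˣ) : ℂ)) := by
  have h := isCharacter_units (H := D.Q)
    ({ toFun := fun r => D.lam r⁻¹
       map_one' := by simp
       map_mul' := fun a b => by
        rw [mul_inv_rev, map_mul, mul_comm] } : D.Q →* ℂˣ)
  exact h

theorem gam_gen : IsGeneralizedCharacter L D.gam :=
  Char.IsGeneralizedCharacter.add
    (Char.isGeneralizedCharacter_indFun _ (Char.IsCharacter.isGeneralized (isCharacter_units _)))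
    (Char.isGeneralizedCharacter_indFun _ (Char.IsCharacter.isGeneralized D.isCharacter_lam_inv))

theorem phi_gen (μ : D.A →* ℂˣ) : IsGeneralizedCharacter L (D.phi μ) := by
  refine Char.IsGeneralizedCharacter.sub ?_
    (Char.isGeneralizedCharacter_indFun _ (Char.IsCharacter.isGeneralized (isCharacter_units _)))
  rw [show ((2 : ℂ) • D.gam) = D.gam + D.gam from two_smul ℂ _]
  exact Char.IsGeneralizedCharacter.add D.gam_gen D.gam_gen

theorem phi_one (μ : D.A →* ℂˣ) : D.phi μ 1 = 2 * ((q : ℂ) - 1) := by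
  have hL : (2 : ℂ) * (Nat.card L : ℂ) = q * ((q : ℂ) ^ 2 - 1) := by
    have := congrArg (Nat.cast (R := ℂ)) D.card_L
    push_cast [Nat.one_le_pow 2 q (by have := D.hq; omega)] at this
    exact this
  have hA := congrArg (Nat.cast (R := ℂ)) (D.A.index_mul_card)
  have hQ := congrArg (Nat.cast (R := ℂ)) (D.Q.index_mul_card)
  rw [D.card_A] at hA
  rw [D.card_Q] at hQ
  push_cast at hA hQ
  have hm := congrArg (Nat.cast (R := ℂ)) D.hm
  push_cast at hm
  have hm0 : (m : ℂ) ≠ 0 := Nat.cast_ne_zero.2 D.m_pos.ne'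
  have hq0 : (q : ℂ) ≠ 0 := Nat.cast_ne_zero.2 (by have := D.hq; omega)
  simp only [phi, gam, Pi.sub_apply, Pi.smul_apply, Pi.add_apply, smul_eq_mul, Char.indFun_apply_one,
    inv_one, map_one, Units.val_one, mul_one]
  have e1 : 2 * (D.Q.index : ℂ) = (q : ℂ) ^ 2 - 1 :=
    mul_left_cancel₀ hq0 (by linear_combination 2 * hQ + hL)
  have e2 : (D.A.index : ℂ) = 2 * q * ((q : ℂ) - 1) := by
    refine mul_left_cancel₀ hm0 ?_
    linear_combination hA + (1 / 2 : ℂ) * hL + (1 / 2 : ℂ) * q * ((q : ℂ) - 1) * hm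
  linear_combination 2 * e1 - e2

/-- The support consists of elements of odd order. -/
theorem phi_support (μ : D.A →* ℂˣ) {x : L} (h : D.phi μ x ≠ 0) : x ^ (q * m) = 1 := by
  by_contra hx
  refine h ?_
  have key : ∀ (H : Subgroup L) (θ : H → ℂ), Nat.card H ∣ q * m → indFun H θ x = 0 := by
    intro H θ hH
    refine Char.indFun_eq_zero_of_forall_notMem H θ fun g hg => hx ?_
    obtain ⟨k, hk⟩ := hH
    have h1 : (g⁻¹ * x * g) ^ (q * m) = 1 := by
      have h2 := congrArg Subtype.val (pow_card_eq_one' (x := (⟨_, hg⟩ : H)))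
      rw [hk, pow_mul]
      simp only [SubmonoidClass.coe_pow, OneMemClass.coe_one] at h2
      rw [h2, one_pow]
    rw [show g⁻¹ * x * g = g⁻¹ * x * g⁻¹⁻¹ by group, conj_pow, conj_eq_one_iff] at h1
    exact h1
  simp [phi, gam, key D.Q _ (by rw [D.card_Q]; exact dvd_mul_right _ _),
    key D.A _ (by rw [D.card_A]; exact dvd_mul_left _ _)]

theorem indQ_eq_zero {a : L} (ha : a ∈ D.A) (ha1 : a ≠ 1) (θ : D.Q → ℂ) : indFun D.Q θ a = 0 := by
  refine Char.indFun_eq_zero_of_forall_notMem _ _ fun g hg => ha1 ?_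
  have h1 : a ^ m = 1 := ((D.mem_A a).1 ha).2
  have h2 : a ^ q = 1 := by
    have h := congrArg Subtype.val (pow_card_eq_one' (x := (⟨_, hg⟩ : D.Q)))
    rw [D.card_Q] at h
    simp only [SubmonoidClass.coe_pow, OneMemClass.coe_one] at h
    rwa [show g⁻¹ * a * g = g⁻¹ * a * g⁻¹⁻¹ by group, conj_pow, conj_eq_one_iff] at h
  have := pow_gcd_eq_one.2 ⟨h2, h1⟩
  rwa [Nat.coprime_iff_gcd_eq_one.1 D.coprime_q_m, pow_one] at this

theorem indA_eq_zero {r : L} (hr : r ∈ D.Q) (hr1 : r ≠ 1) (θ : D.A → ℂ) : indFun D.A θ r = 0 := by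
  refine Char.indFun_eq_zero_of_forall_notMem _ _ fun g hg => hr1 ?_
  have h1 : r ^ q = 1 := by
    have h := congrArg Subtype.val (pow_card_eq_one' (x := (⟨_, hr⟩ : D.Q)))
    rw [D.card_Q] at h
    simpa using h
  have h2 : r ^ m = 1 := by
    have h := ((D.mem_A _).1 hg).2
    rwa [show g⁻¹ * r * g = g⁻¹ * r * g⁻¹⁻¹ by group, conj_pow, conj_eq_one_iff] at h
  have := pow_gcd_eq_one.2 ⟨h1, h2⟩
  rwa [Nat.coprime_iff_gcd_eq_one.1 D.coprime_q_m, pow_one] at this

theorem sum_lam : ∑ r : D.Q, ((D.lam r : ℂˣ) : ℂ) = 0 :=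
  sum_hom_units_eq_zero ((Units.coeHom ℂ).comp D.lam) fun h =>
    Classical.choose_spec D.exists_lam (MonoidHom.ext fun r => Units.ext (DFunLike.congr_fun h r))

theorem gam_apply_Q {r : L} (hr : r ∈ D.Q) (hr1 : r ≠ 1) : D.gam r = -1 := by
  classical
  set N := Subgroup.normalizer (D.Q : Set L) with hN
  have hmem : ∀ x : L, x⁻¹ * r * x ∈ D.Q ↔ x ∈ N := by
    intro x
    constructor
    · intro h
      have hne : x⁻¹ * r * x ≠ 1 := fun e => hr1 (by
        rw [show x⁻¹ * r * x = x⁻¹ * r * x⁻¹⁻¹ by group, conj_eq_one_iff] at e; exact e)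
      refine mem_normalizer_of_cent (fun y => ?_)
      rw [← D.cent_Q r hr hr1, ← SetLike.mem_coe]
      have e := D.cent_Q _ h hne
      have h1 : y ∈ Subgroup.centralizer ({x⁻¹ * r * x} : Set L) ↔
          x * y * x⁻¹ ∈ Subgroup.centralizer ({r} : Set L) := by
        rw [Subgroup.mem_centralizer_singleton_iff, Subgroup.mem_centralizer_singleton_iff]
        constructor <;> intro hh
        · calc x * y * x⁻¹ * r = x * (y * (x⁻¹ * r * x)) * x⁻¹ := by group
            _ = r * (x * y * x⁻¹) := by rw [hh]; group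
        · calc y * (x⁻¹ * r * x) = x⁻¹ * (x * y * x⁻¹ * r) * x := by group
            _ = x⁻¹ * r * x * y := by rw [hh]; group
      rw [e, D.cent_Q r hr hr1] at h1
      simpa only [SetLike.mem_coe, D.cent_Q r hr hr1] using h1
    · intro hx
      have := (Subgroup.mem_normalizer_iff.1 (inv_mem hx) r).1 hr
      rwa [inv_inv] at this
  let c : N → D.Q := fun x => ⟨(x : L)⁻¹ * r * x, (hmem _).2 x.2⟩
  let ψ : N × Bool → D.Q := fun p => if p.2 then c p.1 else (c p.1)⁻¹
  have hne : ∀ p, ψ p ∈ (Finset.univ.erase (1 : D.Q)) := by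
    intro p
    refine Finset.mem_erase.2 ⟨?_, Finset.mem_univ _⟩
    have hc : c p.1 ≠ 1 := fun h => hr1 (by
      have h' := congrArg Subtype.val h
      change (p.1 : L)⁻¹ * r * p.1 = 1 at h'
      rwa [show (p.1 : L)⁻¹ * r * p.1 = (p.1 : L)⁻¹ * r * (p.1 : L)⁻¹⁻¹ by group, conj_eq_one_iff] at h')
    simp only [ψ]
    split_ifs
    · exact hc
    · exact inv_ne_one.2 hc
  have hfib : ∀ s : D.Q, (Finset.univ.filter fun p => ψ p = s).card ≤ q := by
    intro s
    rcases (Finset.univ.filter fun p => ψ p = s).eq_empty_or_nonempty with h | ⟨p₀, hp₀⟩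
    · rw [h]; simp
    have hbool : ∀ p, ψ p = s → p.2 = p₀.2 ∧ (p.1 : L) * (p₀.1 : L)⁻¹ ∈ D.Q := by
      intro p hp
      have heq : ψ p = ψ p₀ := hp.trans (Finset.mem_filter.1 hp₀).2.symm
      have hr3 := D.Q_three r hr
      have hreal := D.noreal r hr3 hr1 ((p.1 : L) * (p₀.1 : L)⁻¹)
      obtain ⟨a, b⟩ := p
      obtain ⟨a₀, b₀⟩ := p₀
      have hb : b = b₀ := by
        by_contra hb
        have h' : (a : L)⁻¹ * r * a = ((a₀ : L)⁻¹ * r * a₀)⁻¹ := by
          cases b <;> cases b₀ <;> simp only [ψ, Bool.false_eq_true, if_true, if_false] at heq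
          · exact absurd rfl hb
          · have h2 := congrArg (fun z : D.Q => ((z⁻¹ : D.Q) : L)) heq
            simpa [c] using h2
          · have h2 := congrArg (fun z : D.Q => (z : L)) heq
            simpa [c] using h2
          · exact absurd rfl hb
        refine hreal ?_
        calc (a : L) * (a₀ : L)⁻¹ * r * ((a : L) * (a₀ : L)⁻¹)⁻¹
            = ((a : L) * ((a₀ : L)⁻¹ * r * a₀)⁻¹ * (a : L)⁻¹)⁻¹ := by group
          _ = r⁻¹ := by rw [← h']; group
      refine ⟨hb, ?_⟩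
      rw [← D.cent_Q r hr hr1, Subgroup.mem_centralizer_singleton_iff]
      subst hb
      have h' : (a : L)⁻¹ * r * a = (a₀ : L)⁻¹ * r * a₀ := by
        cases b <;> simp only [ψ, Bool.false_eq_true, if_true, if_false] at heq
        · exact congrArg Subtype.val (inv_injective heq)
        · exact congrArg Subtype.val heq
      calc (a : L) * (a₀ : L)⁻¹ * r = (a : L) * ((a₀ : L)⁻¹ * r * a₀) * (a₀ : L)⁻¹ := by group
        _ = r * ((a : L) * (a₀ : L)⁻¹) := by rw [← h']; group
    refine le_trans ?_ (le_of_eq D.card_Q)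
    rw [Nat.card_eq_fintype_card, ← Fintype.card_coe]
    refine Fintype.card_le_of_injective
      (fun p => (⟨_, (hbool p.1 (Finset.mem_filter.1 p.2).2).2⟩ : D.Q)) fun a b hab => ?_
    have h1 := mul_right_cancel (congrArg Subtype.val hab)
    exact Subtype.ext (Prod.ext (Subtype.ext h1)
      ((hbool a.1 (Finset.mem_filter.1 a.2).2).1.trans (hbool b.1 (Finset.mem_filter.1 b.2).2).1.symm))
  have htot : ∑ s ∈ Finset.univ.erase (1 : D.Q), (Finset.univ.filter fun p => ψ p = s).card =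
      ∑ s ∈ Finset.univ.erase (1 : D.Q), q := by
    rw [← Finset.card_eq_sum_card_fiberwise fun p _ => hne p, Finset.sum_const, smul_eq_mul,
      Finset.card_erase_of_mem (Finset.mem_univ _), Finset.card_univ, Finset.card_univ,
      Fintype.card_prod, Fintype.card_bool, ← Nat.card_eq_fintype_card, ← Nat.card_eq_fintype_card,
      D.card_Q, mul_comm, D.card_normalizer_Q]
    ring
  have heach := (Finset.sum_eq_sum_iff_of_le fun s _ => hfib s).1 htot
  have hlam : ∑ s ∈ Finset.univ.erase (1 : D.Q), ((D.lam s : ℂˣ) : ℂ) = -1 := by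
    have h := Finset.add_sum_erase Finset.univ (fun s : D.Q => ((D.lam s : ℂˣ) : ℂ)) (Finset.mem_univ 1)
    rw [D.sum_lam, map_one, Units.val_one] at h
    linear_combination h
  have hsum : ∑ p : N × Bool, ((D.lam (ψ p) : ℂˣ) : ℂ) = -(q : ℂ) := by
    rw [← Finset.sum_fiberwise_of_maps_to (g := ψ) (t := Finset.univ.erase 1) fun p _ => hne p]
    rw [Finset.sum_congr rfl fun s hs => (by
      rw [Finset.sum_congr rfl (g := fun _ => ((D.lam s : ℂˣ) : ℂ)) fun p hp => by
        rw [(Finset.mem_filter.1 hp).2], Finset.sum_const, heach s hs, nsmul_eq_mul] :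
      _ = (q : ℂ) * ((D.lam s : ℂˣ) : ℂ))]
    rw [← Finset.mul_sum, hlam, mul_neg_one]
  have hval : ∀ f : D.Q → ℂ, indFun D.Q f r = (q : ℂ)⁻¹ * ∑ x : N, f (c x) := by
    intro f
    simp only [indFun, D.card_Q]
    congr 1
    rw [← Finset.sum_filter_of_ne (p := fun x => x ∈ N) fun x _ hx => by
      by_contra hn
      exact hx (Char.extendByZero_of_notMem _ _ fun h => hn ((hmem x).1 h)),
      Finset.sum_subtype (p := fun x => x ∈ N) _ (fun x => by simp)]
    exact Finset.sum_congr rfl fun x _ => Char.extendByZero_of_mem _ _ ((hmem _).2 x.2)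
  rw [gam, Pi.add_apply, hval, hval, ← mul_add, ← Finset.sum_add_distrib]
  rw [Fintype.sum_prod_type] at hsum
  simp only [Fintype.sum_bool, ψ, if_true, Bool.false_eq_true, if_false] at hsum
  rw [hsum]
  have hq0 : (q : ℂ) ≠ 0 := Nat.cast_ne_zero.2 (by have := D.hq; omega)
  field_simp
where
  mem_normalizer_of_cent {x : L} (h : ∀ y : L, y ∈ D.Q ↔ x * y * x⁻¹ ∈ D.Q) :
      x ∈ Subgroup.normalizer (D.Q : Set L) := Subgroup.mem_normalizer_iff.2 h

theorem conj_unit (μ : D.A →* ℂˣ) (a : D.A) : conj ((μ a : ℂˣ) : ℂ) = ((μ a⁻¹ : ℂˣ) : ℂ) :=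
  (CharInt.char_inv (isCharacter_units μ) a).symm

theorem indA_apply (μ : D.A →* ℂˣ) {a : D.A} (ha : a ≠ 1) :
    indFun D.A (fun x => ((μ x : ℂˣ) : ℂ)) (a : L) = 2 * (((μ a : ℂˣ) : ℂ) + ((μ a⁻¹ : ℂˣ) : ℂ)) := by
  classical
  have ha1 : (a : L) ≠ 1 := fun h => ha (Subtype.ext h)
  have hfix : ∀ x : L, Commute x D.i ∧ (x ∈ D.A ∨ D.i * x ∈ D.A) → x⁻¹ * (a : L) * x = a := by
    rintro x ⟨hc, hx⟩
    haveI := D.cyclicA
    letI := IsCyclic.commGroup (α := D.A)
    have hx' : Commute x (a : L) := by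
      rcases hx with hx | hx
      · exact congrArg Subtype.val (mul_comm (⟨x, hx⟩ : D.A) a)
      · have h1 : Commute (D.i * x) (a : L) := congrArg Subtype.val (mul_comm (⟨_, hx⟩ : D.A) a)
        have h2 : Commute D.i (a : L) := ((D.mem_A a).1 a.2).1.symm
        have := h2.inv_left.mul_left h1
        rwa [inv_mul_cancel_left] at this
    rw [mul_assoc, ← hx'.eq, inv_mul_cancel_left]
  have hflip : ∀ x : L, Commute x D.i ∧ ¬ (x ∈ D.A ∨ D.i * x ∈ D.A) → x⁻¹ * (a : L) * x = (a : L)⁻¹ := by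
    rintro x ⟨hc, hx⟩
    push Not at hx
    obtain ⟨h1, h2⟩ := D.outside x hc hx.1 hx.2
    have := h2 a a.2
    rw [inv_eq_of_mul_eq_one_right h1] at this ⊢
    exact this
  have hsupp : ∀ x : L, ¬ Commute x D.i →
      extendByZero D.A (fun y => ((μ y : ℂˣ) : ℂ)) (x⁻¹ * (a : L) * x) = 0 := by
    intro x hx
    refine Char.extendByZero_of_notMem _ _ fun h => hx ?_
    have h' := D.commute_of_conj_mem (g := x⁻¹) a.2 ha1 (by rwa [inv_inv])
    simpa using h'.inv_left
  simp only [indFun, D.card_A]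
  rw [← Finset.sum_filter_of_ne (p := fun x => Commute x D.i) fun x _ hx => by
    by_contra hn; exact hx (hsupp x hn),
    ← Finset.sum_filter_add_sum_filter_not _ (fun x => x ∈ D.A ∨ D.i * x ∈ D.A)]
  simp only [Finset.filter_filter]
  have hval : ∀ (b : D.A) (p : L → Prop) (s : Finset L), (∀ x, x ∈ s ↔ p x) →
      (∀ x, p x → x⁻¹ * (a : L) * x = b) → Nat.card {x // p x} = 2 * m →
      ∑ x ∈ s, extendByZero D.A (fun y => ((μ y : ℂˣ) : ℂ)) (x⁻¹ * (a : L) * x) =
        (2 * m : ℂ) * ((μ b : ℂˣ) : ℂ) := by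
    intro b p s hs hb hcard
    rw [Finset.sum_congr rfl fun x hx => (by
      rw [hb x ((hs x).1 hx), Char.extendByZero_coe] : _ = ((μ b : ℂˣ) : ℂ)),
      Finset.sum_const, nsmul_eq_mul,
      show s.card = Nat.card {x // p x} by
        rw [Nat.card_congr (Equiv.subtypeEquivRight fun x => (hs x).symm), Nat.card_eq_fintype_card,
          Fintype.card_coe], hcard]
    push_cast
    rfl
  rw [hval a _ _ (fun x => by simp) hfix D.card_fix_part,
    hval a⁻¹ _ _ (fun x => by simp) (fun x hx => by rw [hflip x hx]; rfl) D.card_flip_part]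
  have hm0 : (m : ℂ) ≠ 0 := Nat.cast_ne_zero.2 D.m_pos.ne'
  field_simp

theorem phi_apply_Q (μ : D.A →* ℂˣ) {r : L} (hr : r ∈ D.Q) (hr1 : r ≠ 1) : D.phi μ r = -2 := by
  simp [phi, D.gam_apply_Q hr hr1, D.indA_eq_zero hr hr1]

theorem phi_apply_A (μ : D.A →* ℂˣ) {a : D.A} (ha : a ≠ 1) :
    D.phi μ (a : L) = -2 * (((μ a : ℂˣ) : ℂ) + ((μ a⁻¹ : ℂˣ) : ℂ)) := by
  have ha1 : (a : L) ≠ 1 := fun h => ha (Subtype.ext h)
  simp [phi, gam, D.indQ_eq_zero a.2 ha1, D.indA_apply μ ha]

theorem sum_lam_inv : ∑ r : D.Q, ((D.lam r⁻¹ : ℂˣ) : ℂ) = 0 :=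
  (Equiv.sum_comp (Equiv.inv D.Q) fun r : D.Q => ((D.lam r : ℂˣ) : ℂ)).trans D.sum_lam

theorem phi_inner_Q (μ : D.A →* ℂˣ) (f : D.Q → ℂ) (h1 : f 1 = 1) (hf : ∑ r, f r = 0) :
    classInner (fun r : D.Q => D.phi μ r) f = 2 := by
  classical
  have hc : ∑ r : D.Q, conj (f r) = 0 := by rw [← map_sum, hf, map_zero]
  simp only [classInner, D.card_Q]
  rw [← Finset.add_sum_erase Finset.univ _ (Finset.mem_univ (1 : D.Q)),
    Finset.sum_congr rfl fun r hr => (by
      rw [D.phi_apply_Q μ r.2 fun e => (Finset.mem_erase.1 hr).1 (Subtype.ext e)] :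
      _ = (-2 : ℂ) * conj (f r)),
    ← Finset.mul_sum]
  have h2 := Finset.add_sum_erase Finset.univ (fun r : D.Q => conj (f r)) (Finset.mem_univ 1)
  rw [hc, h1, map_one] at h2
  simp only [OneMemClass.coe_one, h1, map_one, D.phi_one]
  have hq0 : (q : ℂ) ≠ 0 := Nat.cast_ne_zero.2 (by have := D.hq; omega)
  field_simp
  linear_combination -h2

open Classical in
theorem phi_inner (μ ν : D.A →* ℂˣ) :
    classInner (D.phi μ) (D.phi ν) =
      2 * ((if μ = ν then 1 else 0) + (if ∀ a, μ a⁻¹ = ν a then 1 else 0)) := by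
  have hcl := Char.IsGeneralizedCharacter.isClassFunction (D.phi_gen μ)
  have hA : classInner (fun a : D.A => D.phi μ a) (fun a => ((ν a : ℂˣ) : ℂ)) =
      8 - 2 * ((if μ = ν then 1 else 0) + (if ∀ a, μ a⁻¹ = ν a then 1 else 0)) := by
    simp only [classInner, D.card_A]
    rw [← Finset.add_sum_erase Finset.univ _ (Finset.mem_univ (1 : D.A)),
      Finset.sum_congr rfl fun a ha => (by
        rw [D.phi_apply_A μ (Finset.mem_erase.1 ha).1] :
        _ = -2 * (((μ a : ℂˣ) : ℂ) + ((μ a⁻¹ : ℂˣ) : ℂ)) * conj ((ν a : ℂˣ) : ℂ))]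
    have hs := Finset.add_sum_erase Finset.univ
      (fun a : D.A => -2 * (((μ a : ℂˣ) : ℂ) + ((μ a⁻¹ : ℂˣ) : ℂ)) * conj ((ν a : ℂˣ) : ℂ)) (Finset.mem_univ 1)
    have h1 : ∀ (f : D.A →* ℂˣ), ∑ a : D.A, ((f a : ℂˣ) : ℂ) = if f = 1 then (m : ℂ) else 0 := by
      intro f
      split_ifs with h
      · subst h
        simp [← Nat.card_eq_fintype_card, D.card_A]
      · exact sum_hom_units_eq_zero ((Units.coeHom ℂ).comp f) fun e =>
          h (MonoidHom.ext fun r => Units.ext (DFunLike.congr_fun e r))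
    haveI := D.cyclicA
    letI := IsCyclic.commGroup (α := D.A)
    let μ' : D.A →* ℂˣ := μ.comp (invMonoidHom : D.A →* D.A)
    have e1 : ∑ a : D.A, ((μ a : ℂˣ) : ℂ) * conj ((ν a : ℂˣ) : ℂ) = if μ = ν then (m : ℂ) else 0 := by
      have := h1 (μ * ν⁻¹)
      rw [show (if μ * ν⁻¹ = 1 then (m : ℂ) else 0) = if μ = ν then (m : ℂ) else 0 from
        if_congr ⟨fun h => MonoidHom.ext fun a => mul_inv_eq_one.1 (by simpa using DFunLike.congr_fun h a),
          fun h => MonoidHom.ext fun a => by simp [h]⟩ rfl rfl] at this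
      rw [← this]
      exact Finset.sum_congr rfl fun a _ => by rw [D.conj_unit, map_inv]; simp
    have e2 : ∑ a : D.A, ((μ a⁻¹ : ℂˣ) : ℂ) * conj ((ν a : ℂˣ) : ℂ) =
        if ∀ a, μ a⁻¹ = ν a then (m : ℂ) else 0 := by
      have := h1 (μ' * ν⁻¹)
      rw [show (if μ' * ν⁻¹ = 1 then (m : ℂ) else 0) = if ∀ a, μ a⁻¹ = ν a then (m : ℂ) else 0 from
        if_congr ⟨fun h a => mul_inv_eq_one.1 (by simpa [μ'] using DFunLike.congr_fun h a),
          fun h => MonoidHom.ext fun a => by simp [μ', h a]⟩ rfl rfl] at this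
      rw [← this]
      exact Finset.sum_congr rfl fun a _ => by rw [D.conj_unit, map_inv]; simp [μ']
    have htot : ∑ a : D.A, -2 * (((μ a : ℂˣ) : ℂ) + ((μ a⁻¹ : ℂˣ) : ℂ)) * conj ((ν a : ℂˣ) : ℂ) =
        -2 * (m : ℂ) * ((if μ = ν then 1 else 0) + (if ∀ a, μ a⁻¹ = ν a then 1 else 0)) := by
      simp only [mul_add, add_mul, Finset.sum_add_distrib, mul_assoc, ← Finset.mul_sum, e1, e2]
      split_ifs <;> ring
    rw [htot] at hs
    simp only [map_one, inv_one, Units.val_one, mul_one] at hs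
    simp only [OneMemClass.coe_one, map_one, Units.val_one, mul_one, D.phi_one]
    have hm0 : (m : ℂ) ≠ 0 := Nat.cast_ne_zero.2 D.m_pos.ne'
    have hm := congrArg (Nat.cast (R := ℂ)) D.hm
    push_cast at hm
    field_simp
    simp only [neg_mul, Finset.sum_neg_distrib] at hs ⊢
    linear_combination hs + 2 * hm
  rw [show classInner (D.phi μ) (D.phi ν) = classInner (D.phi μ) ((2 : ℂ) • D.gam) -
      classInner (D.phi μ) (indFun D.A fun a => ((ν a : ℂˣ) : ℂ)) from Char.classInner_sub_right _ _ _,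
    Char.classInner_smul_right, gam, Char.classInner_add_right,
    Char.classInner_indFun_right _ _ hcl, Char.classInner_indFun_right _ _ hcl,
    Char.classInner_indFun_right _ _ hcl,
    D.phi_inner_Q μ _ (by simp) D.sum_lam, D.phi_inner_Q μ _ (by simp) D.sum_lam_inv, hA]
  simp only [map_ofNat]
  ring

/-- The sum over products of pairs of involutions. -/
theorem phi_pair (μ : D.A →* ℂˣ) (hμ : μ ≠ 1) :
    Exceptional.pairInv (D.phi μ) = 2 * (q : ℂ) ^ 2 * ((q : ℂ) - 1) := by
  classical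
  set I := Exceptional.invols L with hI
  set num : L → ℂ := fun g => ∑ u ∈ I, ∑ v ∈ I, if u * v = g then (1 : ℂ) else 0 with hnum
  have hnum_conj : ∀ g, conj (num g) = num g := fun g => by
    simp only [hnum, map_sum]
    exact Finset.sum_congr rfl fun u _ => Finset.sum_congr rfl fun v _ => by split_ifs <;> simp
  have hcl : IsClassFunction L num := by
    intro g h
    simp only [hnum]
    rw [← Exceptional.sum_invols_conj h fun u => ∑ v ∈ I, if u * v = h * g * h⁻¹ then (1 : ℂ) else 0]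
    refine Finset.sum_congr rfl fun u _ => ?_
    rw [← Exceptional.sum_invols_conj h fun v => if h * u * h⁻¹ * v = h * g * h⁻¹ then (1 : ℂ) else 0]
    refine Finset.sum_congr rfl fun v _ => ?_
    refine if_congr ⟨fun e => ?_, fun e => by rw [← e]; group⟩ rfl rfl
    rw [show h * u * h⁻¹ * (h * v * h⁻¹) = h * (u * v) * h⁻¹ by group] at e
    exact mul_left_cancel (mul_right_cancel e)
  have hpair : Exceptional.pairInv (D.phi μ) = (Nat.card L : ℂ) * classInner (D.phi μ) num := by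
    rw [classInner, ← mul_assoc, mul_inv_cancel₀ (Nat.cast_ne_zero.2 Nat.card_pos.ne'), one_mul]
    symm
    calc ∑ g, D.phi μ g * conj (num g)
        = ∑ g, ∑ u ∈ I, ∑ v ∈ I, (if u * v = g then D.phi μ g else 0) := by
          refine Finset.sum_congr rfl fun g _ => ?_
          rw [hnum_conj]
          simp only [hnum, Finset.mul_sum, mul_ite, mul_one, mul_zero]
      _ = ∑ u ∈ I, ∑ v ∈ I, ∑ g, (if u * v = g then D.phi μ g else 0) := by
          rw [Finset.sum_comm]
          exact Finset.sum_congr rfl fun u _ => Finset.sum_comm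
      _ = Exceptional.pairInv (D.phi μ) := by simp [Exceptional.pairInv, hI]
  have hcount : ∀ g, num g = (((I.filter fun u => ∃ v ∈ I, u * v = g).card : ℕ) : ℂ) := by
    intro g
    simp only [hnum]
    rw [Finset.card_filter, Nat.cast_sum]
    refine Finset.sum_congr rfl fun u hu => ?_
    split_ifs with h
    · obtain ⟨v, hv, rfl⟩ := h
      simp [mul_left_cancel_iff, hv]
    · rw [Finset.sum_eq_zero fun v hv => if_neg fun e => h ⟨v, hv, e⟩]
      simp
  have hone : num 1 = (I.card : ℂ) := by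
    rw [hcount, Finset.filter_true_of_mem fun u hu => ⟨u, hu, (Exceptional.mem_invols.1 hu).1⟩]
  have hQ : ∀ r ∈ D.Q, r ≠ 1 → num r = 0 := by
    intro r hr hr1
    rw [hcount, Finset.filter_false_of_mem]
    · simp
    rintro u hu ⟨v, hv, rfl⟩
    have hu2 := (Exceptional.mem_invols.1 hu).1
    have hv2 := (Exceptional.mem_invols.1 hv).1
    refine D.noreal _ (D.Q_three _ hr) hr1 u ?_
    rw [mul_inv_rev, inv_eq_of_mul_eq_one_right hu2, inv_eq_of_mul_eq_one_right hv2, ← mul_assoc,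
      hu2, one_mul]
  have hA : ∀ a : D.A, a ≠ 1 → num a = 2 * m := by
    intro a ha
    have ha1 : (a : L) ≠ 1 := fun h => ha (Subtype.ext h)
    have hodd : ∀ x : L, x * x = 1 → x ^ m = 1 → x = 1 := by
      intro x hx hxm
      obtain ⟨r, hr⟩ := D.hm_odd
      rwa [hr, pow_succ, pow_mul, pow_two, hx, one_pow, one_mul] at hxm
    have hcard : (I.filter fun u => ∃ v ∈ I, u * v = (a : L)).card = 2 * m := by
      rw [← D.card_flip_part, Nat.card_eq_fintype_card, Fintype.card_subtype]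
      refine congrArg Finset.card (Finset.ext fun u => ?_)
      simp only [Finset.mem_filter, Finset.mem_univ, true_and, hI, Exceptional.mem_invols]
      constructor
      · rintro ⟨⟨hu2, hu1⟩, v, ⟨hv2, -⟩, huv⟩
        have huinv : u⁻¹ = u := inv_eq_of_mul_eq_one_right hu2
        have hflip : u * (a : L) * u⁻¹ = (a : L)⁻¹ := by
          rw [← huv, mul_inv_rev, huinv, inv_eq_of_mul_eq_one_right hv2, ← mul_assoc, hu2, one_mul]
        have hc : Commute u D.i := D.commute_of_conj_mem a.2 ha1 (hflip ▸ inv_mem a.2)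
        refine ⟨hc, ?_⟩
        intro hU
        refine ha1 (hodd _ ?_ ((D.mem_A a).1 a.2).2)
        haveI := D.cyclicA
        letI := IsCyclic.commGroup (α := D.A)
        have hx' : Commute u (a : L) := by
          rcases hU with hx | hx
          · exact congrArg Subtype.val (mul_comm (⟨u, hx⟩ : D.A) a)
          · have h1 : Commute (D.i * u) (a : L) := congrArg Subtype.val (mul_comm (⟨_, hx⟩ : D.A) a)
            have := ((D.mem_A a).1 a.2).1.symm.inv_left.mul_left h1
            rwa [inv_mul_cancel_left] at this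
        rw [hx'.eq, mul_inv_cancel_right] at hflip
        exact eq_inv_iff_mul_eq_one.1 hflip
      · rintro ⟨hc, hU⟩
        push Not at hU
        obtain ⟨hu2, hinv⟩ := D.outside u hc hU.1 hU.2
        have hu1 : u ≠ 1 := fun e => hU.1 (e ▸ one_mem _)
        refine ⟨⟨hu2, hu1⟩, u * (a : L), ⟨?_, ?_⟩, by rw [← mul_assoc, hu2, one_mul]⟩
        · have h := hinv a a.2
          rw [inv_eq_of_mul_eq_one_right hu2] at h
          rw [← mul_assoc, h, inv_mul_cancel]
        · intro e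
          exact hU.1 ((eq_inv_of_mul_eq_one_left e) ▸ inv_mem a.2)
    rw [hcount, hcard]; push_cast; ring
  have hIcard := congrArg (Nat.cast (R := ℂ)) D.card_invols
  push_cast at hIcard
  have hL : (2 : ℂ) * (Nat.card L : ℂ) = q * ((q : ℂ) ^ 2 - 1) := by
    have := congrArg (Nat.cast (R := ℂ)) D.card_L
    push_cast [Nat.one_le_pow 2 q (by have := D.hq; omega)] at this
    exact this
  have hm := congrArg (Nat.cast (R := ℂ)) D.hm
  push_cast at hm
  have hq0 : (q : ℂ) ≠ 0 := Nat.cast_ne_zero.2 (by have := D.hq; omega)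
  have hm0 : (m : ℂ) ≠ 0 := Nat.cast_ne_zero.2 D.m_pos.ne'
  have iQ : ∀ f : D.Q → ℂ, f 1 = 1 → classInner (indFun D.Q f) num = (I.card : ℂ) / q := by
    intro f hf
    rw [Char.classInner_indFun _ _ hcl, classInner, D.card_Q,
      Finset.sum_eq_single (1 : D.Q) (fun r _ hr => by
        rw [hQ r r.2 fun e => hr (Subtype.ext e), map_zero, mul_zero]) (by simp)]
    simp only [OneMemClass.coe_one, hone, map_natCast, hf, one_mul, div_eq_inv_mul]
  have iA : classInner (indFun D.A fun a => ((μ a : ℂˣ) : ℂ)) num = ((I.card : ℂ) - 2 * m) / m := by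
    rw [Char.classInner_indFun _ _ hcl, classInner, D.card_A,
      ← Finset.add_sum_erase Finset.univ _ (Finset.mem_univ (1 : D.A)),
      Finset.sum_congr rfl fun a ha => (by
        rw [hA a (Finset.mem_erase.1 ha).1, map_mul, map_natCast, map_ofNat] : _ = ((μ a : ℂˣ) : ℂ) * (2 * m : ℂ)),
      ← Finset.sum_mul]
    have hs := Finset.add_sum_erase Finset.univ (fun a : D.A => ((μ a : ℂˣ) : ℂ)) (Finset.mem_univ 1)
    rw [show ∑ a : D.A, ((μ a : ℂˣ) : ℂ) = 0 from sum_hom_units_eq_zero ((Units.coeHom ℂ).comp μ)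
      fun e => hμ (MonoidHom.ext fun r => Units.ext (DFunLike.congr_fun e r)), map_one, Units.val_one] at hs
    simp only [OneMemClass.coe_one, hone, map_natCast, map_one, Units.val_one, one_mul]
    rw [eq_div_iff hm0]
    field_simp
    linear_combination (2 * (m : ℂ)) * hs
  rw [hpair, show classInner (D.phi μ) num = classInner ((2 : ℂ) • D.gam) num -
      classInner (indFun D.A fun a => ((μ a : ℂˣ) : ℂ)) num from Char.classInner_sub_left _ _ _,
    Char.classInner_smul_left, gam, Char.classInner_add_left, iQ _ (by simp), iQ _ (by simp), iA]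
  have hLm : (Nat.card L : ℂ) = 2 * m * q * ((q : ℂ) - 1) := by
    refine mul_left_cancel₀ (two_ne_zero : (2 : ℂ) ≠ 0) ?_
    linear_combination hL + q * ((q : ℂ) - 1) * hm
  have hIv : (I.card : ℂ) = q * ((q : ℂ) - 1) / 2 := by
    refine mul_left_cancel₀ (mul_ne_zero (two_ne_zero (α := ℂ)) hm0) ?_
    linear_combination (1 / 2 : ℂ) * hIcard + (1 / 2 : ℂ) * hLm
  rw [hLm, hIv]
  field_simp
  linear_combination (-(q : ℂ) * ((q : ℂ) - 1)) * hm

end Data

end Cfsg.Agent.ReeS3
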