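import Mathlib

/-!
# Local data of `PSL₂(3^odd)` used for groups of Ree type

`Data L q m` collects the facts about `L = PSL₂(q)`, `q = 3^(2n+1) = 4m - 1`, that the proof that
a group of Ree type involves `S₃` needs.
-/

set_option autoImplicit false

namespace Cfsg.Agent.ReeS3

open Subgroup

/-- Facts about `PSL₂(q)`, `q` an odd power of `3`, `q + 1 = 4 m`. -/
structure Data (L : Type*) [Group L] (q m : ℕ) where
  hq : 27 ≤ q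
  hm : q + 1 = 4 * m
  hm_odd : Odd m
  three_pow : ∃ k, q = 3 ^ k
  card_L : 2 * Nat.card L = q * (q ^ 2 - 1)
  Q : Subgroup L
  card_Q : Nat.card Q = q
  cent_Q : ∀ y ∈ Q, y ≠ 1 → centralizer ({y} : Set L) = Q
  Q_comm : ∀ a ∈ Q, ∀ b ∈ Q, a * b = b * a
  Q_three : ∀ y ∈ Q, y ^ 3 = 1
  card_normalizer_Q : 2 * Nat.card (normalizer (Q : Set L)) = q * (q - 1)
  exists_conj_Q : ∀ y : L, y ^ 3 = 1 → ∃ g : L, g * y * g⁻¹ ∈ Q
  noreal : ∀ y : L, y ^ 3 = 1 → y ≠ 1 → ∀ x : L, x * y * x⁻¹ ≠ y⁻¹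
  two_exp : ∀ x : L, ∀ k : ℕ, x ^ (2 ^ k) = 1 → x * x = 1
  conj_invol : ∀ x y : L, orderOf x = 2 → orderOf y = 2 → ∃ g : L, g * x * g⁻¹ = y
  i : L
  orderOf_i : orderOf i = 2
  A : Subgroup L
  cyclicA : IsCyclic A
  card_A : Nat.card A = m
  mem_A : ∀ x : L, x ∈ A ↔ Commute x i ∧ x ^ m = 1
  cent_A : ∀ a ∈ A, a ≠ 1 → ∀ x : L, Commute x a → x ∈ A ∨ i * x ∈ A
  card_cent_i : Nat.card (centralizer ({i} : Set L)) = 4 * m
  outside : ∀ x : L, Commute x i → x ∉ A → i * x ∉ A → x * x = 1 ∧ ∀ a ∈ A, x * a * x⁻¹ = a⁻¹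

end Cfsg.Agent.ReeS3
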