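import Cfsg.Agent.Lib.ReeS3.PSLThree
import Cfsg.Agent.Lib.PComplement.SFour
import Cfsg.Agent.Lib.SquareBound.S3
import Cfsg.Agent.Lib.Fusion.SectionFreeTame
import Cfsg.Agent.Lib.MinIndexU3.Stab
import Cfsg.Agent.Lib.Sz.Cells
import Cfsg.Agent.Lib.Sz.Lie
import Cfsg.Agent.Lib.Janko.J1Cent
import Cfsg.Agent.Lib.J1.Spectrum
import Cfsg.Agent.Lib.PSL2.Recognition

/-!
# Sections of degree 3 and 4 in the Goldschmidt groups
-/

set_option autoImplicit false
set_option linter.style.haveILetI false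
set_option linter.unusedSectionVars false

namespace Cfsg.Agent.ReeS3

open Cfsg.Agent.PSL2
open scoped MatrixGroups commutatorElement
open Matrix (SpecialLinearGroup)
open scoped Matrix

/-! ### General -/

theorem involves_congr {H : Type*} [Group H] {G G' : Type*} [Group G] [Group G'] (e : G ≃* G')
    (h : Cfsg.Involves H G) : Cfsg.Involves H G' := by
  obtain ⟨K, φ, hφ⟩ := PComplement.involves_iff.1 h
  exact PComplement.involves_iff.2 ⟨K.map e.toMonoidHom,
    φ.comp (K.equivMapOfInjective e.toMonoidHom e.injective).symm.toMonoidHom,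
    hφ.comp (MulEquiv.surjective _)⟩

theorem involves_congr_iff {H : Type*} [Group H] {G G' : Type*} [Group G] [Group G'] (e : G ≃* G') :
    Cfsg.Involves H G ↔ Cfsg.Involves H G' := ⟨involves_congr e, involves_congr e.symm⟩

theorem card_dvd_of_involves {H : Type*} [Group H] {G : Type*} [Group G]
    (h : Cfsg.Involves H G) : Nat.card H ∣ Nat.card G := by
  obtain ⟨K, φ, hφ⟩ := PComplement.involves_iff.1 h
  exact (Subgroup.card_dvd_of_surjective φ hφ).trans K.card_subgroup_dvd_card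

theorem not_involves_four_of_exp {G : Type*} [Group G] [Finite G]
    (hexp : ∀ x : G, ∀ k : ℕ, x ^ (2 ^ k) = 1 → x * x = 1) :
    ¬ Cfsg.Involves (Equiv.Perm (Fin 4)) G := by
  intro h
  obtain ⟨K, φ, hφ⟩ := PComplement.involves_iff.1 h
  obtain ⟨x, hx⟩ := hφ (finRotate 4)
  set N := orderOf x
  set a := N.factorization 2
  set o := N / 2 ^ a with ho
  have hodd : Odd o := by
    rw [← Nat.not_even_iff_odd, even_iff_two_dvd]
    exact Nat.not_dvd_ordCompl Nat.prime_two (orderOf_pos x).ne'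
  have hpow : (x ^ o) ^ (2 ^ a) = 1 := by
    rw [← pow_mul, mul_comm, ho, Nat.ordProj_mul_ordCompl_eq_self, pow_orderOf_eq_one]
  have h2 : x ^ o * x ^ o = 1 := Subtype.ext (hexp _ a (congrArg Subtype.val hpow))
  have h3 : finRotate 4 ^ (o * 2) = 1 := by
    rw [← hx, ← map_pow, pow_mul, pow_two, h2, map_one]
  have h4 : finRotate 4 ^ 4 = 1 := by decide
  obtain ⟨r, hr⟩ := hodd
  rw [hr, show (2 * r + 1) * 2 = 4 * r + 2 by ring, pow_add, pow_mul, h4, one_pow, one_mul] at h3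
  exact absurd h3 (by decide)

theorem not_involves_four_of_card {G : Type*} [Group G] (h8 : ¬ 8 ∣ Nat.card G) :
    ¬ Cfsg.Involves (Equiv.Perm (Fin 4)) G := fun h => h8 <| by
  refine Dvd.dvd.trans ?_ (card_dvd_of_involves h)
  rw [Nat.card_perm, Nat.card_fin]
  decide

theorem not_involves_three_of_card {G : Type*} [Group G] (h3 : ¬ 3 ∣ Nat.card G) :
    ¬ Cfsg.Involves (Equiv.Perm (Fin 3)) G := fun h => h3 <| by
  refine Dvd.dvd.trans ?_ (card_dvd_of_involves h)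
  rw [Nat.card_perm, Nat.card_fin]
  decide

theorem not_involves_four_of_card_three {G : Type*} [Group G] (h3 : ¬ 3 ∣ Nat.card G) :
    ¬ Cfsg.Involves (Equiv.Perm (Fin 4)) G := fun h => h3 <| by
  refine Dvd.dvd.trans ?_ (card_dvd_of_involves h)
  rw [Nat.card_perm, Nat.card_fin]
  decide

/-! ### Suzuki groups -/

theorem suzuki_not_three_dvd {G : Type*} [Group G] (hG : Cfsg.Lie.IsoSuzuki G) : ¬ 3 ∣ Nat.card G := by
  obtain ⟨F, _, _, m, hm, hF, ⟨e⟩⟩ := hG
  rw [Nat.card_congr e.toEquiv, ← Nat.card_congr (SZ.szEquiv hm hF).toEquiv]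
  exact SZ.not_three_dvd_card hm hF

/-! ### Two-dimensional linear groups -/

section PSL

variable {F : Type*} [Field F] [Fintype F]

theorem psl_involves_three (h : ∃ a c : F, a ^ 2 + a * c + c ^ 2 = -1) :
    Cfsg.Involves (Equiv.Perm (Fin 3)) PSL(2, F) := by
  obtain ⟨a, c, hac⟩ := h
  let y : SL(2, F) := ⟨!![0, -1; 1, -1], by simp [Matrix.det_fin_two]⟩
  let b : SL(2, F) := ⟨!![a, c; a + c, -a], by rw [Matrix.det_fin_two_of]; linear_combination -hac⟩
  have hy3 : y ^ 3 = 1 := by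
    apply Subtype.ext
    show (!![0, -1; 1, -1] : Matrix (Fin 2) (Fin 2) F) ^ 3 = 1
    simp [pow_succ, Matrix.mul_fin_two, Matrix.one_fin_two]
  have hby : b * y = y⁻¹ * b := by
    have hinv : y⁻¹ = y * y := inv_eq_of_mul_eq_one_right (by rw [← mul_assoc, ← pow_two, ← pow_succ, hy3])
    rw [hinv]
    refine ext2 ?_ ?_ ?_ ?_ <;> simp only [mul00, mul01, mul10, mul11] <;> simp [y, b] <;> ring
  refine SquareBound.involves_three_of_inverted (y := mk y) (w := mk b) ?_ ?_ ?_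
  · rw [← map_pow, hy3, map_one]
  · intro h1
    have e : ∀ g : SL(2, F), mk g = 1 → g 0 1 = 0 := by
      intro g hg
      rcases mk_eq_one.1 hg with rfl | rfl <;> simp
    have := e y h1
    simp [y] at this
  · rw [mul_inv_eq_iff_eq_mul, ← map_inv, ← map_mul, ← map_mul, hby]

theorem exists_norm_neg_one_char_two (h2 : (2 : F) = 0) : ∃ a c : F, a ^ 2 + a * c + c ^ 2 = -1 :=
  ⟨1, 0, by linear_combination h2⟩

theorem exists_norm_neg_one (h2 : (2 : F) ≠ 0) (h3 : (3 : F) ≠ 0) :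
    ∃ a c : F, a ^ 2 + a * c + c ^ 2 = -1 := by
  obtain ⟨x, y, h⟩ := FiniteField.exists_root_sum_quadratic (R := F)
    (f := Polynomial.C 1 * Polynomial.X ^ 2)
    (g := Polynomial.C 3 * Polynomial.X ^ 2 + Polynomial.C 4)
    (by rw [Polynomial.degree_C_mul (one_ne_zero : (1 : F) ≠ 0), Polynomial.degree_X_pow]; rfl)
    (by
      rw [Polynomial.degree_add_eq_left_of_degree_lt] <;>
        rw [Polynomial.degree_C_mul h3, Polynomial.degree_X_pow]
      · rfl
      · exact lt_of_le_of_lt Polynomial.degree_C_le (by decide))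
    (Nat.odd_iff.1 (PSL2.odd_card_iff.2 h2))
  simp at h
  refine ⟨(x - y) / 2, y, ?_⟩
  field_simp
  linear_combination h

theorem psl_three_not_involves {n : ℕ} (hF : Fintype.card F = 3 ^ (2 * n + 1)) :
    ¬ Cfsg.Involves (Equiv.Perm (Fin 3)) PSL(2, F) := by
  haveI : Fact (Nat.Prime 3) := ⟨Nat.prime_three⟩
  haveI : CharP F 3 := charP_of_card_eq_prime_pow hF
  intro h
  obtain ⟨y, s, hy, -, hs⟩ := Fusion.exists_inverted_of_involves h
  have hp : IsPGroup 3 (Subgroup.zpowers y) := IsPGroup.of_card (n := 1) (by rw [Nat.card_zpowers, hy, pow_one])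
  obtain ⟨P, hP⟩ := hp.exists_le_sylow
  obtain ⟨g, hg⟩ := MulAction.exists_smul_eq PSL(2, F) P (unipSylowPSL F 3)
  have h1 : g * y * g⁻¹ ∈ ((unipSylowPSL F 3 : Sylow 3 PSL(2, F)) : Subgroup PSL(2, F)) := by
    rw [← hg, Sylow.coe_subgroup_smul]
    exact ⟨y, hP (Subgroup.mem_zpowers y), rfl⟩
  rw [coe_unipSylowPSL] at h1
  obtain ⟨u, hu, hu'⟩ := h1
  obtain ⟨r, rfl⟩ := mem_unip.1 hu
  have hr : r ≠ 0 := by
    rintro rfl
    have h10 : mk (uu (0 : F)) = 1 := by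
      have e : uu (0 : F) = 1 := Subtype.ext (Matrix.one_fin_two.symm)
      rw [e, map_one]
    rw [h10] at hu'
    rw [conj_eq_one_iff.1 hu'.symm, orderOf_one] at hy
    omega
  refine noreal_unip hF hr (g * s * g⁻¹) ?_
  rw [hu', show g * s * g⁻¹ * (g * y * g⁻¹) * (g * s * g⁻¹)⁻¹ = g * (s * y * s⁻¹) * g⁻¹ by group, hs]
  group

theorem psl_exp_two (h2 : (2 : F) = 0) : ∀ x : PSL(2, F), ∀ k : ℕ, x ^ (2 ^ k) = 1 → x * x = 1 := by
  intro x k hk
  obtain ⟨g, rfl⟩ := mk_surjective x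
  have hneg : (-1 : SL(2, F)) = 1 := by
    have h1 : (-1 : F) = 1 := by linear_combination -h2
    refine ext2 ?_ ?_ ?_ ?_ <;> simp [h1]
  rw [← map_pow, mk_eq_one, hneg, or_self] at hk
  have htr : ∀ j : ℕ, tr (g ^ (2 ^ j)) = tr g ^ (2 ^ j) := by
    intro j
    induction j with
    | zero => simp
    | succ j ih =>
      rw [pow_succ, pow_mul, pow_mul, ← ih]
      set M := g ^ (2 ^ j)
      have hd := det_eq M
      simp only [tr_def, pow_two, mul00, mul11]
      linear_combination (M 0 1 * M 1 0 - M 0 0 * M 1 1) * h2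
  have h0 : tr g = 0 := by
    have h := htr k
    rw [hk] at h
    have h1 : tr (1 : SL(2, F)) = 0 := by simp [tr_def]; linear_combination h2
    rw [h1] at h
    exact (pow_eq_zero_iff (pow_ne_zero k two_ne_zero)).1 h.symm
  rw [← map_mul, sq_eq_neg_one_of_tr_eq_zero h0, mk_neg_one]

theorem psl_not_eight_dvd {q : ℕ} (hq : Fintype.card F = q) (h8 : q % 8 = 3 ∨ q % 8 = 5) :
    ¬ 8 ∣ Nat.card PSL(2, F) := by
  have h2 : (2 : F) ≠ 0 := PSL2.odd_card_iff.1 (hq ▸ Nat.odd_iff.2 (by omega))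
  have hc := PSL2.Recog.card_PSL_odd h2
  rw [hq] at hc
  intro h
  have h16 : 16 ∣ q * (q ^ 2 - 1) := hc ▸ Nat.mul_dvd_mul_left 2 h
  have hcop : Nat.Coprime 16 q := by
    rw [show (16 : ℕ) = 2 ^ 4 by norm_num]
    exact Nat.Coprime.pow_left 4 (Nat.coprime_two_left.2 (Nat.odd_iff.2 (by omega)))
  have h' := hcop.dvd_of_dvd_mul_left h16
  have hsq : q ^ 2 % 16 = 9 := by
    rw [Nat.pow_mod]
    rcases (by omega : q % 16 = 3 ∨ q % 16 = 5 ∨ q % 16 = 11 ∨ q % 16 = 13) with e | e | e | e <;> rw [e]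
  omega

end PSL

/-! ### Unitary groups -/

section U3

open Cfsg.Agent.TwoConjBound.U3 Cfsg.Agent.MinIndexU3

variable {F : Type*} [Field F] [Fintype F] {q : ℕ}

theorem commutator_two_pow (hF : Fintype.card F = q ^ 2) [CharP F 2] {P0 : Subgroup (Cfsg.SU 3 F q)}
    (hP0 : IsPGroup 2 P0) (hne : P0 ≠ ⊥) {a b : Cfsg.SU 3 F q}
    (ha : a ∈ Subgroup.normalizer (P0 : Set (Cfsg.SU 3 F q)))
    (hb : b ∈ Subgroup.normalizer (P0 : Set (Cfsg.SU 3 F q))) :
    ∃ j : ℕ, ⁅a, b⁆ ^ (2 ^ j) = 1 := by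
  haveI : Fact (Nat.Prime 2) := ⟨Nat.prime_two⟩
  obtain ⟨c, hc⟩ := Subgroup.ne_bot_iff_exists_ne_one.1 hne
  have hc1 : (c : Cfsg.SU 3 F q) ≠ 1 := fun e => hc (Subtype.ext e)
  have hcp : ∃ k, (c : Cfsg.SU 3 F q) ^ 2 ^ k = 1 := by
    obtain ⟨k, hk⟩ := hP0 c
    exact ⟨k, congrArg Subtype.val hk⟩
  -- a fixed point among the isotropic points
  obtain ⟨S, hS⟩ := hP0.exists_le_sylow
  obtain ⟨v, hv0, hvv, hvfix⟩ : ∃ v : Fin 3 → F, v ≠ 0 ∧ Cfsg.hermForm 3 F q v v = 0 ∧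
      ∀ g ∈ (S : Subgroup (Cfsg.SU 3 F q)), mat g *ᵥ v = v := by
    exact TwoConjBound.U3.exists_fixed_isotropic hF S
  obtain ⟨e, w, f, hf, hP⟩ := frame_at hF (pt v hv0 hvv)
  have hfixP : ∀ g ∈ P0, g • pt v hv0 hvv = pt v hv0 hvv := fun g hg => by
    rw [smul_pt]
    exact Subtype.ext (by simp [pt, hvfix g (hS hg)])
  have hstab : ∀ g ∈ Subgroup.normalizer (P0 : Set (Cfsg.SU 3 F q)),
      g • pt v hv0 hvv = pt v hv0 hvv := by
    intro g hg
    refine pelt_unique hF 2 hc1 hcp ?_ (hfixP c c.2)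
    have hc' : g⁻¹ * (c : Cfsg.SU 3 F q) * g ∈ P0 := by
      have := (Subgroup.mem_normalizer_iff.1 (inv_mem hg) c).1 c.2
      simpa using this
    have h := congrArg (g • ·) (hfixP _ hc')
    simp only [smul_smul] at h
    rwa [show g * (g⁻¹ * (c : Cfsg.SU 3 F q) * g) = (c : Cfsg.SU 3 F q) * g by group, mul_smul] at h
  let B := Subgroup.normalizer (P0 : Set (Cfsg.SU 3 F q))
  have hB : ∀ g ∈ B, g • pt e (e_ne hF hf) hf.ee = pt e (e_ne hF hf) hf.ee := fun g hg => by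
    rw [← hP]; exact hstab g hg
  let lam := lamHom hF hf B hB
  have hker : lam ⁅(⟨a, ha⟩ : B), ⟨b, hb⟩⁆ = 1 := by
    rw [map_commutatorElement, commutatorElement_eq_one_iff_mul_comm, mul_comm]
  have hfixe : mat ⁅a, b⁆ *ᵥ e = e := by
    have h : mat ((⁅(⟨a, ha⟩ : B), ⟨b, hb⟩⁆ : B) : Cfsg.SU 3 F q) *ᵥ e = _ := lam_spec hF hf B hB _
    rw [hker, Units.val_one, one_smul] at h
    exact h
  exact ⟨2, fix_pow hF hf 2 hfixe⟩

theorem su_not_involves_four (hF : Fintype.card F = q ^ 2) [CharP F 2] :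
    ¬ Cfsg.Involves (Equiv.Perm (Fin 4)) (Cfsg.SU 3 F q) := by
  haveI : Fact (Nat.Prime 2) := ⟨Nat.prime_two⟩
  intro h
  obtain ⟨K, φ, hφ⟩ := PComplement.involves_iff.1 h
  let V4 : Subgroup (Equiv.Perm (Fin 4)) :=
    { carrier := {1, Equiv.swap 0 1 * Equiv.swap 2 3, Equiv.swap 0 2 * Equiv.swap 1 3,
        Equiv.swap 0 3 * Equiv.swap 1 2}
      one_mem' := by simp
      mul_mem' := by
        rintro a b (rfl | rfl | rfl | rfl) (rfl | rfl | rfl | rfl) <;>
          simp only [Set.mem_insert_iff, Set.mem_singleton_iff] <;> decide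
      inv_mem' := by
        rintro a (rfl | rfl | rfl | rfl) <;>
          simp only [Set.mem_insert_iff, Set.mem_singleton_iff] <;> decide }
  have hmem : ∀ x, x ∈ V4 ↔ x = 1 ∨ x = Equiv.swap 0 1 * Equiv.swap 2 3 ∨
      x = Equiv.swap 0 2 * Equiv.swap 1 3 ∨ x = Equiv.swap 0 3 * Equiv.swap 1 2 := fun x => Iff.rfl
  haveI hV : V4.Normal := ⟨fun x hx g => by
    rw [hmem] at hx ⊢
    revert hx
    revert x g
    decide⟩
  have hVp : IsPGroup 2 V4 := fun x => ⟨1, Subtype.ext (by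
    have hx := (hmem x.1).1 x.2
    show (x : Equiv.Perm (Fin 4)) ^ 2 ^ 1 = 1
    rcases hx with e | e | e | e <;> rw [e] <;> decide)⟩
  set V := V4.comap φ with hVdef
  haveI : V.Normal := hV.comap φ
  let T : Sylow 2 V := default
  let ψ : V →* V4 := (φ.comp V.subtype).codRestrict V4 fun x => x.2
  have hψ : Function.Surjective ψ := fun y => by
    obtain ⟨x, hx⟩ := hφ y.1
    exact ⟨⟨x, show φ x ∈ V4 from hx ▸ y.2⟩, Subtype.ext hx⟩
  have hTtop : (T : Subgroup V).map ψ = ⊤ := by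
    refine Subgroup.eq_top_of_card_eq _ ?_
    obtain ⟨k, hk⟩ := IsPGroup.iff_card.1 hVp
    have := (T.mapSurjective hψ).card_eq_multiplicity
    rw [hk, Nat.Prime.factorization_pow Nat.prime_two, Finsupp.single_eq_same] at this
    rw [hk]
    exact this
  set TK := (T : Subgroup V).map V.subtype with hTK
  set P0 := TK.map K.subtype with hP0
  have hP0p : IsPGroup 2 P0 := (T.2.map _).map _
  have hP0ne : P0 ≠ ⊥ := by
    intro h0
    have hT : (T : Subgroup V) = ⊥ := by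
      rwa [hP0, hTK, Subgroup.map_eq_bot_iff_of_injective _ K.subtype_injective,
        Subgroup.map_eq_bot_iff_of_injective _ V.subtype_injective] at h0
    rw [hT, Subgroup.map_bot] at hTtop
    have h1 : (⟨Equiv.swap 0 1 * Equiv.swap 2 3, (hmem _).2 (Or.inr (Or.inl rfl))⟩ : V4) = 1 :=
      Subgroup.mem_bot.1 (hTtop ▸ Subgroup.mem_top _)
    have hne1 : (Equiv.swap 0 1 * Equiv.swap 2 3 : Equiv.Perm (Fin 4)) ≠ 1 := by decide
    exact hne1 (congrArg Subtype.val h1)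
  have hsurj : ∀ y : Equiv.Perm (Fin 4), ∃ x : K, x ∈ Subgroup.normalizer (TK : Set K) ∧ φ x = y := by
    intro y
    obtain ⟨x, rfl⟩ := hφ y
    have hx : x ∈ Subgroup.normalizer (TK : Set K) ⊔ V := by
      rw [hTK, Sylow.normalizer_sup_eq_top T]; exact Subgroup.mem_top _
    obtain ⟨a, ha, v, hv, rfl⟩ := Subgroup.mem_sup_of_normal_right.1 hx
    obtain ⟨t, ht, htv⟩ : (⟨φ v, hv⟩ : V4) ∈ (T : Subgroup V).map ψ := hTtop ▸ Subgroup.mem_top _
    have htv' : φ ((t : V) : K) = φ v := congrArg Subtype.val htv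
    refine ⟨a * t, mul_mem ha (Subgroup.le_normalizer ⟨t, ht, rfl⟩), ?_⟩
    rw [map_mul, htv', map_mul]
  have hN : ∀ x : K, x ∈ Subgroup.normalizer (TK : Set K) →
      (x : Cfsg.SU 3 F q) ∈ Subgroup.normalizer (P0 : Set (Cfsg.SU 3 F q)) := by
    intro x hx
    refine Fusion.mem_normalizer_of_conj_mem ?_
    rintro _ ⟨z, hz, rfl⟩
    exact ⟨x * z * x⁻¹, (Subgroup.mem_normalizer_iff.1 hx z).1 hz, by simp⟩
  obtain ⟨a, ha, hφa⟩ := hsurj (Equiv.swap 0 1)
  obtain ⟨b, hb, hφb⟩ := hsurj (Equiv.swap 1 2)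
  obtain ⟨j, hj⟩ := commutator_two_pow hF hP0p hP0ne (hN a ha) (hN b hb)
  have hK : ⁅a, b⁆ ^ (2 ^ j) = 1 := Subtype.ext hj
  have h1 := congrArg φ hK
  rw [map_pow, map_commutatorElement, hφa, hφb, map_one] at h1
  have h3 : ⁅(Equiv.swap 0 1 : Equiv.Perm (Fin 4)), (Equiv.swap 1 2 : Equiv.Perm (Fin 4))⁆ ^ 3 = 1 := by
    rw [commutatorElement_def]; decide
  have h' : ⁅(Equiv.swap 0 1 : Equiv.Perm (Fin 4)), (Equiv.swap 1 2 : Equiv.Perm (Fin 4))⁆ = 1 :=
    orderOf_eq_one_iff.1 (Nat.eq_one_of_dvd_coprimes (Nat.Coprime.pow_left j (by norm_num : Nat.Coprime 2 3))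
      (orderOf_dvd_of_pow_eq_one h1) (orderOf_dvd_of_pow_eq_one h3))
  rw [commutatorElement_def] at h'
  exact absurd h' (by decide)

/-- A permutation matrix in `SU₃` in characteristic two. -/
def permSU [CharP F 2] (e : Equiv.Perm (Fin 3)) : Cfsg.SU 3 F q :=
  ⟨⟨e.permMatrix F, by
      rw [Matrix.det_permutation]
      rcases Int.units_eq_one_or (Equiv.Perm.sign e) with h | h <;>
        simp [h, CharTwo.neg_eq]⟩, fun u v => by
    have h1 : ∀ u : Fin 3 → F, e.permMatrix F *ᵥ u = u ∘ e := fun u => Matrix.permMatrix_mulVec e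
    show Cfsg.hermForm 3 F q (e.permMatrix F *ᵥ u) (e.permMatrix F *ᵥ v) = Cfsg.hermForm 3 F q u v
    rw [h1, h1]
    exact Equiv.sum_comp e fun i => u i * v i ^ q⟩

theorem psu_involves_three (hF : Fintype.card F = q ^ 2) [CharP F 2] :
    Cfsg.Involves (Equiv.Perm (Fin 3)) (Cfsg.PSU 3 F q) := by
  classical
  have hmul : ∀ e e' : Equiv.Perm (Fin 3), (permSU (q := q) (e * e') : Cfsg.SU 3 F q) = permSU e' * permSU e :=
    fun e e' => Subtype.ext (Subtype.ext (Matrix.permMatrix_mul e e'))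
  have hone : (permSU (q := q) 1 : Cfsg.SU 3 F q) = 1 := Subtype.ext (Subtype.ext Matrix.permMatrix_one)
  have hinj : Function.Injective (permSU (F := F) (q := q)) := by
    intro e e' h
    have h' : e.permMatrix F = e'.permMatrix F := congrArg (fun g : Cfsg.SU 3 F q => (g.1.1 : Matrix _ _ F)) h
    refine Equiv.ext fun i => ?_
    have := congrFun (congrArg (fun M : Matrix (Fin 3) (Fin 3) F => M i) h') (e i)
    simp only [Equiv.Perm.permMatrix, Equiv.toPEquiv, PEquiv.toMatrix_apply] at this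
    by_contra hne
    simp [Ne.symm hne] at this
  set c := finRotate 3
  set s := Equiv.swap (0 : Fin 3) 1
  have hcs : s * c * s = c⁻¹ ∧ c * c * c = 1 ∧ s * s = 1 ∧ c * c ≠ c := by decide
  set y : Cfsg.SU 3 F q := permSU c
  set b : Cfsg.SU 3 F q := permSU s
  have hy3 : y ^ 3 = 1 := by
    rw [pow_succ, pow_two, ← hmul, ← hmul, ← hone, ← mul_assoc, hcs.2.1]
  have hbb : b * b = 1 := by rw [← hmul, hcs.2.2.1, hone]
  have hinv : b * y * b⁻¹ = y⁻¹ := by
    have hcinv : c⁻¹ = c * c := inv_eq_of_mul_eq_one_right (by rw [← mul_assoc]; exact hcs.2.1)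
    rw [inv_eq_of_mul_eq_one_right hbb, ← hmul, ← hmul, ← mul_assoc, hcs.1, hcinv, hmul]
    exact (inv_eq_of_mul_eq_one_right (by rw [← mul_assoc, ← pow_two, ← pow_succ, hy3])).symm
  refine SquareBound.involves_three_of_inverted
    (y := QuotientGroup.mk' (Subgroup.center (Cfsg.SU 3 F q)) y)
    (w := QuotientGroup.mk' (Subgroup.center (Cfsg.SU 3 F q)) b) ?_ ?_ ?_
  · rw [← map_pow, hy3, map_one]
  · intro h
    have hc := (QuotientGroup.eq_one_iff y).1 h
    have h' := Subgroup.mem_center_iff.1 hc b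
    rw [h', mul_inv_cancel_right] at hinv
    have h2 : y * y = 1 := by nth_rewrite 2 [hinv]; exact mul_inv_cancel y
    rw [← hmul, ← hone] at h2
    exact hcs.2.2.2 (by
      have h3 := hinj h2
      have := hcs.2.1
      rw [h3, one_mul] at this
      rw [h3, this])
  · rw [← map_inv, ← map_mul, ← map_mul, hinv, map_inv]

end U3

/-! ### The smallest Janko group -/

theorem j1_exp : ∀ x : Cfsg.Spor.J1, ∀ k : ℕ, x ^ (2 ^ k) = 1 → x * x = 1 := by
  intro x k hk
  obtain ⟨m, hm, h⟩ := J1.exists_pow_eq_one x.2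
  have h1 : orderOf x ∣ m := orderOf_dvd_of_pow_eq_one (Subtype.ext (by simpa using h))
  have h2 := orderOf_dvd_of_pow_eq_one hk
  obtain ⟨j, -, hj⟩ := (Nat.dvd_prime_pow Nat.prime_two).1 h2
  rw [← pow_two]
  refine orderOf_dvd_iff_pow_eq_one.1 ?_
  rw [hj] at h1 ⊢
  rcases Nat.lt_or_ge j 2 with h3 | h3
  · exact Nat.pow_dvd_pow 2 (by omega : j ≤ 1)
  · have h4 : 4 ∣ m := (Nat.pow_dvd_pow 2 h3).trans h1
    simp only [List.mem_cons, List.not_mem_nil, or_false] at hm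
    omega

theorem j1_involves_three : Cfsg.Involves (Equiv.Perm (Fin 3)) Cfsg.Spor.J1 := by
  obtain ⟨e⟩ := Janko.J1.nonempty_graphA_iso
  let f := Janko.J1.toJ.comp e.toMonoidHom
  have hf : Function.Injective f := Janko.J1.toJ_injective.comp e.injective
  let y0 : alternatingGroup (Fin 5) :=
    ⟨Equiv.swap 0 1 * Equiv.swap 1 2, Equiv.Perm.mem_alternatingGroup.2 (by decide)⟩
  let w0 : alternatingGroup (Fin 5) :=
    ⟨Equiv.swap 1 2 * Equiv.swap 3 4, Equiv.Perm.mem_alternatingGroup.2 (by decide)⟩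
  have h1 : y0 ^ 3 = 1 ∧ y0 ≠ 1 ∧ w0 * y0 * w0⁻¹ = y0⁻¹ := by decide
  refine SquareBound.involves_three_of_inverted (y := f y0) (w := f w0) ?_ ?_ ?_
  · rw [← map_pow, h1.1, map_one]
  · exact fun h => h1.2.1 (hf (h.trans (map_one f).symm))
  · rw [← map_inv, ← map_mul, ← map_mul, h1.2.2, map_inv]

end Cfsg.Agent.ReeS3
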