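import Cfsg.Agent.Lib.Involution.Dihedral
import Cfsg.Agent.Lib.SquareBound.S3

/-!
# An involution with centraliser `⟨t⟩ × Q`, `Q` of odd order

If the group is `S₃`-free, its 3-subgroups are no larger than `Q`, and for a 3-group `Q` the odd
part is `M Q` with `M` abelian and inverted by `t`.
-/

set_option autoImplicit false
set_option linter.style.haveILetI false

namespace Cfsg.Agent.ReeS3

open Subgroup

universe u

/-- An involution centraliser `⟨t⟩ × Qc` with `Qc` abelian of odd order. -/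
structure SmallCent (K : Type u) [Group K] where
  t : K
  ht : orderOf t = 2
  Qc : Subgroup K
  Qcomm : ∀ a ∈ Qc, ∀ b ∈ Qc, a * b = b * a
  comm_t : ∀ r ∈ Qc, Commute r t
  decomp : ∀ x, Commute x t → x ∈ Qc ∨ t * x ∈ Qc
  qodd : Odd (Nat.card Qc)

namespace SmallCent

variable {K : Type u} [Group K] (S : SmallCent K)

theorem tt : S.t * S.t = 1 := by rw [← pow_two, ← S.ht, pow_orderOf_eq_one]

theorem t_ne_one : S.t ≠ 1 := fun h => by
  have := S.ht
  rw [h, orderOf_one] at this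
  omega

theorem eq_one_of_pow {r : K} (hr : r ∈ S.Qc) {k : ℕ} (h : r ^ (2 ^ k) = 1) : r = 1 := by
  have hc : Nat.Coprime (2 ^ k) (Nat.card S.Qc) := Nat.Coprime.pow_left k (Nat.coprime_two_left.2 S.qodd)
  have h1 : orderOf r ∣ Nat.card S.Qc := by
    simpa using orderOf_dvd_natCard (⟨r, hr⟩ : S.Qc)
  exact orderOf_eq_one_iff.1 (Nat.eq_one_of_dvd_coprimes hc (orderOf_dvd_of_pow_eq_one h) h1)

theorem two_elt {x : K} (hx : Commute x S.t) {k : ℕ} (h : x ^ (2 ^ k) = 1) : x = 1 ∨ x = S.t := by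
  rcases S.decomp x hx with hm | hm
  · exact Or.inl (S.eq_one_of_pow hm h)
  · refine Or.inr ?_
    have e : (S.t * x) ^ (2 ^ (k + 1)) = 1 := by
      rw [hx.symm.mul_pow, pow_succ', pow_mul, pow_two, S.tt, one_pow, one_mul, mul_comm, pow_mul, h,
        one_pow]
    have := S.eq_one_of_pow hm e
    rw [mul_eq_one_iff_eq_inv] at this
    rw [← inv_inj, ← this, inv_eq_of_mul_eq_one_right S.tt]

variable [Finite K]

theorem exists_conj {u : K} (hu : orderOf u = 2) : ∃ g : K, g * S.t * g⁻¹ = u := by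
  have huu : u * u = 1 := by rw [← pow_two, ← hu, pow_orderOf_eq_one]
  have hu1 : u ≠ 1 := fun h => by rw [h, orderOf_one] at hu; omega
  rcases Nat.even_or_odd (orderOf (S.t * u)) with he | ho
  · obtain ⟨hw, hwt, hwu⟩ := Involution.half_power_facts S.tt huu he
    set w := (S.t * u) ^ (orderOf (S.t * u) / 2)
    have hw1 : w ^ (2 ^ 1) = 1 := by rw [pow_one, ← hw, pow_orderOf_eq_one]
    rcases S.two_elt hwt hw1 with e | e
    · rw [e, orderOf_one] at hw; omega
    · rw [e] at hwu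
      rcases S.two_elt hwu.symm (k := 1) (by rw [pow_one, pow_two, huu]) with e' | e'
      · exact absurd e' hu1
      · exact ⟨1, by simp [e']⟩
  · obtain ⟨d, -, hd⟩ := Involution.exists_conj_pair_of_odd S.tt huu ho
    exact ⟨d, hd⟩

include S in
theorem exists_kernel :
    ∃ O : Subgroup K, O.Normal ∧ O.index = 2 ∧ Odd (Nat.card O) := by
  haveI : Fact (Nat.Prime 2) := ⟨Nat.prime_two⟩
  obtain ⟨P, hP⟩ := (IsPGroup.of_card (p := 2) (n := 1) (G := zpowers S.t)
    (by rw [Nat.card_zpowers, S.ht, pow_one])).exists_le_sylow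
  have hz : ∀ x ∈ zpowers S.t, x = 1 ∨ x = S.t := by
    intro x hx
    obtain ⟨k, hk⟩ := mem_zpowers_iff.1 hx
    have htt : S.t ^ (2 : ℤ) = 1 := by rw [zpow_two, S.tt]
    rcases Int.even_or_odd' k with ⟨j, rfl | rfl⟩
    · left; rw [← hk, zpow_mul, htt, one_zpow]
    · right; rw [← hk, zpow_add_one, zpow_mul, htt, one_zpow, one_mul]
  have hPeq : (P : Subgroup K) = zpowers S.t := by
    refine le_antisymm ?_ hP
    by_contra hle
    haveI : Group.IsNilpotent (P : Subgroup K) := P.2.isNilpotent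
    have hlt : (zpowers S.t).subgroupOf (P : Subgroup K) < ⊤ :=
      lt_top_iff_ne_top.2 fun h => hle (subgroupOf_eq_top.1 h)
    obtain ⟨n, hn, hn'⟩ := SetLike.exists_of_lt (Group.normalizerCondition_of_isNilpotent _ hlt)
    have h1 : (n : K) * S.t * (n : K)⁻¹ ∈ zpowers S.t :=
      ((mem_normalizer_iff.1 hn ⟨S.t, hP (mem_zpowers _)⟩).1
        (show (S.t : K) ∈ zpowers S.t from mem_zpowers _))
    rcases hz _ h1 with e | e
    · exact S.t_ne_one (conj_eq_one_iff.1 e)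
    · obtain ⟨k, hk⟩ := P.2 n
      rcases S.two_elt (show Commute (n : K) S.t from mul_inv_eq_iff_eq_mul.1 e)
        (k := k) (by simpa using congrArg Subtype.val hk) with e' | e'
      · exact hn' (show (n : K) ∈ zpowers S.t from e' ▸ one_mem _)
      · exact hn' (show (n : K) ∈ zpowers S.t from e' ▸ mem_zpowers _)
  have hNC : normalizer ((P : Subgroup K) : Set K) ≤ centralizer ((P : Subgroup K) : Set K) := by
    intro n hn
    rw [hPeq] at hn ⊢
    have h1 := (mem_normalizer_iff.1 hn S.t).1 (mem_zpowers _)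
    have hnt : Commute n S.t := by
      rcases hz _ h1 with e | e
      · exact absurd (conj_eq_one_iff.1 e) S.t_ne_one
      · exact mul_inv_eq_iff_eq_mul.1 e
    refine mem_centralizer_iff.2 fun y hy => ?_
    rcases hz y hy with rfl | rfl
    · simp
    · exact hnt.eq.symm
  have hc := MonoidHom.ker_transferSylow_isComplement' P hNC
  refine ⟨_, MonoidHom.normal_ker (MonoidHom.transferSylow P hNC), ?_, ?_⟩
  · rw [hc.symm.index_eq_card, hPeq, Nat.card_zpowers, S.ht]
  · rw [← hc.index_eq_card, ← Nat.not_even_iff_odd, even_iff_two_dvd]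
    exact P.not_dvd_index

section Kernel

variable (O : Subgroup K) (hO : O.index = 2) (hodd : Odd (Nat.card O))
include hO hodd

omit [Finite K] hO in
theorem t_notMem : S.t ∉ O := fun h => by
  have h1 : 2 ∣ Nat.card O := S.ht ▸ by simpa using orderOf_dvd_natCard (⟨S.t, h⟩ : O)
  exact (Nat.not_even_iff_odd.2 hodd) (even_iff_two_dvd.2 h1)

omit hodd in
theorem mem_of_pow {x : K} {N : ℕ} (hN : Odd N) (h : x ^ N = 1) : x ∈ O := by
  obtain ⟨k, rfl⟩ := hN
  have h2 : x * x ∈ O := mul_self_mem_of_index_two hO x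
  have : x = ((x * x) ^ (k + 1)) := by
    rw [← pow_two, ← pow_mul, show 2 * (k + 1) = (2 * k + 1) + 1 by ring, pow_succ, h, one_mul]
  rw [this]
  exact pow_mem h2 _

omit hodd in
theorem Qc_le : S.Qc ≤ O := fun r hr =>
  mem_of_pow O hO S.qodd (congrArg Subtype.val (pow_card_eq_one' (x := (⟨r, hr⟩ : S.Qc))))

theorem mem_Qc {x : K} (hx : Commute x S.t) (hxO : x ∈ O) : x ∈ S.Qc :=
  (S.decomp x hx).resolve_right fun h => S.t_notMem O hodd
    ((Subgroup.mul_mem_cancel_right O hxO).1 (S.Qc_le O hO h))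

end Kernel

/-- In an `S₃`-free group the 3-subgroups are no larger than `Qc`. -/
theorem card_le (hfree : ¬ Cfsg.Involves (Equiv.Perm (Fin 3)) K) {P0 : Subgroup K}
    (hP0 : IsPGroup 3 P0) : Nat.card P0 ≤ Nat.card S.Qc := by
  haveI : Fact (Nat.Prime 3) := ⟨Nat.prime_three⟩
  obtain ⟨O, hOn, hO, hodd⟩ := S.exists_kernel
  haveI := hOn
  obtain ⟨P, hP⟩ := hP0.exists_le_sylow
  refine (Subgroup.card_le_of_le hP).trans ?_
  have hPO : (P : Subgroup K) ≤ O := by
    intro x hx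
    obtain ⟨k, hk⟩ := P.2 ⟨x, hx⟩
    exact mem_of_pow O hO (Odd.pow (n := k) (show Odd 3 by decide)) (by simpa using congrArg Subtype.val hk)
  obtain ⟨x, hxN, hxO⟩ : ∃ x ∈ normalizer ((P : Subgroup K) : Set K), x ∉ O := by
    by_contra h
    push Not at h
    have := Sylow.normalizer_sup_eq_top' P hPO
    rw [sup_eq_right.2 h] at this
    exact S.t_notMem O hodd (this ▸ mem_top _)
  have heven : Even (orderOf x) :=
    Nat.not_odd_iff_even.1 fun h => hxO (mem_of_pow O hO h (pow_orderOf_eq_one x))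
  obtain ⟨k, hk⟩ := heven
  have hpos := orderOf_pos x
  have hu : orderOf (x ^ k) = 2 := by
    rw [orderOf_pow_of_dvd (by omega) ⟨2, by omega⟩, hk]
    exact Nat.div_eq_of_eq_mul_left (by omega) (by omega)
  have huN : x ^ k ∈ normalizer ((P : Subgroup K) : Set K) := pow_mem hxN k
  have huC : x ^ k ∈ centralizer ((P : Subgroup K) : Set K) := by
    by_contra h
    exact hfree (SquareBound.involves_three_of_normalizer ⟨1, by rw [hu, pow_one]⟩ P.2 huN h)
  obtain ⟨g, hg⟩ := S.exists_conj hu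
  have hmem : ∀ p : (P : Subgroup K), g⁻¹ * (p : K) * g ∈ S.Qc := by
    intro p
    refine S.mem_Qc O hO hodd ?_ ?_
    · have h1 : Commute (p : K) (g * S.t * g⁻¹) := by rw [hg]; exact mem_centralizer_iff.1 huC _ p.2
      have h2 := (Commute.conj_iff g⁻¹).2 h1
      simpa [mul_assoc] using h2
    · have := hOn.conj_mem _ (hPO p.2) g⁻¹
      simpa [mul_assoc] using this
  refine Nat.card_le_card_of_injective (fun p => (⟨_, hmem p⟩ : S.Qc)) fun a b h => ?_
  exact Subtype.ext (mul_left_cancel (mul_right_cancel (congrArg Subtype.val h)))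

/-- The 3-complement of the odd part is abelian and inverted by `t`. -/
theorem exists_complement (hfree : ¬ Cfsg.Involves (Equiv.Perm (Fin 3)) K)
    (hQ3 : IsPGroup 3 S.Qc) :
    ∃ (M : Subgroup K) (N : ℕ), ¬ 3 ∣ N ∧ (∀ z ∈ M, z ^ N = 1) ∧
      (∀ a ∈ M, ∀ b ∈ M, a * b = b * a) ∧ (∀ z ∈ M, S.t * z * S.t⁻¹ = z⁻¹) ∧
      (∀ r ∈ S.Qc, ∀ z ∈ M, r * z * r⁻¹ ∈ M) ∧
      (∀ (z : K) (j : ℕ), Odd j → ¬ 3 ∣ j → z ^ j = 1 → z ∈ M) := by
  haveI : Fact (Nat.Prime 3) := ⟨Nat.prime_three⟩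
  obtain ⟨O, hOn, hO, hodd⟩ := S.exists_kernel
  haveI := hOn
  have hQO := S.Qc_le O hO
  have hQp : IsPGroup 3 (S.Qc.subgroupOf O) := hQ3.of_equiv (subgroupOfEquivOfLe hQO).symm
  obtain ⟨P, hP⟩ := hQp.exists_le_sylow
  have hPeq : (P : Subgroup O) = S.Qc.subgroupOf O := by
    refine (Subgroup.eq_of_le_of_card_ge hP ?_).symm
    rw [Nat.card_congr (subgroupOfEquivOfLe hQO).toEquiv,
      Nat.card_congr (equivMapOfInjective (P : Subgroup O) O.subtype Subtype.coe_injective).toEquiv]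
    exact S.card_le hfree (P.2.map _)
  have hNC : normalizer ((P : Subgroup O) : Set O) ≤ centralizer ((P : Subgroup O) : Set O) := by
    intro n hn
    rw [hPeq] at hn ⊢
    refine mem_centralizer_iff.2 fun r hr => Subtype.ext ?_
    have hrQ : (r : K) ∈ S.Qc := hr
    have hconj : ∀ y : O, (y : K) ∈ S.Qc → (n : K) * y * (n : K)⁻¹ ∈ S.Qc := fun y hy =>
      (mem_normalizer_iff.1 hn y).1 hy
    set c : K := (n : K)⁻¹ * (S.t * n * S.t⁻¹) with hc
    have hcO : c ∈ O := mul_mem (inv_mem n.2) (hOn.conj_mem _ n.2 _)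
    have hcy : ∀ y : O, (y : K) ∈ S.Qc → Commute c y := by
      intro y hy
      have e1 : S.t * y * S.t⁻¹ = y := by rw [← (S.comm_t _ hy).eq, mul_inv_cancel_right]
      have e2 : S.t * ((n : K) * y * (n : K)⁻¹) * S.t⁻¹ = (n : K) * y * (n : K)⁻¹ := by
        rw [← (S.comm_t _ (hconj y hy)).eq, mul_inv_cancel_right]
      refine mul_inv_eq_iff_eq_mul.1 ?_
      calc c * y * c⁻¹ = (n : K)⁻¹ * (S.t * n * (S.t⁻¹ * y * S.t) * (n : K)⁻¹ * S.t⁻¹) * n := by
            rw [hc]; group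
        _ = (n : K)⁻¹ * (S.t * n * y * (n : K)⁻¹ * S.t⁻¹) * n := by
            rw [show S.t⁻¹ * y * S.t = y by nth_rewrite 1 [← e1]; group]
        _ = (n : K)⁻¹ * (S.t * ((n : K) * y * (n : K)⁻¹) * S.t⁻¹) * n := by group
        _ = y := by rw [e2]; group
    have htinv : S.t⁻¹ = S.t := inv_eq_of_mul_eq_one_right S.tt
    have hct : S.t * c * S.t⁻¹ = c⁻¹ := by
      rw [hc]
      simp only [mul_inv_rev, inv_inv, htinv, mul_assoc]
      rw [S.tt, mul_one]
    obtain ⟨k, hk⟩ := hodd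
    set d := c ^ (k + 1) with hd
    have hdd : d * d = c := by
      rw [hd, ← pow_add, show k + 1 + (k + 1) = Nat.card O + 1 by omega, pow_succ,
        show c ^ Nat.card O = 1 from
          congrArg Subtype.val (pow_card_eq_one' (x := (⟨c, hcO⟩ : O))), one_mul]
    have htd : S.t * d * S.t⁻¹ = d⁻¹ := by rw [hd, ← conj_pow, hct, inv_pow]
    have hnd : Commute ((n : K) * d) S.t := by
      refine Commute.symm (mul_inv_eq_iff_eq_mul.1 ?_)
      rw [show S.t * ((n : K) * d) * S.t⁻¹ = (n : K) * ((n : K)⁻¹ * (S.t * n * S.t⁻¹)) * (S.t * d * S.t⁻¹) by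
        group, ← hc, htd, ← hdd, mul_assoc, mul_inv_cancel_right]
    have hndQ : (n : K) * d ∈ S.Qc :=
      S.mem_Qc O hO ⟨k, hk⟩ hnd (mul_mem n.2 (pow_mem hcO _))
    have h1 : Commute ((n : K) * d) r := S.Qcomm _ hndQ _ hrQ
    have h2 : Commute d r := (hcy r hrQ).pow_left _
    have h3 : Commute (n : K) r := by simpa using h1.mul_left h2.inv_left
    exact h3.eq.symm
  set φ := MonoidHom.transferSylow P hNC with hφ
  have hc := MonoidHom.ker_transferSylow_isComplement' P hNC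
  set N := Nat.card φ.ker with hNdef
  have hN3 : ¬ 3 ∣ N := by
    rw [hNdef, ← hc.index_eq_card]
    exact P.not_dvd_index
  have hmem : ∀ (z : K) (j : ℕ), Odd j → ¬ 3 ∣ j → z ^ j = 1 → z ∈ φ.ker.map O.subtype := by
    intro z j hj hj3 hz
    refine ⟨⟨z, mem_of_pow O hO hj hz⟩, ?_, rfl⟩
    rw [SetLike.mem_coe, MonoidHom.mem_ker]
    obtain ⟨a, ha⟩ := P.2 (φ ⟨z, mem_of_pow O hO hj hz⟩)
    have h1 : φ ⟨z, mem_of_pow O hO hj hz⟩ ^ j = 1 := by
      rw [← map_pow, show (⟨z, mem_of_pow O hO hj hz⟩ : O) ^ j = 1 from Subtype.ext hz, map_one]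
    exact orderOf_eq_one_iff.1 (Nat.eq_one_of_dvd_coprimes
      (Nat.Coprime.pow_left a ((Nat.prime_three.coprime_iff_not_dvd).2 hj3))
      (orderOf_dvd_of_pow_eq_one ha) (orderOf_dvd_of_pow_eq_one h1))
  set M := φ.ker.map O.subtype with hM
  have hMN : ∀ z ∈ M, z ^ N = 1 := by
    rintro _ ⟨w, hw, rfl⟩
    exact congrArg (fun x : φ.ker => ((x : O) : K)) (pow_card_eq_one' (x := (⟨w, hw⟩ : φ.ker)))
  have hNodd : Odd N := hodd.of_dvd_nat (Subgroup.card_subgroup_dvd_card φ.ker)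
  have hMO : M ≤ O := map_subtype_le _
  have hMinv : ∀ z ∈ M, S.t * z * S.t⁻¹ ∈ M := fun z hz =>
    hmem _ N hNodd hN3 (by rw [conj_pow, hMN z hz, mul_one, mul_inv_cancel])
  let ψ : M →* M :=
    MonoidHom.mk' (fun z => ⟨_, hMinv z z.2⟩) fun a b => Subtype.ext (by simp [mul_assoc])
  have hψ : MonoidHom.FixedPointFree ψ := by
    intro z hz
    have hz' : S.t * (z : K) * S.t⁻¹ = z := congrArg Subtype.val hz
    have hQ : (z : K) ∈ S.Qc :=
      S.mem_Qc O hO hodd (Commute.symm (mul_inv_eq_iff_eq_mul.1 hz')) (hMO z.2)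
    obtain ⟨a, ha⟩ := hQ3 ⟨z, hQ⟩
    have ha' : (z : K) ^ (3 ^ a) = 1 := by simpa using congrArg Subtype.val ha
    exact Subtype.ext (orderOf_eq_one_iff.1 (Nat.eq_one_of_dvd_coprimes
      (Nat.Coprime.pow_left a ((Nat.prime_three.coprime_iff_not_dvd).2 hN3))
      (orderOf_dvd_of_pow_eq_one ha') (orderOf_dvd_of_pow_eq_one (hMN z z.2))))
  have h2 : Function.Involutive ψ := by
    intro z
    refine Subtype.ext ?_
    show S.t * (S.t * (z : K) * S.t⁻¹) * S.t⁻¹ = z
    rw [show S.t * (S.t * (z : K) * S.t⁻¹) * S.t⁻¹ = (S.t * S.t) * z * (S.t * S.t)⁻¹ by group, S.tt]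
    simp
  refine ⟨M, N, hN3, hMN, fun a ha b hb => congrArg Subtype.val
    (hψ.commute_all_of_involutive h2 ⟨a, ha⟩ ⟨b, hb⟩).eq, fun z hz => congrArg Subtype.val
    (congrFun (hψ.coe_eq_inv_of_involutive h2) ⟨z, hz⟩), ?_, hmem⟩
  intro r hr z hz
  exact hmem _ N hNodd hN3 (by rw [conj_pow, hMN z hz, mul_one, mul_inv_cancel])

end SmallCent

end Cfsg.Agent.ReeS3
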