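import Cfsg.Agent.Lib.ReeS3.CharG
import Cfsg.Agent.Lib.ReeS3.SmallCent
import Cfsg.Agent.Lib.PComplement.SFour

/-!
# Local structure for an involution centraliser `⟨t⟩ × L`

The index of `C(t)` is prime to 3 in the `S₃`-free case, and an element permuting a four-group
`{1, t, i, ti}` cyclically exists.
-/

set_option autoImplicit false
set_option linter.style.haveILetI false

namespace Cfsg.Agent.ReeS3

open Subgroup

universe u v

namespace Setup

variable {G : Type u} [Group G] {L : Type v} [Group L] (S : Setup G L)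

theorem t_inv : S.t⁻¹ = S.t := inv_eq_of_mul_eq_one_right S.t_mul_self

theorem t_pow_odd {N : ℕ} (hN : Odd N) : S.t ^ N = S.t := by
  obtain ⟨r, rfl⟩ := hN
  rw [pow_succ, pow_mul, pow_two, S.t_mul_self, one_pow, one_mul]

theorem mul_ne_one (l : L) : S.t * S.ι l ≠ 1 := fun h =>
  S.ι_ne l⁻¹ (by rw [map_inv, ← eq_inv_of_mul_eq_one_left h])

/-- An element commuting with `t` of odd period lies in the image of `ι`. -/
theorem exists_lift_odd {x : G} (hx : Commute x S.t) {N : ℕ} (hN : Odd N) (h : x ^ N = 1) :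
    ∃ l : L, x = S.ι l ∧ l ^ N = 1 := by
  obtain ⟨l, rfl | rfl⟩ := S.decomp x hx
  · exact ⟨l, rfl, S.ι_injective (by rw [map_pow, h, map_one])⟩
  · rw [(S.commute_ι l).symm.mul_pow, S.t_pow_odd hN, ← map_pow] at h
    exact absurd h (S.mul_ne_one _)

theorem comm_iff {l a : L} : Commute (S.ι l) (S.ι a) ↔ Commute l a :=
  ⟨fun h => S.ι_injective (by rw [map_mul, map_mul]; exact h.eq), fun h => h.map S.ι⟩

theorem comm_of_t_mul {l a : L} (h : Commute (S.t * S.ι l) (S.ι a)) : Commute l a := by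
  refine S.comm_iff.1 ?_
  have h2 := (((S.commute_ι a).inv_right).symm).mul_left h
  simpa [mul_assoc, inv_mul_cancel_left] using h2

/-- The elements commuting with `t` and `ι a` come from the centraliser of `a`. -/
theorem exists_lift_comm {x : G} (hx : Commute x S.t) {a : L} (ha : Commute x (S.ι a)) :
    ∃ l : L, Commute l a ∧ (x = S.ι l ∨ x = S.t * S.ι l) := by
  obtain ⟨l, rfl | rfl⟩ := S.decomp x hx
  · exact ⟨l, S.comm_iff.1 ha, Or.inl rfl⟩
  · exact ⟨l, S.comm_of_t_mul ha, Or.inr rfl⟩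

variable {q m : ℕ} (D : Data L q m)

theorem exists_r0 [Finite L] : ∃ r : L, r ∈ D.Q ∧ r ≠ 1 := by
  have h : D.Q ≠ ⊥ := fun h => by
    have h1 := D.card_Q
    rw [h, Subgroup.card_bot] at h1
    have := D.hq
    omega
  exact (Subgroup.ne_bot_iff_exists_ne_one.1 h).elim fun r hr =>
    ⟨r, r.2, fun e => hr (Subtype.ext e)⟩

include D in
theorem three_dvd_q : 3 ∣ q := by
  obtain ⟨k, hk⟩ := D.three_pow
  have : k ≠ 0 := by rintro rfl; have := D.hq; simp at hk; omega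
  rw [hk]; exact dvd_pow_self 3 this

include D in
theorem not_three_dvd_m : ¬ 3 ∣ m := by
  have := D.hm
  have h := three_dvd_q D
  omega

variable [Finite G]

/-- The shape of the centraliser of a group containing `ι Q`, centralising one of its elements. -/
noncomputable def smallCent (K : Subgroup G) (htK : S.t ∈ K) (hQK : D.Q.map S.ι ≤ K) {r0 : L}
    (hr0 : r0 ∈ D.Q) (hr1 : r0 ≠ 1) (hK : ∀ x ∈ K, Commute x (S.ι r0)) : SmallCent K where
  t := ⟨S.t, htK⟩
  ht := by rw [Subgroup.orderOf_mk, S.orderOf_t]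
  Qc := (D.Q.map S.ι).subgroupOf K
  Qcomm := by
    rintro a ⟨a', ha', ea⟩ b ⟨b', hb', eb⟩
    refine Subtype.ext ?_
    show (a : G) * (b : G) = (b : G) * (a : G)
    have ea' : (a : G) = S.ι a' := ea.symm
    have eb' : (b : G) = S.ι b' := eb.symm
    rw [ea', eb', ← map_mul, D.Q_comm a' ha' b' hb', map_mul]
  comm_t := by
    rintro a ⟨a', -, ea⟩
    refine Subtype.ext ?_
    show (a : G) * S.t = S.t * (a : G)
    have ea' : (a : G) = S.ι a' := ea.symm
    rw [ea']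
    exact (S.commute_ι a').eq
  decomp := by
    intro x hx
    obtain ⟨l, hl, e | e⟩ := S.exists_lift_comm (congrArg Subtype.val hx.eq : Commute (x : G) S.t) (hK x x.2)
    · left
      refine ⟨l, ?_, e.symm⟩
      rw [← D.cent_Q r0 hr0 hr1]
      exact mem_centralizer_singleton_iff.2 hl.eq
    · right
      refine ⟨l, ?_, ?_⟩
      · rw [← D.cent_Q r0 hr0 hr1]
        exact mem_centralizer_singleton_iff.2 hl.eq
      · show S.ι l = S.t * (x : G)
        rw [e, ← mul_assoc, S.t_mul_self, one_mul]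
  qodd := by
    rw [Nat.card_congr (subgroupOfEquivOfLe hQK).toEquiv, Subgroup.card_map_of_injective S.ι_injective,
      D.card_Q]
    obtain ⟨k, hk⟩ := D.three_pow
    rw [hk]; exact Odd.pow (show Odd 3 by decide)

omit [Finite G] in
theorem card_Qmap : Nat.card (D.Q.map S.ι) = q := by
  rw [Subgroup.card_map_of_injective S.ι_injective, D.card_Q]

theorem isPGroup_Qmap : IsPGroup 3 (D.Q.map S.ι) := by
  haveI : Fact (Nat.Prime 3) := ⟨Nat.prime_three⟩
  obtain ⟨k, hk⟩ := D.three_pow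
  exact IsPGroup.of_card (n := k) (by rw [S.card_Qmap, hk])

include D in
/-- In the `S₃`-free case the index of the centraliser of `t` is prime to 3. -/
theorem not_three_dvd_index [Finite L] (hfree : ¬ Cfsg.Involves (Equiv.Perm (Fin 3)) G) :
    ¬ 3 ∣ S.C.index := by
  haveI : Fact (Nat.Prime 3) := ⟨Nat.prime_three⟩
  intro h3
  obtain ⟨r0, hr0, hr1⟩ := exists_r0 D
  set Qg := D.Q.map S.ι with hQg
  obtain ⟨P, hP⟩ := (S.isPGroup_Qmap D).exists_le_sylow
  have hQC : Qg ≤ S.C := by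
    rintro _ ⟨r, -, rfl⟩
    exact S.mem_C.2 (S.commute_ι r)
  have hne : ¬ (P : Subgroup G) ≤ Qg := fun h =>
    P.not_dvd_index (h3.trans (Subgroup.index_dvd_of_le (h.trans hQC)))
  haveI : Group.IsNilpotent (P : Subgroup G) := P.2.isNilpotent
  have hlt : Qg.subgroupOf (P : Subgroup G) < ⊤ :=
    lt_top_iff_ne_top.2 fun h => hne (subgroupOf_eq_top.1 h)
  obtain ⟨n, hn, hn'⟩ := SetLike.exists_of_lt (Group.normalizerCondition_of_isNilpotent _ hlt)
  have hnQ : ∀ w : G, w ∈ Qg → (n : G) * w * (n : G)⁻¹ ∈ Qg := fun w hw =>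
    (mem_normalizer_iff.1 hn ⟨w, hP hw⟩).1 hw
  have hnQ' : ∀ w : G, w ∈ Qg → (n : G)⁻¹ * w * (n : G) ∈ Qg := fun w hw => by
    have := (mem_normalizer_iff.1 (inv_mem hn) ⟨w, hP hw⟩).1 hw
    simpa [mem_subgroupOf] using this
  set K := centralizer (Qg : Set G) with hK
  have htK : S.t ∈ K := mem_centralizer_iff.2 (by rintro _ ⟨r, -, rfl⟩; exact (S.commute_ι r).eq)
  have hQK : Qg ≤ K := by
    rintro _ ⟨a, ha, rfl⟩
    refine mem_centralizer_iff.2 ?_
    rintro _ ⟨b, hb, rfl⟩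
    rw [← map_mul, D.Q_comm b hb a ha, map_mul]
  let C := S.smallCent D K htK hQK hr0 hr1
    (fun x hx => (mem_centralizer_iff.1 hx _ ⟨r0, hr0, rfl⟩ : S.ι r0 * x = x * S.ι r0).symm)
  have hfreeK : ¬ Cfsg.Involves (Equiv.Perm (Fin 3)) K := fun h => hfree (PComplement.involves_of_subgroup h)
  have htn : (n : G) * S.t * (n : G)⁻¹ ∈ K := by
    refine mem_centralizer_iff.2 fun w hw => ?_
    obtain ⟨r, -, hr⟩ := hnQ' w hw
    have h1 := ((Commute.conj_iff (n : G)).2 (S.commute_ι r))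
    rw [hr] at h1
    simpa [mul_assoc] using h1.eq
  obtain ⟨c, hc⟩ := C.exists_conj (u := ⟨_, htn⟩) (by
    rw [Subgroup.orderOf_mk, ← S.orderOf_t]
    exact (MulAut.conj (n : G)).orderOf_eq S.t)
  have hc' : (c : G) * S.t * (c : G)⁻¹ = (n : G) * S.t * (n : G)⁻¹ := congrArg Subtype.val hc
  have hcn : Commute ((c : G)⁻¹ * n) S.t := by
    refine mul_inv_eq_iff_eq_mul.1 ?_
    rw [show (c : G)⁻¹ * n * S.t * ((c : G)⁻¹ * n)⁻¹ = (c : G)⁻¹ * ((n : G) * S.t * (n : G)⁻¹) * c by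
      group, ← hc']
    group
  obtain ⟨l, hl⟩ := S.decomp _ hcn
  have hact : ∀ r ∈ D.Q, l * r * l⁻¹ ∈ D.Q ∧ S.ι (l * r * l⁻¹) = (n : G) * S.ι r * (n : G)⁻¹ := by
    intro r hr
    have hw := hnQ _ ⟨r, hr, rfl⟩
    have e : S.ι (l * r * l⁻¹) = (n : G) * S.ι r * (n : G)⁻¹ := by
      have hcc : (c : G)⁻¹ * ((n : G) * S.ι r * (n : G)⁻¹) * c = (n : G) * S.ι r * (n : G)⁻¹ := by
        rw [mul_assoc, mem_centralizer_iff.1 c.2 _ hw, ← mul_assoc, inv_mul_cancel, one_mul]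
      rw [← hcc, show (c : G)⁻¹ * ((n : G) * S.ι r * (n : G)⁻¹) * c =
        ((c : G)⁻¹ * n) * S.ι r * ((c : G)⁻¹ * n)⁻¹ by group]
      rcases hl with e | e <;> rw [e]
      · simp only [map_mul, map_inv]
      · rw [show S.t * S.ι l * S.ι r * (S.t * S.ι l)⁻¹ = S.t * S.ι (l * r * l⁻¹) * S.t⁻¹ by
          simp only [map_mul, map_inv]; group, ← (S.commute_ι _).eq, mul_inv_cancel_right]
    obtain ⟨r', hr', er⟩ := hw
    rw [← e] at er
    exact ⟨S.ι_injective er ▸ hr', e⟩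
  have hpow : ∀ j : ℕ, ∀ r ∈ D.Q, l ^ j * r * (l ^ j)⁻¹ ∈ D.Q ∧
      S.ι (l ^ j * r * (l ^ j)⁻¹) = (n : G) ^ j * S.ι r * ((n : G) ^ j)⁻¹ := by
    intro j
    induction j with
    | zero => intro r hr; simpa using hr
    | succ j ih =>
      intro r hr
      obtain ⟨h1, h2⟩ := ih r hr
      obtain ⟨h3, h4⟩ := hact _ h1
      have e : l ^ (j + 1) * r * (l ^ (j + 1))⁻¹ = l * (l ^ j * r * (l ^ j)⁻¹) * l⁻¹ := by
        rw [pow_succ']; group
      rw [e]
      refine ⟨h3, ?_⟩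
      rw [h4, h2, pow_succ']
      group
  have hlN : l ∈ normalizer (D.Q : Set L) :=
    mem_normalizer_iff.2 fun r => ⟨fun hr => (hact r hr).1, fun hr => by
      let Φ : D.Q → D.Q := fun x => ⟨_, (hact x x.2).1⟩
      have hinj : Function.Injective Φ := fun a b e =>
        Subtype.ext (mul_left_cancel (mul_right_cancel (congrArg Subtype.val e)))
      obtain ⟨r', hr'⟩ := Finite.surjective_of_injective hinj ⟨_, hr⟩
      exact (mul_left_cancel (mul_right_cancel (congrArg Subtype.val hr'))) ▸ r'.2⟩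
  set N := normalizer (D.Q : Set L) with hN
  set h := (D.Q.subgroupOf N).index with hh
  have hindex : 2 * h = q - 1 := by
    have h1 := (D.Q.subgroupOf N).card_mul_index
    rw [Nat.card_congr (subgroupOfEquivOfLe le_normalizer).toEquiv, D.card_Q] at h1
    have h2 := D.card_normalizer_Q
    rw [← hN, ← h1, ← hh, mul_left_comm] at h2
    exact Nat.eq_of_mul_eq_mul_left (by have := D.hq; omega) h2
  have h3h : ¬ 3 ∣ h := by have := three_dvd_q D; have := D.hq; omega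
  have hlh : l ^ h ∈ D.Q := (D.Q.subgroupOf N).pow_index_mem (⟨l, hlN⟩ : N)
  have hnh : (n : G) ^ h ∈ K := by
    refine mem_centralizer_iff.2 ?_
    rintro _ ⟨r, hr, rfl⟩
    have e := (hpow h r hr).2
    rw [D.Q_comm _ hlh _ hr, mul_inv_cancel_right] at e
    exact eq_mul_inv_iff_mul_eq.1 e
  obtain ⟨a, ha⟩ := P.2 n
  have hnK : (n : G) ∈ K := by
    have hcop : Nat.Coprime h (orderOf (n : G)) :=
      Nat.Coprime.coprime_dvd_right (orderOf_dvd_of_pow_eq_one (congrArg Subtype.val ha))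
        (Nat.Coprime.pow_right a ((Nat.prime_three.coprime_iff_not_dvd).2 h3h).symm)
    obtain ⟨j, hj⟩ := exists_pow_eq_self_of_coprime hcop
    rw [← hj]
    exact pow_mem hnh j
  have hle : Qg ≤ (P : Subgroup G) ⊓ K := le_inf hP hQK
  have hb := C.card_le hfreeK (P0 := ((P : Subgroup G) ⊓ K).subgroupOf K)
    ((P.2.to_le inf_le_left).of_equiv (subgroupOfEquivOfLe inf_le_right).symm)
  rw [Nat.card_congr (subgroupOfEquivOfLe (inf_le_right : (P : Subgroup G) ⊓ K ≤ K)).toEquiv] at hb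
  have hb' : Nat.card C.Qc = Nat.card Qg := Nat.card_congr (subgroupOfEquivOfLe hQK).toEquiv
  rw [hb'] at hb
  have heq := Subgroup.eq_of_le_of_card_ge hle hb
  refine hn' ?_
  rw [mem_subgroupOf, heq]
  exact ⟨n.2, hnK⟩

/-- An element permuting `t`, `ι i`, `t ι i` cyclically. -/
theorem exists_sigma
    (hrot : ∃ a b ρ : L, orderOf a = 2 ∧ orderOf b = 2 ∧ a ≠ b ∧ Commute a b ∧
      ρ * a * ρ⁻¹ = b ∧ ρ * b * ρ⁻¹ = a * b) :
    ∃ σ : G, σ * S.t * σ⁻¹ = S.ι D.i ∧ σ * S.ι D.i * σ⁻¹ = S.t * S.ι D.i := by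
  obtain ⟨a, b, ρ, ha, hb, hab, hcom, h1, h2⟩ := hrot
  obtain ⟨g, hg⟩ := S.conj_invol (S.ι a) S.t (by rw [orderOf_injective S.ι S.ι_injective, ha]) S.orderOf_t
  set v := g * S.ι b * g⁻¹ with hv
  have hvt : Commute v S.t := hg ▸ (Commute.conj_iff g).2 (hcom.symm.map S.ι)
  have hvo : orderOf v = 2 := by
    rw [hv, ← MulAut.conj_apply, MulEquiv.orderOf_eq, orderOf_injective S.ι S.ι_injective, hb]
  have hvne : v ≠ S.t := fun e => hab (S.ι_injective (mul_left_cancel (mul_right_cancel (hg.trans e.symm))))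
  have hvv : v * v = 1 := by rw [← pow_two, ← hvo, pow_orderOf_eq_one]
  obtain ⟨l, hl⟩ := S.decomp v hvt
  have hlo : orderOf l = 2 := by
    refine orderOf_eq_prime (S.ι_injective ?_) fun e => ?_
    · rw [map_pow, map_one, pow_two]
      rcases hl with e | e
      · rw [← e, hvv]
      · have e' : S.ι l = S.t * v := by rw [e, ← mul_assoc, S.t_mul_self, one_mul]
        rw [e', show S.t * v * (S.t * v) = S.t * (v * S.t) * v by group, hvt.eq,
          show S.t * (S.t * v) * v = (S.t * S.t) * (v * v) by group, S.t_mul_self, hvv, one_mul]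
    · subst e
      rcases hl with e | e <;> simp only [map_one, mul_one] at e
      · rw [e, orderOf_one] at hvo; omega
      · exact hvne e
  obtain ⟨h, hh⟩ := D.conj_invol l D.i hlo D.orderOf_i
  set g' := S.ι h * g with hg'
  set τ := g' * S.ι ρ * g'⁻¹ with hτ
  set v' := g' * S.ι b * g'⁻¹ with hv'
  have hga : g' * S.ι a * g'⁻¹ = S.t := by
    rw [hg', show S.ι h * g * S.ι a * (S.ι h * g)⁻¹ = S.ι h * (g * S.ι a * g⁻¹) * (S.ι h)⁻¹ by group, hg,
      (S.commute_ι h).eq, mul_inv_cancel_right]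
  have hv'' : v' = S.ι h * v * (S.ι h)⁻¹ := by rw [hv', hv, hg']; group
  have hτt : τ * S.t * τ⁻¹ = v' := by
    rw [hτ, hv', ← hga, show g' * S.ι ρ * g'⁻¹ * (g' * S.ι a * g'⁻¹) * (g' * S.ι ρ * g'⁻¹)⁻¹ =
      g' * (S.ι ρ * S.ι a * (S.ι ρ)⁻¹) * g'⁻¹ by group, ← map_mul, ← map_inv, ← map_mul, h1]
  have hτv : τ * v' * τ⁻¹ = S.t * v' := by
    rw [hτ, hv', show g' * S.ι ρ * g'⁻¹ * (g' * S.ι b * g'⁻¹) * (g' * S.ι ρ * g'⁻¹)⁻¹ =
      g' * (S.ι ρ * S.ι b * (S.ι ρ)⁻¹) * g'⁻¹ by group, ← map_mul, ← map_inv, ← map_mul, h2, map_mul, ← hga]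
    group
  rcases hl with e | e
  · have ev : v' = S.ι D.i := by rw [hv'', e, ← hh]; simp only [map_mul, map_inv]
    exact ⟨τ, by rw [hτt, ev], by rw [← ev, hτv]⟩
  · have ev : v' = S.t * S.ι D.i := by
      rw [hv'', e, ← hh, show S.ι h * (S.t * S.ι l) * (S.ι h)⁻¹ = S.ι h * S.t * (S.ι l * (S.ι h)⁻¹) by
        group, (S.commute_ι h).eq]
      simp only [map_mul, map_inv, mul_assoc]
    have ei : S.ι D.i = S.t * v' := by rw [ev, ← mul_assoc, S.t_mul_self, one_mul]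
    have hmid : τ * (S.t * v') * τ⁻¹ = S.t := by
      rw [show τ * (S.t * v') * τ⁻¹ = (τ * S.t * τ⁻¹) * (τ * v' * τ⁻¹) by group, hτt, hτv, ← mul_assoc,
        show v' * S.t = S.t * v' by rw [ev, mul_assoc, (S.commute_ι _).eq]]
      have hsq : v' * v' = 1 := by
        rw [hv'', show S.ι h * v * (S.ι h)⁻¹ * (S.ι h * v * (S.ι h)⁻¹) = S.ι h * (v * v) * (S.ι h)⁻¹ by
          group, hvv, mul_one, mul_inv_cancel]
      rw [mul_assoc, hsq, mul_one]
    refine ⟨τ * τ, ?_, ?_⟩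
    · rw [show τ * τ * S.t * (τ * τ)⁻¹ = τ * (τ * S.t * τ⁻¹) * τ⁻¹ by group, hτt, hτv, ei]
    · rw [show τ * τ * S.ι D.i * (τ * τ)⁻¹ = τ * (τ * S.ι D.i * τ⁻¹) * τ⁻¹ by group, ei, hmid, hτt,
        ← mul_assoc, S.t_mul_self, one_mul]

end Setup

end Cfsg.Agent.ReeS3
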