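import Cfsg.Agent.Lib.ReeS3.CentralFalse

/-!
# A group with an involution centraliser `⟨t⟩ × PSL₂(3^odd)` involves `S₃`
-/

set_option autoImplicit false
set_option linter.style.haveILetI false

namespace Cfsg.Agent.ReeS3

open Subgroup
open scoped ComplexConjugate

universe u v

namespace Setup

variable {G : Type u} [Group G] {L : Type v} [Group L] [Finite G] [Finite L] (S : Setup G L) {q m : ℕ}
  (D : Data L q m)

omit [Finite G] [Finite L] in
theorem exists_mem_A {x : G} (h1 : Commute x S.t) (h2 : Commute x (S.ι D.i)) (h3 : x ^ m = 1) :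
    ∃ a : D.A, x = S.ι a := by
  obtain ⟨l, rfl, hl⟩ := S.exists_lift_odd h1 D.hm_odd h3
  exact ⟨⟨l, (D.mem_A l).2 ⟨S.comm_iff.1 h2, hl⟩⟩, rfl⟩

omit [Finite G] in
include D in
theorem exists_faithful : ∃ μ : D.A →* ℂˣ, Function.Injective μ := by
  obtain ⟨g, hg⟩ := D.cyclicA.exists_zpow_surjective
  obtain ⟨ζ, hζ⟩ : ∃ ζ : ℂˣ, orderOf ζ = orderOf g := by
    haveI : NeZero (orderOf g) := ⟨(orderOf_pos g).ne'⟩
    have h := Complex.isPrimitiveRoot_exp (orderOf g) (NeZero.ne _)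
    exact ⟨(h.isUnit (NeZero.ne _)).unit,
      by rw [← orderOf_units, IsUnit.unit_spec]; exact h.eq_orderOf.symm⟩
  have hgen : ∀ x : D.A, x ∈ zpowers g := fun x => hg x
  refine ⟨monoidHomOfForallMemZpowers hgen (g' := ζ) hζ.dvd, ?_⟩
  intro x y hxy
  obtain ⟨a, rfl⟩ := hg x
  obtain ⟨b, rfl⟩ := hg y
  simp only [map_zpow, monoidHomOfForallMemZpowers_apply_gen] at hxy
  simp only
  rw [zpow_eq_zpow_iff_modEq] at hxy ⊢
  rwa [hζ] at hxy

include S D in
/-- The main theorem on groups of Ree type. -/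
theorem involves_three (hrot : ∃ a b ρ : L, orderOf a = 2 ∧ orderOf b = 2 ∧ a ≠ b ∧ Commute a b ∧
      ρ * a * ρ⁻¹ = b ∧ ρ * b * ρ⁻¹ = a * b) :
    Cfsg.Involves (Equiv.Perm (Fin 3)) G := by
  classical
  by_contra hfree
  haveI := Fintype.ofFinite G
  haveI := Fintype.ofFinite L
  have hidx := S.not_three_dvd_index D hfree
  obtain ⟨σ, hr1, hr2⟩ := S.exists_sigma D hrot
  have hr3 : σ * (S.t * S.ι D.i) * σ⁻¹ = S.t := by
    rw [show σ * (S.t * S.ι D.i) * σ⁻¹ = (σ * S.t * σ⁻¹) * (σ * S.ι D.i * σ⁻¹) by group, hr1, hr2,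
      ← mul_assoc, (S.commute_ι _).eq, mul_assoc, ← map_mul, ← pow_two, ← D.orderOf_i, pow_orderOf_eq_one,
      map_one, mul_one]
  have hAi : ∀ a : D.A, Commute (S.ι a) (S.ι D.i) := fun a => (((D.mem_A a.1).1 a.2).1).map S.ι
  have hσA : ∀ a : D.A, ∃ b : D.A, σ * S.ι a * σ⁻¹ = S.ι b := by
    intro a
    have hc1 : Commute (σ * S.ι a * σ⁻¹) (S.ι D.i) := hr1 ▸ (Commute.conj_iff σ).2 (S.commute_ι (a : L))
    have hc2 : Commute (σ * S.ι a * σ⁻¹) S.t :=
      hr3 ▸ (Commute.conj_iff σ).2 ((S.commute_ι (a : L)).mul_right (hAi a))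
    exact S.exists_mem_A D hc2 hc1 (by
      rw [conj_pow, ← map_pow, ((D.mem_A a.1).1 a.2).2, map_one, mul_one, mul_inv_cancel])
  choose f hf using hσA
  let α : D.A →* D.A := MonoidHom.mk' f fun a b => Subtype.ext (S.ι_injective (by
    rw [← hf, Subgroup.coe_mul, Subgroup.coe_mul, map_mul, map_mul, ← hf, ← hf]
    group))
  have hα : ∀ a : D.A, σ * S.ι a * σ⁻¹ = S.ι (α a) := hf
  have hαinj : Function.Injective α := by
    intro a b h
    have e : σ * S.ι a * σ⁻¹ = σ * S.ι b * σ⁻¹ := by rw [hα, hα, h]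
    exact Subtype.ext (S.ι_injective (mul_left_cancel (mul_right_cancel e)))
  have inv_id : ∀ a : D.A, a⁻¹ = a → a = 1 := fun a h => by
    have h2 : a * a = 1 := by nth_rewrite 1 [← h]; exact inv_mul_cancel a
    refine Subtype.ext ?_
    refine D.eq_one_of_sq (congrArg Subtype.val h2) ((D.mem_A a.1).1 a.2).2
  by_cases hpm : (∀ a, α a = a) ∨ (∀ a, α a = a⁻¹)
  · obtain ⟨τ, hτ⟩ : ∃ τ, S.Rot D τ := by
      rcases hpm with h | h
      · exact ⟨σ, hr1, hr2, fun a ha => mul_inv_eq_iff_eq_mul.1 (by rw [hα ⟨a, ha⟩, h])⟩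
      · obtain ⟨j, hji, hjA, hjA'⟩ := exists_flip D
        obtain ⟨-, hjinv⟩ := D.outside j hji hjA hjA'
        refine ⟨S.ι j * σ, ?_, ?_, fun a ha => mul_inv_eq_iff_eq_mul.1 ?_⟩
        · rw [show S.ι j * σ * S.t * (S.ι j * σ)⁻¹ = S.ι j * (σ * S.t * σ⁻¹) * (S.ι j)⁻¹ by group, hr1,
            (hji.map S.ι).eq, mul_inv_cancel_right]
        · rw [show S.ι j * σ * S.ι D.i * (S.ι j * σ)⁻¹ = S.ι j * (σ * S.ι D.i * σ⁻¹) * (S.ι j)⁻¹ by group,
            hr2, ((S.commute_ι j).mul_right (hji.map S.ι)).eq, mul_inv_cancel_right]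
        · rw [show S.ι j * σ * S.ι a * (S.ι j * σ)⁻¹ = S.ι j * (σ * S.ι a * σ⁻¹) * (S.ι j)⁻¹ by group,
            hα ⟨a, ha⟩, h, Subgroup.coe_inv, ← map_inv, ← map_mul, ← map_mul, hjinv _ (inv_mem ha), inv_inv]
    exact S.false_of_rot D hfree hτ
  push Not at hpm
  obtain ⟨⟨a1, ha1⟩, ⟨a2, ha2⟩⟩ := hpm
  -- the cube of `α`
  have hcube : (∀ a, α (α (α a)) = a) ∨ (∀ a, α (α (α a)) = a⁻¹) := by
    set p := σ * σ * σ with hp
    have hpt : Commute p S.t := mul_inv_eq_iff_eq_mul.1 (by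
      rw [hp, show σ * σ * σ * S.t * (σ * σ * σ)⁻¹ = σ * (σ * (σ * S.t * σ⁻¹) * σ⁻¹) * σ⁻¹ by group, hr1, hr2,
        hr3])
    have hpi : Commute p (S.ι D.i) := mul_inv_eq_iff_eq_mul.1 (by
      rw [hp, show σ * σ * σ * S.ι D.i * (σ * σ * σ)⁻¹ = σ * (σ * (σ * S.ι D.i * σ⁻¹) * σ⁻¹) * σ⁻¹ by group,
        hr2, hr3, hr1])
    have hpa : ∀ a : D.A, p * S.ι a * p⁻¹ = S.ι (α (α (α a))) := fun a => by
      rw [hp, show σ * σ * σ * S.ι a * (σ * σ * σ)⁻¹ = σ * (σ * (σ * S.ι a * σ⁻¹) * σ⁻¹) * σ⁻¹ by group, hα,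
        hα, hα]
    obtain ⟨l, hli, hl⟩ := S.exists_lift_comm hpt hpi
    have hla : ∀ a : D.A, ((α (α (α a)) : D.A) : L) = l * a * l⁻¹ := by
      intro a
      refine S.ι_injective ?_
      rw [← hpa]
      rcases hl with e | e <;> rw [e]
      · simp only [map_mul, map_inv]
      · rw [show S.t * S.ι l * S.ι a * (S.t * S.ι l)⁻¹ = S.t * S.ι (l * a * l⁻¹) * S.t⁻¹ by
          simp only [map_mul, map_inv]; group, ← (S.commute_ι _).eq, mul_inv_cancel_right]
    haveI := D.cyclicA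
    have hcomm : ∀ a b : D.A, a * b = b * a := fun a b => by
      letI := D.cyclicA.commGroup
      exact mul_comm a b
    by_cases h : l ∈ D.A ∨ D.i * l ∈ D.A
    · refine Or.inl fun a => Subtype.ext ?_
      have hc : Commute l (a : L) := by
        rcases h with h | h
        · exact congrArg Subtype.val (hcomm ⟨l, h⟩ a)
        · have h1 : Commute (D.i * l) (a : L) := congrArg Subtype.val (hcomm ⟨_, h⟩ a)
          have h2 := (((D.mem_A a.1).1 a.2).1.symm).inv_left.mul_left h1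
          simpa using h2
      rw [hla, hc.eq, mul_inv_cancel_right]
    · push Not at h
      refine Or.inr fun a => Subtype.ext ?_
      rw [hla, (D.outside l hli h.1 h.2).2 a a.2, Subgroup.coe_inv]
  -- no power `α`, `α²` is `±1`
  have h2id : ¬ ∀ a, α (α a) = a := by
    intro h
    rcases hcube with h3 | h3
    · exact ha1 (by have := h3 a1; rwa [h a1] at this)
    · exact ha2 (by have := h3 a2; rwa [h a2] at this)
  have h2inv : ¬ ∀ a, α (α a) = a⁻¹ := by
    intro h
    rcases hcube with h3 | h3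
    · refine ha2 ?_
      have := h3 a2
      rw [h a2, map_inv] at this
      rw [← inv_inv (α a2), this]
    · refine ha1 ?_
      have := h3 a1
      rw [h a1, map_inv] at this
      exact inv_injective this
  obtain ⟨μ, hμ⟩ := exists_faithful D
  let β : Fin 3 → (D.A →* D.A) := ![MonoidHom.id _, α, α.comp α]
  have hβinj : ∀ k, Function.Injective (β k) := by
    intro k
    fin_cases k
    exacts [fun a b h => h, hαinj, hαinj.comp hαinj]
  have hA1 : ∃ a : D.A, a ≠ 1 := by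
    by_contra h
    push Not at h
    exact ha1 ((h _).trans (h a1).symm)
  have hdiff : ∀ k l : Fin 3, k ≠ l → (¬ ∀ a, β k a = β l a) ∧ (¬ ∀ a, β k a⁻¹ = β l a) := by
    have base : ∀ k l : Fin 3, k ≠ l → (∀ a, β k a = β l a) → False := by
      intro k l hkl h
      fin_cases k <;> fin_cases l <;> first | exact hkl rfl | skip
      · exact ha1 (h a1).symm
      · exact h2id fun a => (h a).symm
      · exact ha1 (h a1)
      · exact ha1 (hαinj (h a1).symm)
      · exact h2id h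
      · exact ha1 (hαinj (h a1))
    have base' : ∀ k l : Fin 3, k ≠ l → (∀ a, β k a⁻¹ = β l a) → False := by
      intro k l hkl h
      fin_cases k <;> fin_cases l <;> first | exact hkl rfl | skip
      · exact ha2 (h a2).symm
      · exact h2inv fun a => (h a).symm
      · exact ha2 (by
          have h' : α a2⁻¹ = a2 := h a2
          rw [map_inv] at h'
          rw [← inv_inv (α a2), h'])
      · exact ha2 (hαinj (h a2).symm)
      · exact h2inv fun a => by
          have h' : α (α a⁻¹) = a := h a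
          rw [map_inv, map_inv] at h'
          rw [← inv_inv (α (α a)), h']
      · refine ha2 (hαinj ?_)
        have h' : α (α a2⁻¹) = α a2 := h a2
        rw [map_inv, map_inv] at h'
        rw [map_inv]; exact inv_eq_iff_eq_inv.1 h'
    exact fun k l hkl => ⟨base k l hkl, base' k l hkl⟩
  refine S.false_of_twist D (fun k => μ.comp (β k)) ?_ ?_ ?_ ?_
  · intro k h
    obtain ⟨a, ha⟩ := hA1
    exact ha (hβinj k (hμ (by
      rw [map_one, map_one]
      exact DFunLike.congr_fun h a)))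
  · intro k l
    rw [D.phi_inner]
    by_cases hkl : k = l
    · subst hkl
      rw [if_pos rfl, if_neg, if_pos rfl]
      · norm_num
      · intro h
        obtain ⟨a, ha⟩ := hA1
        exact ha (inv_id a (hβinj k (hμ (h a))))
    · rw [if_neg fun h => (hdiff k l hkl).1 fun a => hμ (DFunLike.congr_fun h a),
        if_neg fun h => (hdiff k l hkl).2 fun a => hμ (h a), if_neg hkl]
      norm_num
  · intro χ hχ k
    have hinv : ∀ a : D.A, χ (S.ι a) = χ (S.ι (α a)) := fun a => by rw [← hα]; exact (hχ _ _).symm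
    have hχβ : ∀ a : D.A, χ (S.ι a) = χ (S.ι (β k a)) := by
      intro a
      fin_cases k
      exacts [rfl, hinv a, (hinv a).trans (hinv _)]
    rw [Finset.sum_congr rfl fun (a : D.A) _ => show ((μ.comp (β k) a : ℂˣ) : ℂ) * conj (χ (S.ι a)) =
        ((μ (β k a) : ℂˣ) : ℂ) * conj (χ (S.ι (β k a))) by rw [← hχβ]; rfl]
    exact Fintype.sum_bijective (β k) ((Finite.injective_iff_bijective).1 (hβinj k))
      (fun a => ((μ (β k a) : ℂˣ) : ℂ) * conj (χ (S.ι (β k a))))
      (fun a => ((μ a : ℂˣ) : ℂ) * conj (χ (S.ι a))) (fun _ => rfl)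
  · obtain ⟨e, he⟩ := D.three_pow
    rw [he]
    exact Nat.Coprime.pow_right e ((Nat.prime_three.coprime_iff_not_dvd).2 hidx).symm

end Setup

end Cfsg.Agent.ReeS3
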