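import Cfsg.Agent.Lib.ReeS3.Data
import Cfsg.Agent.Lib.PSL2.Circle
import Cfsg.Agent.Lib.PSL2.Classes
import Cfsg.Agent.Lib.PSL2.Sylow
import Cfsg.Agent.Lib.PSL2.PSLPartition

/-!
# `PSL₂(3^(2n+1))` satisfies the local data
-/

set_option autoImplicit false
set_option linter.style.haveILetI false
set_option linter.unusedSimpArgs false

namespace Cfsg.Agent.ReeS3

open Cfsg.Agent.PSL2 Cfsg.Agent.PSL2.Circle
open scoped MatrixGroups

variable {F : Type*} [Field F] [Fintype F] {n : ℕ}

theorem three_pow_mod_eight : ∀ n : ℕ, 3 ^ (2 * n + 1) % 8 = 3 := by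
  intro n
  rw [pow_succ, pow_mul, Nat.mul_mod, Nat.pow_mod]
  norm_num

theorem two_ne_zero' (hF : Fintype.card F = 3 ^ (2 * n + 1)) : (2 : F) ≠ 0 :=
  odd_card_iff.1 (hF ▸ Odd.pow (by decide))

theorem not_sq_neg_one (hF : Fintype.card F = 3 ^ (2 * n + 1)) : ∀ c : F, c * c ≠ -1 := by
  intro c hc
  have := FiniteField.isSquare_neg_one_iff.1 ⟨c, hc.symm⟩
  have := three_pow_mod_eight n
  omega

theorem card_map_mk_mul {H : Subgroup SL(2, F)} (hH : Subgroup.center SL(2, F) ≤ H) :
    Nat.card ↥(H.map (mk : SL(2, F) →* PSL(2, F))) * Nat.card (Subgroup.center SL(2, F)) =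
      Nat.card H := by
  rw [← Subgroup.relIndex_ker, ker_mk, ← Subgroup.relIndex_bot_left (Subgroup.center SL(2, F)),
    mul_comm, Subgroup.relIndex_mul_relIndex _ _ _ bot_le hH, Subgroup.relIndex_bot_left]

/-- An element conjugated to its inverse by some element is not of order 3. -/
theorem noreal_unip (hF : Fintype.card F = 3 ^ (2 * n + 1)) {s : F} (hs : s ≠ 0) (x : PSL(2, F)) :
    x * mk (uu s) * x⁻¹ ≠ (mk (uu s))⁻¹ := by
  obtain ⟨g, rfl⟩ := mk_surjective x
  intro h
  rw [← map_inv, ← map_mul, ← map_mul, ← map_inv, mk_eq_mk, uu_inv] at h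
  rcases h with h | h
  · have hb := mem_borel.1 (uu_conj_mem_borel hs h)
    have h' : g * uu s = uu (-s) * g := mul_inv_eq_iff_eq_mul.1 h
    have e := congrArg (fun m : SL(2, F) => m 0 1) h'
    simp only [mul01, uu00, uu01, uu11, one_mul, mul_one] at e
    have hd := det_eq g
    rw [hb, mul_zero, sub_zero] at hd
    refine not_sq_neg_one hF (g 0 0) ?_
    have e' : g 0 0 * s = -s * g 1 1 := by linear_combination e
    have : s * (g 0 0 * g 0 0 + 1) = 0 := by linear_combination (g 0 0) * e' - s * hd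
    have := (mul_eq_zero.1 this).resolve_left hs
    linear_combination this
  · have := congrArg tr h
    rw [tr_conj, tr_neg, tr_uu, tr_uu] at this
    have h4 : (2 : F) * 2 = 0 := by linear_combination this
    exact two_ne_zero' hF (mul_self_eq_zero.1 h4)

theorem eq_pm_of_circle_of_zero (h2 : (2 : F) ≠ 0) {g : SL(2, F)} (hg : g ∈ circle F) (h : g 0 1 = 0) :
    g = 1 ∨ g = -1 := by
  refine eq_pm_of_mul_self_eq_one h2 (ext2 ?_ ?_ ?_ ?_)
  all_goals
    have hd := circle_det hg
    rw [h] at hd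
    simp only [mul00, mul01, mul10, mul11, h, hg.2, ← hg.1]
    simp
  all_goals linear_combination hd

theorem exists_flip (h2 : (2 : F) ≠ 0) : ∃ c d : F, -c ^ 2 - d ^ 2 = 1 := by
  obtain ⟨c, d, h⟩ := FiniteField.exists_root_sum_quadratic (R := F) (f := Polynomial.X ^ 2)
    (g := Polynomial.X ^ 2 + Polynomial.C 1) (Polynomial.degree_X_pow 2)
    (Polynomial.degree_X_pow_add_C (by norm_num) 1)
    (Nat.odd_iff.1 (odd_card_iff.2 h2))
  refine ⟨c, d, ?_⟩
  simp at h
  linear_combination -h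

/-- `PSL₂(3^(2n+1))`, `n ≥ 1`, satisfies the local data. -/
theorem data (hn : 1 ≤ n) (hF : Fintype.card F = 3 ^ (2 * n + 1)) :
    Nonempty (Data PSL(2, F) (Fintype.card F) ((Fintype.card F + 1) / 4)) := by
  classical
  haveI : Fact (Nat.Prime 3) := ⟨Nat.prime_three⟩
  haveI : CharP F 3 := charP_of_card_eq_prime_pow hF
  set q := Fintype.card F with hqdef
  set m := (q + 1) / 4 with hmdef
  have h8 : q % 8 = 3 := hF ▸ three_pow_mod_eight n
  have hq : 27 ≤ q := by
    rw [hF]
    calc 27 = 3 ^ 3 := by norm_num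
      _ ≤ _ := Nat.pow_le_pow_right (by norm_num) (by omega)
  have hm : q + 1 = 4 * m := by omega
  have h2 := two_ne_zero' hF
  have h30 : (3 : F) = 0 := by exact_mod_cast CharP.cast_eq_zero F 3
  -- the image of the unipotent group
  let Q : Subgroup PSL(2, F) := (unip F).map mk
  have hQ : ∀ y ∈ Q, ∃ s : F, mk (uu s) = y := by
    rintro y ⟨g, hg, rfl⟩
    obtain ⟨s, rfl⟩ := mem_unip.1 hg
    exact ⟨s, rfl⟩
  have hQmem : ∀ g ∈ pmUnip F, mk g ∈ Q := fun g hg => by
    rcases mem_pmUnip.1 hg with h | h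
    · exact ⟨g, h, rfl⟩
    · exact ⟨-g, h, mk_neg g⟩
  have hQcomm : ∀ a ∈ Q, ∀ b ∈ Q, a * b = b * a := by
    intro a ha b hb
    obtain ⟨s, rfl⟩ := hQ a ha
    obtain ⟨t, rfl⟩ := hQ b hb
    rw [← map_mul, ← map_mul, uu_mul_uu, uu_mul_uu, add_comm]
  have hQN : Subgroup.normalizer (Q : Set PSL(2, F)) = (borel F).map mk := by
    have e : Q = (pmUnip F).map mk := le_antisymm (Subgroup.map_mono unip_le_pmUnip)
      (Subgroup.map_le_iff_le_comap.2 hQmem)
    rw [e, normalizer_map_mk (fun g hg => by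
      rcases mem_center_iff_pm.1 hg with rfl | rfl
      · exact one_mem _
      · exact mem_pmUnip.2 (Or.inr (by rw [neg_neg]; exact one_mem _))), normalizer_pmUnip]
  have hconjQ : ∀ y : PSL(2, F), y ^ 3 = 1 → ∃ g, g * y * g⁻¹ ∈ Q := by
    intro y hy
    have hp : IsPGroup 3 (Subgroup.zpowers y) := by
      rintro ⟨x, hx⟩
      obtain ⟨k, rfl⟩ := Subgroup.mem_zpowers_iff.1 hx
      refine ⟨1, Subtype.ext ?_⟩
      simp only [pow_one, SubmonoidClass.coe_pow, OneMemClass.coe_one]
      rw [← zpow_natCast, ← zpow_mul, mul_comm, zpow_mul, zpow_natCast, hy, one_zpow]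
    obtain ⟨P, hP⟩ := hp.exists_le_sylow
    obtain ⟨g, hg⟩ := MulAction.exists_smul_eq PSL(2, F) P (unipSylowPSL F 3)
    refine ⟨g, ?_⟩
    have h1 : g * y * g⁻¹ ∈ ((unipSylowPSL F 3 : Sylow 3 PSL(2, F)) : Subgroup PSL(2, F)) := by
      rw [← hg, Sylow.coe_subgroup_smul]
      exact ⟨y, hP (Subgroup.mem_zpowers y), rfl⟩
    rwa [coe_unipSylowPSL] at h1
  -- the circle
  let i : PSL(2, F) := mk ww
  have hww : (ww : SL(2, F)) ∈ circle F := ⟨rfl, by simp⟩
  have hns : ∀ c : F, c * c ≠ -1 := not_sq_neg_one hF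
  have hi1 : i ≠ 1 := fun h => by
    rcases mk_eq_one.1 h with h | h <;>
      simpa using congrArg (fun g : SL(2, F) => g 0 1) h
  have hi2 : i * i = 1 := by
    show mk ww * mk ww = 1
    rw [← map_mul, sq_eq_neg_one_of_tr_eq_zero (by simp [tr_def]), mk_neg_one]
  have hio : orderOf i = 2 := orderOf_eq_prime (by rw [pow_two]; exact hi2) hi1
  let U : Subgroup PSL(2, F) := (circle F).map mk
  haveI := circle_isCyclic h2
  haveI hUc : IsCyclic U :=
    isCyclic_of_surjective _ ((mk : SL(2, F) →* PSL(2, F)).subgroupMap_surjective (circle F))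
  have hU : Nat.card U = 2 * m := by
    have h := card_map_mk_mul (H := circle F) (fun g hg => by
      rcases mem_center_iff_pm.1 hg with rfl | rfl
      · exact one_mem _
      · exact ⟨by simp, by simp⟩)
    have hcz : Nat.card (Subgroup.center SL(2, F)) = 2 := by
      rw [PSL2.card_center, Nat.gcd_eq_left]
      rw [← hqdef]; omega
    have h1 := card_circle_of_not_sq hns h2
    rw [hcz, h1, ← hqdef] at h
    show Nat.card ↥((circle F).map mk) = _
    omega
  have hcommi : ∀ x : PSL(2, F), Commute x i → x ∈ U ∨ (x * x = 1 ∧ ∀ u ∈ U, x * u * x⁻¹ = u⁻¹) := by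
    intro x hx
    obtain ⟨h, rfl⟩ := mk_surjective x
    rcases psl_commute_iff.1 hx with e | e
    · left
      have e' : h * ww = ww * h := mul_inv_eq_iff_eq_mul.1 e
      have a := congrArg (fun m : SL(2, F) => m 0 0) e'
      have b := congrArg (fun m : SL(2, F) => m 0 1) e'
      simp only [mul00, mul01] at a b
      simp at a b
      exact ⟨h, ⟨b, by linear_combination -a⟩, rfl⟩
    · right
      have e' : h * ww = -ww * h := mul_inv_eq_iff_eq_mul.1 e
      have a := congrArg (fun m : SL(2, F) => m 0 0) e'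
      have b := congrArg (fun m : SL(2, F) => m 0 1) e'
      simp only [neg_mul, mul00, mul01] at a b
      simp [Matrix.mul_apply, Fin.sum_univ_two] at a b
      have hd := det_eq h
      have h00 : h 1 1 = -h 0 0 := by linear_combination b
      have h10 : h 1 0 = h 0 1 := by linear_combination -a
      have hcd : -(h 0 0) ^ 2 - (h 0 1) ^ 2 = 1 := by
        rw [h00, h10] at hd; linear_combination hd
      have hh : h = circleFlip (h 0 0) (h 0 1) hcd := by
        obtain ⟨e1, e2, e3, e4⟩ := circleFlip_entries (h 0 0) (h 0 1) hcd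
        exact ext2 e1.symm e2.symm (by rw [e3, h10]) (by rw [e4, h00])
      refine ⟨?_, ?_⟩
      · rw [hh, ← map_mul, circleFlip_mul_self, mk_neg_one]
      · rintro u ⟨g, hg, rfl⟩
        rw [mul_inv_eq_iff_eq_mul, hh, ← map_mul, circle_conj_flip hcd hg, map_mul, map_inv]
  have hUi : ∀ x ∈ U, Commute x i := by
    rintro x ⟨g, hg, rfl⟩
    haveI hcy := IsCyclic.isMulCommutative (α := circle F)
    exact Commute.map (congrArg Subtype.val (hcy.is_comm.comm ⟨g, hg⟩ ⟨ww, hww⟩)) mk
  have hUsq : ∀ x ∈ U, x * x = 1 → x = 1 ∨ x = i := by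
    rintro x ⟨g, hg, rfl⟩ hx
    rw [← map_mul] at hx
    rcases mk_eq_one.1 hx with h | h
    · left
      rcases eq_pm_of_mul_self_eq_one h2 h with rfl | rfl
      · exact map_one _
      · exact mk_neg_one
    · right
      have ht := tr_eq_zero_of_sq_eq_neg_one h
      rw [tr_def, ← hg.1] at ht
      have h00 : g 0 0 = 0 := (mul_eq_zero.1 (show (2 : F) * g 0 0 = 0 by linear_combination ht)).resolve_left h2
      have hd := circle_det hg
      rw [h00] at hd
      refine mk_eq_mk.2 ((mul_self_eq_one_iff.1 (show g 0 1 * g 0 1 = 1 by linear_combination hd)).imp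
        (fun h => ext2 (by simp [h00]) (by simp [h]) (by simp [hg.2, h]) (by simp [← hg.1, h00]))
        (fun h => ext2 (by simp [h00]) (by simp [h]) (by simp [hg.2, h]) (by simp [← hg.1, h00])))
  obtain ⟨z, hz⟩ := IsCyclic.exists_ofOrder_eq_natCard (α := U)
  rw [hU] at hz
  have hzo : orderOf (z : PSL(2, F)) = 2 * m := by rw [Subgroup.orderOf_coe, hz]
  have hgen : ∀ x ∈ U, ∃ k : ℕ, (z : PSL(2, F)) ^ k = x := by
    intro x hx
    have hx' : (⟨x, hx⟩ : U) ∈ Subgroup.zpowers z := by
      have : Subgroup.zpowers z = ⊤ := Subgroup.eq_top_of_card_eq _ (by rw [Nat.card_zpowers, hz, hU])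
      rw [this]; exact Subgroup.mem_top _
    obtain ⟨k, hk⟩ := (mem_powers_iff_mem_zpowers.2 hx' : (⟨x, hx⟩ : U) ∈ Submonoid.powers z)
    exact ⟨k, congrArg Subtype.val hk⟩
  let A : Subgroup PSL(2, F) := Subgroup.zpowers ((z : PSL(2, F)) ^ 2)
  have hAU : A ≤ U := (Subgroup.zpowers_le).2 (pow_mem z.2 2)
  have hAcard : Nat.card A = m := by
    rw [Nat.card_zpowers, orderOf_pow' _ two_ne_zero, hzo, Nat.gcd_mul_right_left,
      Nat.mul_div_cancel_left _ two_pos]
  have hm_odd : Odd m := Nat.odd_iff.2 (by omega)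
  have hmA : ∀ x : PSL(2, F), x ∈ A ↔ Commute x i ∧ x ^ m = 1 := by
    intro x
    constructor
    · intro hx
      refine ⟨hUi x (hAU hx), ?_⟩
      have h := pow_card_eq_one' (x := (⟨x, hx⟩ : A))
      rw [hAcard] at h
      exact congrArg Subtype.val h
    · rintro ⟨hc, hp⟩
      rcases hcommi x hc with hx | ⟨hx, -⟩
      · obtain ⟨k, rfl⟩ := hgen x hx
        rw [← pow_mul, ← orderOf_dvd_iff_pow_eq_one, hzo] at hp
        obtain ⟨l, rfl⟩ : 2 ∣ k := (Nat.mul_dvd_mul_iff_right (by omega : 0 < m)).1 hp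
        rw [pow_mul]
        exact Subgroup.pow_mem _ (Subgroup.mem_zpowers _) l
      · obtain ⟨r, hr⟩ := hm_odd
        rw [hr, pow_succ, pow_mul, pow_two, hx, one_pow, one_mul] at hp
        rw [hp]; exact one_mem _
  have hUA : ∀ x ∈ U, x ∈ A ∨ i * x ∈ A := by
    intro x hx
    have hxm : x ^ m * x ^ m = 1 := by
      have h := pow_card_eq_one' (x := (⟨x, hx⟩ : U))
      rw [hU] at h
      rw [← pow_add, ← two_mul]
      exact congrArg Subtype.val h
    rcases hUsq _ (pow_mem hx m) hxm with h | h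
    · exact Or.inl ((hmA x).2 ⟨hUi x hx, h⟩)
    · refine Or.inr ((hmA _).2 ⟨Commute.mul_left (Commute.refl i) (hUi x hx), ?_⟩)
      rw [(hUi x hx).symm.mul_pow, h]
      obtain ⟨r, hr⟩ := hm_odd
      rw [hr, pow_succ, pow_mul, pow_two, hi2, one_pow, one_mul, hi2]
  have hiU : i ∈ U := ⟨ww, hww, rfl⟩
  refine ⟨{
    hq := hq
    hm := hm
    hm_odd := hm_odd
    three_pow := ⟨_, hF⟩
    card_L := two_mul_card_PSL h2
    Q := Q
    card_Q := card_map_unip
    cent_Q := ?_
    Q_comm := hQcomm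
    Q_three := ?_
    card_normalizer_Q := ?_
    exists_conj_Q := hconjQ
    noreal := ?_
    two_exp := ?_
    conj_invol := involutions_conj h2
    i := i
    orderOf_i := hio
    A := A
    cyclicA := inferInstance
    card_A := hAcard
    mem_A := hmA
    cent_A := ?_
    card_cent_i := ?_
    outside := ?_ }⟩
  · intro y hy hy1
    obtain ⟨s, rfl⟩ := hQ y hy
    have hs : s ≠ 0 := fun h => hy1 (by rw [h, uu_zero, map_one])
    refine le_antisymm (fun x hx => ?_) fun x hx =>
      Subgroup.mem_centralizer_singleton_iff.2 (hQcomm x hx _ hy)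
    obtain ⟨g, rfl⟩ := mk_surjective x
    rcases psl_commute_iff.1 (Subgroup.mem_centralizer_singleton_iff.1 hx) with e | e
    · refine hQmem g ?_
      rw [← cent_uu hs, mem_cent]
      exact mul_inv_eq_iff_eq_mul.1 e
    · have := congrArg tr e
      rw [tr_conj, tr_neg, tr_uu] at this
      exact absurd (mul_self_eq_zero.1 (show (2 : F) * 2 = 0 by linear_combination this)) h2
  · intro y hy
    obtain ⟨s, rfl⟩ := hQ y hy
    rw [← map_pow, pow_succ, pow_two, uu_mul_uu, uu_mul_uu]
    rw [show s + s + s = 3 * s by ring, h30, zero_mul, uu_zero, map_one]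
  · rw [hQN]
    have h := card_map_mk_mul (H := borel F) (fun g hg => mem_borel.2 (mem_center_iff_entries.1 hg).2.1)
    have hcz : Nat.card (Subgroup.center SL(2, F)) = 2 := by
      rw [PSL2.card_center, Nat.gcd_eq_left]
      rw [← hqdef]; omega
    rw [hcz, card_borel', ← hqdef] at h
    rw [mul_comm, h, mul_comm]
  · intro y hy hy1 x hx
    obtain ⟨g, hg⟩ := hconjQ y hy
    obtain ⟨s, hs⟩ := hQ _ hg
    have hs0 : s ≠ 0 := fun h => hy1 (by
      rw [h, uu_zero, map_one] at hs
      exact conj_eq_one_iff.1 hs.symm)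
    refine noreal_unip hF hs0 (g * x * g⁻¹) ?_
    rw [hs]
    calc g * x * g⁻¹ * (g * y * g⁻¹) * (g * x * g⁻¹)⁻¹ = g * (x * y * x⁻¹) * g⁻¹ := by group
      _ = (g * y * g⁻¹)⁻¹ := by rw [hx]; group
  · intro x k hx
    haveI : Fact (Nat.Prime 2) := ⟨Nat.prime_two⟩
    obtain ⟨P, hP⟩ := (show IsPGroup 2 (Subgroup.zpowers x) by
      rintro ⟨y, hy⟩
      obtain ⟨l, rfl⟩ := Subgroup.mem_zpowers_iff.1 hy
      refine ⟨k, Subtype.ext ?_⟩
      simp only [SubmonoidClass.coe_pow, OneMemClass.coe_one]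
      rw [← zpow_natCast, ← zpow_mul, mul_comm, zpow_mul, zpow_natCast, hx, one_zpow]).exists_le_sylow
    obtain ⟨kk, -, hcard, ⟨d⟩⟩ := sylow_two_dihedral h2 P
    have hc4 : Nat.card (P : Subgroup PSL(2, F)) = 4 := card_sylow_two_psl (Or.inl h8) P
    rw [hcard] at hc4
    have hk1 : kk = 1 := by
      have h4 : 2 ^ kk = 2 ^ 1 := by omega
      exact Nat.pow_right_injective (le_refl 2) h4
    subst hk1
    have hd : ∀ g : DihedralGroup (2 ^ 1), g * g = 1 := by decide
    have hxx : (⟨x, hP (Subgroup.mem_zpowers x)⟩ : (P : Subgroup PSL(2, F))) * ⟨x, hP (Subgroup.mem_zpowers x)⟩ = 1 :=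
      d.injective (by rw [map_mul, map_one]; exact hd _)
    exact congrArg Subtype.val hxx
  · intro a ha ha1 x hx
    obtain ⟨g, hg, hga⟩ := hAU ha
    obtain ⟨h, rfl⟩ := mk_surjective x
    subst hga
    refine hUA _ ?_
    have hg01 : g 0 1 ≠ 0 := fun h0 => by
      rcases eq_pm_of_circle_of_zero h2 hg h0 with rfl | rfl
      · exact ha1 (map_one _)
      · exact ha1 mk_neg_one
    rcases psl_commute_iff.1 hx with e | e
    · have e' : h * g = g * h := mul_inv_eq_iff_eq_mul.1 e
      have a1 := congrArg (fun m : SL(2, F) => m 0 0) e'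
      have b1 := congrArg (fun m : SL(2, F) => m 0 1) e'
      simp only [mul00, mul01, hg.2, ← hg.1] at a1 b1
      refine ⟨h, ⟨?_, ?_⟩, rfl⟩
      · exact mul_left_cancel₀ hg01 (by linear_combination b1)
      · exact mul_left_cancel₀ hg01 (by linear_combination -a1)
    · have ht := congrArg tr e
      rw [tr_conj, tr_neg] at ht
      have ht0 : tr g = 0 :=
        (mul_eq_zero.1 (show (2 : F) * tr g = 0 by linear_combination ht)).resolve_left h2
      have hgg : mk g * mk g = 1 := by
        rw [← map_mul, sq_eq_neg_one_of_tr_eq_zero ht0, mk_neg_one]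
      have hp := ((hmA _).1 ha).2
      obtain ⟨r, hr⟩ := hm_odd
      rw [hr, pow_succ, pow_mul, pow_two, hgg, one_pow, one_mul] at hp
      exact absurd hp ha1
  · obtain ⟨c, d, hcd⟩ := exists_flip (F := F) h2
    set j : PSL(2, F) := mk (circleFlip c d hcd) with hj
    have hjinv : ∀ u ∈ U, j * u * j⁻¹ = u⁻¹ := by
      rintro u ⟨g, hg, rfl⟩
      rw [mul_inv_eq_iff_eq_mul, hj, ← map_mul, circle_conj_flip hcd hg, map_mul, map_inv]
    have hji : Commute j i := by
      have h := hjinv i hiU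
      rw [inv_eq_of_mul_eq_one_right hi2] at h
      exact mul_inv_eq_iff_eq_mul.1 h
    have hjU : j ∉ U := by
      rintro ⟨g, hg, hgj⟩
      obtain ⟨e1, e2, e3, e4⟩ := circleFlip_entries c d hcd
      rcases mk_eq_mk.1 hgj with rfl | rfl
      · obtain ⟨u1, u2⟩ := hg
        rw [e1, e4] at u1; rw [e3, e2] at u2
        have hc0 : c = 0 := (mul_eq_zero.1 (show (2 : F) * c = 0 by linear_combination u1)).resolve_left h2
        have hd0 : d = 0 := (mul_eq_zero.1 (show (2 : F) * d = 0 by linear_combination u2)).resolve_left h2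
        rw [hc0, hd0] at hcd; simp at hcd
      · obtain ⟨u1, u2⟩ := hg
        simp only [Matrix.SpecialLinearGroup.coe_neg, Matrix.neg_apply, e1, e4, e2, e3] at u1 u2
        have hc0 : c = 0 := (mul_eq_zero.1 (show (2 : F) * c = 0 by linear_combination -u1)).resolve_left h2
        have hd0 : d = 0 := (mul_eq_zero.1 (show (2 : F) * d = 0 by linear_combination -u2)).resolve_left h2
        rw [hc0, hd0] at hcd; simp at hcd
    have hjj : j * j = 1 := by rw [hj, ← map_mul, circleFlip_mul_self, mk_neg_one]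
    have hnotboth : ∀ x : PSL(2, F), x ∈ U → ¬ ∀ u ∈ U, x * u * x⁻¹ = u⁻¹ := by
      intro x hx h
      haveI hcy := IsCyclic.isMulCommutative (α := U)
      have hc := congrArg Subtype.val (hcy.is_comm.comm ⟨x, hx⟩ z)
      simp only [Subgroup.coe_mul] at hc
      have h' := h _ z.2
      rw [hc, mul_inv_cancel_right, eq_inv_iff_mul_eq_one, ← pow_two,
        ← orderOf_dvd_iff_pow_eq_one, hzo] at h'
      have := Nat.le_of_dvd two_pos h'
      omega
    let φ : U ⊕ U → ↥(Subgroup.centralizer ({i} : Set PSL(2, F))) := Sum.elim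
      (fun u => ⟨u, Subgroup.mem_centralizer_singleton_iff.2 (hUi _ u.2)⟩)
      (fun u => ⟨j * u, Subgroup.mem_centralizer_singleton_iff.2 (Commute.mul_left hji (hUi _ u.2))⟩)
    have hφ : Function.Bijective φ := by
      refine ⟨?_, fun x => ?_⟩
      · rintro (a | a) (b | b) h <;> have h' := congrArg Subtype.val h <;>
          simp only [φ, Sum.elim_inl, Sum.elim_inr] at h'
        · exact congrArg Sum.inl (Subtype.ext h')
        · exact absurd ((Subgroup.mul_mem_cancel_right U b.2).1 (h' ▸ a.2)) hjU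
        · exact absurd ((Subgroup.mul_mem_cancel_right U a.2).1 (h'.symm ▸ b.2)) hjU
        · exact congrArg Sum.inr (Subtype.ext (mul_left_cancel h'))
      · by_cases hx : (x : PSL(2, F)) ∈ U
        · exact ⟨Sum.inl ⟨_, hx⟩, Subtype.ext rfl⟩
        · have hjx : j * (x : PSL(2, F)) ∈ U := by
            rcases hcommi _ (Commute.mul_left hji (Subgroup.mem_centralizer_singleton_iff.1 x.2)) with h | ⟨-, h⟩
            · exact h
            · rcases hcommi _ (Subgroup.mem_centralizer_singleton_iff.1 x.2) with h' | ⟨-, h'⟩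
              · exact absurd h' hx
              · exfalso
                have hz2 := h (z : PSL(2, F)) z.2
                rw [show j * (x : PSL(2, F)) * z * (j * x)⁻¹ = j * ((x : PSL(2, F)) * z * (x : PSL(2, F))⁻¹) * j⁻¹ by group,
                  h' _ z.2, hjinv _ (inv_mem z.2), inv_inv, eq_inv_iff_mul_eq_one, ← pow_two,
                  ← orderOf_dvd_iff_pow_eq_one, hzo] at hz2
                have := Nat.le_of_dvd two_pos hz2
                omega
          refine ⟨Sum.inr ⟨_, hjx⟩, Subtype.ext ?_⟩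
          show j * (j * (x : PSL(2, F))) = x
          rw [← mul_assoc, hjj, one_mul]
    rw [← Nat.card_congr (Equiv.ofBijective φ hφ), Nat.card_sum, hU]
    omega
  · intro x hx hxA hixA
    rcases hcommi x hx with h | ⟨h, h'⟩
    · exact absurd (hUA x h) (by tauto)
    · exact ⟨h, fun a ha => h' a (hAU ha)⟩

end Cfsg.Agent.ReeS3
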