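import Cfsg.Agent.Lib.ReeS3.Main
import Cfsg.Agent.Lib.ReeS3.PSLThree
import Cfsg.Agent.Lib.EightSylow.Fusion
import Cfsg.Agent.Lib.PSL2.Klein
import Cfsg.Prelude.Def_LocalEven

/-!
# Groups of Ree type involve `S₃` and have elementary abelian Sylow 2-subgroups
-/

set_option autoImplicit false
set_option linter.style.haveILetI false

namespace Cfsg.Agent.ReeS3

open Subgroup
open scoped MatrixGroups
open Cfsg.Agent.PSL2

universe u

variable {G : Type u} [Group G] [Finite G]

/-- A setup from the definition. -/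
theorem exists_setup (hG : Cfsg.IsReeType G) :
    ∃ (F : Type) (_ : Field F) (_ : Fintype F) (n : ℕ), 1 ≤ n ∧ Fintype.card F = 3 ^ (2 * n + 1) ∧
      Nonempty (Setup G PSL(2, F)) ∧ (∀ x : G, ∀ k : ℕ, x ^ (2 ^ k) = 1 → x * x = 1) := by
  obtain ⟨hs, hna, t, K, n, hn, ht, hodd, ⟨htC, hKC, hcomm, hinf, hsup⟩, F, fi, ff, hF, ⟨e⟩⟩ := hG
  haveI := hs
  refine ⟨F, fi, ff, n, hn, hF, ?_⟩
  haveI : Fact (Nat.Prime 2) := ⟨Nat.prime_two⟩
  obtain ⟨D⟩ := data hn hF
  let ι : PSL(2, F) →* G := K.subtype.comp e.symm.toMonoidHom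
  have hιi : Function.Injective ι := K.subtype_injective.comp e.symm.injective
  have htt : t * t = 1 := by rw [← pow_two, ← ht, pow_orderOf_eq_one]
  have hcom : ∀ l, Commute (ι l) t := fun l => ((hcomm t (mem_zpowers t) _ (e.symm l).2 :) :
    t * ι l = ι l * t).symm
  have hne : ∀ l, ι l ≠ t := by
    intro l h
    have hmem : t ∈ zpowers t ⊓ K := ⟨mem_zpowers t, h ▸ (e.symm l).2⟩
    rw [hinf, mem_bot] at hmem
    rw [hmem, orderOf_one] at ht
    omega
  have hK : ∀ k ∈ K, ∃ l, k = ι l := fun k hk => ⟨e ⟨k, hk⟩, by simp [ι]⟩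
  have hdec : ∀ x : G, Commute x t → ∃ l, x = ι l ∨ x = t * ι l := by
    intro x hx
    have hmem : x ∈ zpowers t ⊔ K := hsup ▸ mem_centralizer_singleton_iff.2 hx.eq
    have hle : zpowers t ≤ normalizer (K : Set G) := by
      rw [zpowers_le]
      refine mem_normalizer_iff.2 fun k => ?_
      constructor
      · intro hk
        rw [hcomm t (mem_zpowers t) k hk, mul_inv_cancel_right]
        exact hk
      · intro hk
        have h := hcomm t (mem_zpowers t) _ hk
        have : t * k * t⁻¹ = k := by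
          have h' := congrArg (fun z => t⁻¹ * z) h
          simp only [mul_assoc, inv_mul_cancel_left, inv_mul_cancel, mul_one] at h'
          rw [mul_assoc]; exact h'
        rwa [this] at hk
    rw [← SetLike.mem_coe, Subgroup.coe_mul_of_left_le_normalizer_right _ _ hle] at hmem
    obtain ⟨a, ⟨j, rfl⟩, k, hk, rfl⟩ := hmem
    obtain ⟨l, rfl⟩ := hK k hk
    refine ⟨l, ?_⟩
    have htz : t ^ (2 : ℤ) = 1 := by rw [zpow_two, htt]
    rcases Int.even_or_odd' j with ⟨r, rfl | rfl⟩
    · left; simp [zpow_mul, htz]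
    · right; simp [zpow_add, zpow_mul, htz]
  have hno : ∀ l, t * ι l ≠ 1 := fun l h =>
    hne l⁻¹ (by rw [map_inv, ← eq_inv_of_mul_eq_one_left h])
  -- 2-elements of the centraliser
  have hexpC : ∀ x : G, Commute x t → ∀ k : ℕ, x ^ (2 ^ k) = 1 → x * x = 1 := by
    intro x hx k hk
    obtain ⟨l, rfl | rfl⟩ := hdec x hx
    · rw [← map_mul, D.two_exp l k (hιi (by rw [map_pow, hk, map_one])), map_one]
    · have h2 : (t * ι l) * (t * ι l) = ι (l * l) := by
        rw [show t * ι l * (t * ι l) = t * (ι l * t) * ι l by group, (hcom l).eq, ← mul_assoc, htt,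
          one_mul, map_mul]
      rw [h2, D.two_exp l (k + 1) (hιi (by
        rw [map_pow, pow_succ', pow_mul, pow_two, ← map_mul, ← h2, ← pow_two, ← pow_mul, mul_comm, pow_mul, hk,
          one_pow, map_one])), map_one]
  have hC8 : (Nat.card (centralizer ({t} : Set G))).factorization 2 = 3 := by
    have hcard : Nat.card (centralizer ({t} : Set G)) = 2 * Nat.card PSL(2, F) := by
      rw [show 2 * Nat.card PSL(2, F) = Nat.card (Bool × PSL(2, F)) by simp [Nat.card_prod]]
      symm
      refine Nat.card_eq_of_bijective (fun p => (⟨(if p.1 then t else 1) * ι p.2,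
        mem_centralizer_singleton_iff.2 ((Commute.mul_left (by split_ifs <;> simp) (hcom p.2)) :
          Commute _ t).eq⟩ : centralizer ({t} : Set G))) ⟨?_, ?_⟩
      · rintro ⟨b, l⟩ ⟨b', l'⟩ h
        have h' := congrArg Subtype.val h
        have hx : ∀ a c, t * ι a ≠ ι c := fun a c h => hne (c * a⁻¹) (by
          rw [map_mul, map_inv, ← h, mul_inv_cancel_right])
        cases b <;> cases b' <;> simp only [Bool.false_eq_true, if_true, if_false, one_mul] at h'
        · rw [hιi h']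
        · exact absurd h'.symm (hx _ _)
        · exact absurd h' (hx _ _)
        · rw [hιi (mul_left_cancel h')]
      · intro x
        obtain ⟨l, hl | hl⟩ := hdec x (mem_centralizer_singleton_iff.1 x.2)
        · exact ⟨(false, l), Subtype.ext (by simp [hl])⟩
        · exact ⟨(true, l), Subtype.ext (by simp [hl])⟩
    rw [hcard, D.card_L]
    set q := Fintype.card F
    have hq8 : q % 8 = 3 := hF ▸ three_pow_mod_eight n
    obtain ⟨j, hj⟩ : ∃ j, q ^ 2 - 1 = 8 * (2 * j + 1) := by
      have hsq : q ^ 2 % 16 = 9 := by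
        rw [Nat.pow_mod]
        rcases (by omega : q % 16 = 3 ∨ q % 16 = 11) with e | e <;> rw [e]
      exact ⟨(q ^ 2 - 1) / 16, by omega⟩
    rw [hj, show q * (8 * (2 * j + 1)) = 2 ^ 3 * (q * (2 * j + 1)) by ring,
      Nat.factorization_mul (by norm_num) (by have : 0 < q := Fintype.card_pos; positivity),
      Nat.Prime.factorization_pow Nat.prime_two, Finsupp.add_apply, Finsupp.single_eq_same,
      Nat.factorization_eq_zero_of_not_dvd]
    intro h
    rcases Nat.prime_two.dvd_mul.1 h with h | h <;> omega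
  -- a Sylow subgroup inside the centraliser
  let T : Sylow 2 (centralizer ({t} : Set G)) := default
  set S0 := (T : Subgroup (centralizer ({t} : Set G))).map (centralizer ({t} : Set G)).subtype with hS0
  have hS0c : Nat.card S0 = 8 := by
    rw [hS0, Subgroup.card_map_of_injective (Subgroup.subtype_injective _), T.card_eq_multiplicity, hC8]
    norm_num
  obtain ⟨S, hS⟩ := ((T.2.map _) : IsPGroup 2 S0).exists_le_sylow
  have hfac : (Nat.card G).factorization 2 = 3 := by
    rw [← (centralizer ({t} : Set G)).card_mul_index, Nat.factorization_mul Nat.card_pos.ne'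
      index_ne_zero_of_finite, Finsupp.add_apply, hC8, Nat.factorization_eq_zero_of_not_dvd]
    rw [← even_iff_two_dvd, Nat.not_even_iff_odd]
    exact hodd
  have hS8 : Nat.card (S : Subgroup G) = 8 := by rw [S.card_eq_multiplicity, hfac]; norm_num
  have hSeq : (S : Subgroup G) = S0 := (Subgroup.eq_of_le_of_card_ge hS (by rw [hS0c, hS8])).symm
  have hSexp : ∀ x ∈ (S : Subgroup G), x * x = 1 := by
    intro x hx
    rw [hSeq] at hx
    obtain ⟨y, hy, rfl⟩ := hx
    obtain ⟨k, hk⟩ := T.2 ⟨y, hy⟩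
    exact hexpC _ (mem_centralizer_singleton_iff.1 y.2) k
      (congrArg (fun z : T => ((z : centralizer ({t} : Set G)) : G)) hk)
  have hSel : Cfsg.IsElementaryAbelian 2 (S : Subgroup G) := by
    refine ⟨⟨⟨fun a b => Subtype.ext ?_⟩⟩, fun a ha => by rw [pow_two]; exact hSexp a ha⟩
    have hi : ∀ c ∈ (S : Subgroup G), c⁻¹ = c := fun c hc => inv_eq_of_mul_eq_one_right (hSexp c hc)
    show (a : G) * b = b * a
    calc (a : G) * b = ((a : G) * b)⁻¹ := (hi _ (mul_mem a.2 b.2)).symm
      _ = b * a := by rw [mul_inv_rev, hi a a.2, hi b b.2]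
  have hconj : ∀ x y : G, orderOf x = 2 → orderOf y = 2 → ∃ g : G, g * x * g⁻¹ = y := fun x y hx hy =>
    isConj_iff.1 (EightSylow.isConj_involution S hSel hS8 (EightSylow.commutator_eq_top hna) hx hy)
  refine ⟨⟨⟨t, ht, ι, hιi, hne, hcom, hdec, hconj⟩⟩, ?_⟩
  intro x k hk
  have hp : IsPGroup 2 (zpowers x) := IsPGroup.of_card (n := (orderOf x).factorization 2) (by
    rw [Nat.card_zpowers]
    obtain ⟨j, -, hj⟩ := (Nat.dvd_prime_pow Nat.prime_two).1 (orderOf_dvd_of_pow_eq_one hk)
    rw [hj, Nat.Prime.factorization_pow Nat.prime_two, Finsupp.single_eq_same])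
  obtain ⟨P, hP⟩ := hp.exists_le_sylow
  obtain ⟨g, hg⟩ := MulAction.exists_smul_eq G P S
  have h1 : g * x * g⁻¹ ∈ (S : Subgroup G) := by
    rw [← hg, Sylow.coe_subgroup_smul]
    exact ⟨x, hP (mem_zpowers x), rfl⟩
  have h2 := hSexp _ h1
  rw [show g * x * g⁻¹ * (g * x * g⁻¹) = g * (x * x) * g⁻¹ by group] at h2
  exact conj_eq_one_iff.1 h2

theorem ree_exp (hG : Cfsg.IsReeType G) : ∀ x : G, ∀ k : ℕ, x ^ (2 ^ k) = 1 → x * x = 1 := by
  obtain ⟨_, _, _, _, _, _, -, h⟩ := exists_setup hG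
  exact h

theorem ree_involves_three (hG : Cfsg.IsReeType G) : Cfsg.Involves (Equiv.Perm (Fin 3)) G := by
  obtain ⟨F, _, _, n, hn, hF, ⟨S⟩, -⟩ := exists_setup hG
  obtain ⟨D⟩ := data hn hF
  obtain ⟨g, w, hL⟩ := exists_lift_exists (F := F) (two_ne_zero' hF)
  obtain ⟨ρ, -, h1, h2, -⟩ := exists_rot_psl hL
  obtain ⟨ha, hb, hc, hab⟩ := hL.isInvPair
  exact S.involves_three D ⟨mk g, mk w, ρ, ha, hb, hab, hc, h1, h2⟩

end Cfsg.Agent.ReeS3
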